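import Cfsg.Agent.SE.Main
import Cfsg.Agent.Inv.Suz5

/-! # Bender's theorem: the final rows -/

set_option autoImplicit false
set_option linter.unusedVariables false
set_option linter.unusedSectionVars false

namespace Cfsg.Agent.SE
open Cfsg Cfsg.Agent.BG Cfsg.Agent.Inv MulAction Subgroup
open scoped commutatorElement MatrixGroups

section
variable {G Ω : Type*} [Group G] [Finite G] [MulAction G Ω] {M Q X : Subgroup G} {a : Ω} {t : G}

/-- an odd order normal subgroup of the point stabilizer is trivial -/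
theorem r1_odd_eq_bot [FaithfulSMul G Ω] (R : R1 G Ω a t Q) (h4 : Four G) (hX : Odd #X)
    (h1 : X ≤ St G a) (h2 : St G a ≤ N[X]) : X = ⊥ := by
  have q2 : PiG {2} Q := (pig_iff Nat.prime_two).2 (R.isTT h4).two
  have x2 := pig2_of_odd hX
  have c : X ≤ C[Q] := cent_of_norm_inf (h1.trans R.norm) (R.le.trans h2) (x2.inf_bot' q2)
  refine (eq_bot_iff_forall _).2 fun x hx => eq_of_smul_eq_smul (α := Ω) fun b => ?_
  rw [one_smul]
  by_cases e : b = a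
  · exact e ▸ h1 hx
  obtain ⟨q, hq, e1⟩ := R.trans e (R.smul_ne (h1 hx) e)
  have o := (pig2_of_odd (R.odd_St2 e)).elt ((mem_St2 (g := q⁻¹ * x)).2
    ⟨by rw [mul_smul, ← e1, inv_smul_smul], (St G a).mul_mem ((St G a).inv_mem (R.le hq)) (h1 hx)⟩)
  have := o.mul (x2.elt hx).inv (by
    rw [mul_inv_cancel_right, ← mul_assoc, ← mem_C.1 (c (inv_mem hx)) _ (inv_mem hq), inv_mul_cancel_right])
  rw [mul_inv_cancel_right] at this
  rw [← e1, inv_eq_one.1 ((q2.elt (inv_mem hq)).eq_one this), one_smul]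

theorem Concl.le_Ker (h : Concl M a Q) (S : Fix1 G Ω) (h4 : FourIn (M ⊓ St G a)) (hM : ¬ M ≤ St G a)
    (hX : Odd #X) (h1 : X ≤ M ⊓ St G a) (h2 : M ⊓ St G a ≤ N[X]) : X ≤ Ker M a := by
  obtain ⟨s, hs, -, -, s2, -⟩ := id h4
  have hs' : s ∈ Iv M a := ⟨hs.1, s2, hs.2⟩
  obtain ⟨t, htM, ht, ha⟩ := S.exists_move hM hs'
  have st := pm_St (pt (Orb.refl M a))
  rw [← pm_ker, ← PHom.im_eq_bot_iff (φ := pm M a) (h1.trans inf_le_left)]
  exact r1_odd_eq_bot (h.r1 S hs' ht htM ha) (S.pm_four hM (h4.mono inf_le_left))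
    (hX.of_dvd_nat (PHom.card_im_dvd _)) (le_trans (PHom.im_mono h1) st.le) (st.ge.trans (PHom.im_norm h2))
end

variable {G : Type*} [Group G] [Finite G] {H : Subgroup G}

theorem st_one (H : Subgroup G) : St G ((1 : G) : G ⧸ H) = H := stabilizer_quotient H
theorem mk_ne {g : G} : (g : G ⧸ H) ≠ (1 : G) ↔ g ∉ H := by simp [QuotientGroup.eq]
theorem orb_top (b c : G ⧸ H) : Orb (⊤ : Subgroup G) b c :=
  (exists_smul_eq G b c).imp fun _ h => ⟨mem_top _, h⟩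

theorem fix1_of_se (hH : IsStronglyEmbedded H) : Fix1 G (G ⧸ H) := by
  obtain ⟨t, t1, t2⟩ := exists_involution_mem hH.2.1
  refine ⟨fun s hs => ?_, fun {s a b} hs => QuotientGroup.induction_on a fun g =>
    QuotientGroup.induction_on b fun k h1 h2 => QuotientGroup.eq.2 ?_⟩
  · obtain ⟨c, rfl⟩ := isConj_iff.1 (se_isConj hH t2 hs)
    exact ⟨(c : G), smul_mk_eq_iff.2 (by simpa [mul_assoc] using t1)⟩
  · refine se_mem hH (smul_mk_eq_iff.1 h2) (by simpa using ord_conj hs k⁻¹) ?_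
    simpa [mul_assoc] using smul_mk_eq_iff.1 h1

theorem not_le_se (hH : IsStronglyEmbedded H) : ¬ ⊤ ≤ St G ((1 : G) : G ⧸ H) := by
  rw [st_one, top_le_iff]; exact hH.1

theorem four_se (hH : IsStronglyEmbedded H) (h : FourIn (⊤ : Subgroup G)) :
    FourIn (⊤ ⊓ St G ((1 : G) : G ⧸ H)) := by
  obtain ⟨t, t1, t2⟩ := exists_involution_mem hH.2.1
  exact (fix1_of_se hH).four_St t2 (mem_top t) (by rwa [← mem_St, st_one]) (not_le_se hH) h (Orb.refl _ _)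

theorem concl_se (hH : IsStronglyEmbedded H) (h : FourIn (⊤ : Subgroup G)) :
    ∃ Q, Concl (⊤ : Subgroup G) ((1 : G) : G ⧸ H) Q := bender (fix1_of_se hH) _ _ (four_se hH h) (not_le_se hH)

theorem sup_se (hH : IsStronglyEmbedded H) (h : ¬ FourIn (⊤ : Subgroup G)) : oddCore G ⊔ H = ⊤ := by
  obtain ⟨t, t1, t2⟩ := exists_involution_mem hH.2.1
  refine eq_top_iff.2 fun g _ => ?_
  obtain ⟨o, ho, v, hv, rfl⟩ := rk1_prod h t2 (mem_top t) (mem_top g)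
  exact mul_mem_sup (by rwa [oddCore, pPrimeCore_eq Nat.prime_two])
    (se_mem_of_commute hH t1 t2 (mem_C1.1 hv.2))

theorem syl_of_not_four (h : ¬ FourIn (⊤ : Subgroup G)) (S : Sylow 2 G) :
    IsCyclic S ∨ ∃ m : ℕ, 1 ≤ m ∧ Nonempty ((S : Subgroup G) ≃* QuaternionGroup (2 ^ m)) := by
  refine (Core.isCyclic_or_quaternion_of_unique S.isPGroup' fun x y hx hy hy1 => ?_).imp_right
    fun ⟨_, n, h⟩ => ⟨n + 1, by omega, h⟩
  by_cases x1 : x = 1
  · exact x1 ▸ one_mem _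
  have o : ∀ x : (S : Subgroup G), x ^ 2 = 1 → x ≠ 1 → orderOf (x : G) = 2 := fun x a b => by
    rw [orderOf_coe]; exact orderOf_eq_prime a b
  have p := (pig_iff Nat.prime_two).2 S.isPGroup'
  have := (p.elt (mul_mem x.2 y.2)).eq_one ((O_pig _ _).elt
    (rk1_mul h (o x hx x1) (mem_top _) (o y hy hy1) (mem_top _)))
  rw [show x = y⁻¹ from Subtype.ext (eq_inv_of_mul_eq_one_left this)]
  exact inv_mem (mem_zpowers y)

theorem s1220 (hH : IsStronglyEmbedded H) :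
    (∀ g₁ g₂ : G, g₁ ∉ H → g₂ ∉ H → ∃ h ∈ H, g₂⁻¹ * (h * g₁) ∈ H) ∨ ((∀ S : Sylow 2 G, IsCyclic S ∨
      ∃ m : ℕ, 1 ≤ m ∧ Nonempty ((S : Subgroup G) ≃* QuaternionGroup (2 ^ m))) ∧ oddCore G ⊔ H = ⊤) := by
  by_cases h : FourIn (⊤ : Subgroup G)
  · obtain ⟨Q, hQ⟩ := concl_se hH h
    refine .inl fun g k hg hk => ?_
    obtain ⟨q, hq, e⟩ := hQ.trans g k (orb_top _ _) (orb_top _ _) (mk_ne.2 hg) (mk_ne.2 hk)
    exact ⟨q, st_one H ▸ (hQ.le hq).2, mul_assoc k⁻¹ q g ▸ smul_mk_eq_iff.1 e⟩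
  · exact .inr ⟨syl_of_not_four h, sup_se hH h⟩

theorem s1221 (hH : IsStronglyEmbedded H) : (oddCore H).map H.subtype ≤ oddCore G := by
  rw [oddCore, oddCore, pPrimeCore_map Nat.prime_two, pPrimeCore_eq Nat.prime_two]
  by_cases h : FourIn (⊤ : Subgroup G)
  · obtain ⟨Q, hQ⟩ := concl_se hH h
    have S := fix1_of_se hH
    refine (hQ.le_Ker S (four_se hH h) (not_le_se hH) (odd_O H) ?_ ?_).trans
      (le_O le_top (Ker_norm _ _) (pig2_of_odd (S.odd_Ker (not_le_se hH))))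
    · rw [st_one, top_inf_eq]; exact O_le _ _
    · rw [st_one, top_inf_eq]; exact O_norm _ _
  · have e := sup_se hH h
    rw [oddCore, pPrimeCore_eq Nat.prime_two] at e
    refine le_sup_right.trans (le_O le_top ?_ ((O_pig _ ⊤).sup_l (O_pig _ H) (le_top.trans (O_norm _ _))))
    exact e.ge.trans (sup_le (le_sup_left.trans le_normalizer) (normY (le_top.trans (O_norm _ _)) (O_norm _ _)))

theorem Ker_se (hc : H.normalCore = ⊥) : Ker (⊤ : Subgroup G) ((1 : G) : G ⧸ H) = ⊥ :=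
  have := normal_iff.2 (Ker_norm (⊤ : Subgroup G) ((1 : G) : G ⧸ H))
  eq_bot_iff.2 (hc ▸ normal_le_normalCore.2 ((Ker_le_St (Orb.refl _ _)).trans (st_one H).le))

theorem s1223 (hH : IsStronglyEmbedded H) (hc : H.normalCore = ⊥) {u : G} (hu : orderOf u = 2) (huH : u ∉ H)
    {j : G} (hj : j ∈ H ⊓ cj u H) (hj1 : j ≠ 1) (hi : u * j * u⁻¹ = j⁻¹) : Odd #C1[j] := by
  have S := fix1_of_se hH
  by_contra o
  obtain ⟨w, hw, w2⟩ := exists_ord_two o
  have oj : Odd (orderOf j) := odd_ord_of_mem (hH.2.2 u huH) hj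
  have n1 := t_norm_zp hi
  have n2 : u ∉ C[zpowers j] := by rw [C_zpowers]; exact fun e => ne_of_inv oj hi hj1 (mem_C1.2 (mem_C1.1 e).symm)
  rw [← C_zpowers] at hw
  by_cases h : FourIn (⊤ : Subgroup G)
  · obtain ⟨Q, hQ⟩ := concl_se hH h
    obtain ⟨c, hc'⟩ := S.ex u hu
    have := hQ.inv_ker S h (not_le_se hH) (orb_top _ c) ⟨mem_top _, hu, hc'⟩ (mem_top j)
      (S.F4 hu hc' n1 n2 w2 hw (le_normalizer (mem_zpowers j))) oj hi
    rw [Ker_se hc] at this; exact hj1 this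
  · obtain ⟨o, ho, rfl⟩ := rk1_conj (M := N[zpowers j]) (fun f => h (f.mono le_top)) w2 (C_le_N _ hw) hu n1
    exact n2 (conj_mem (normC (O_le _ _)  ho) hw)

theorem r1_se [IsSimpleGroup G] (hH : IsStronglyEmbedded H) :
    Four G ∧ ∃ t Q, R1 G (G ⧸ H) ((1 : G) : G ⧸ H) t Q := by
  have S := fix1_of_se hH
  obtain ⟨s, s1, s2⟩ := exists_involution_mem hH.2.1
  have h4 := four_of_simple (not_cyclic_of_sub hH.1 fun e => by simpa [e] using hH.2.1) s2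
  obtain ⟨x, y, a1, a2, a3, a4, a5, a6⟩ := id h4
  obtain ⟨Q, hQ⟩ := concl_se hH ⟨x, mem_top _, y, mem_top _, ord2_iff.2 ⟨a4, a1⟩, ord2_iff.2 ⟨a5, a2⟩, a3, a6⟩
  have k := Ker_se (H.normalCore_normal.eq_bot_or_eq_top.resolve_right
    fun e => hH.1 (eq_top_iff.2 (e.ge.trans H.normalCore_le)))
  obtain ⟨b, -, hb⟩ := exists_orb_ne (not_le_se hH)
  obtain ⟨t, -, R⟩ := exists_R1 (Q := Q) hb (fun c => exists_smul_eq G _ c) (hQ.le.trans inf_le_right)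
    (le_trans (le_inf le_top le_rfl) hQ.norm) (fun c hc => hQ.trans b c (orb_top _ _) (orb_top _ _) hb hc)
    (fun u hu e => by have := hQ.reg u hu b (orb_top _ _) hb e; rwa [k] at this)
    (by rw [stabilizer_quotient]; exact hH.2.1) (S.odd_St2 hb.symm)
  exact ⟨h4, t, Q, R⟩

theorem s0222 [IsSimpleGroup G] (hH : IsStronglyEmbedded H) :
    (∃ (F : Type) (_ : Field F) (_ : Fintype F), CharP F 2 ∧ 4 ≤ Fintype.card F ∧ Nonempty (G ≃* PSL(2, F))) ∨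
    Cfsg.IsSuzuki G ∨ (∃ (F : Type) (_ : Field F) (_ : Fintype F) (q : ℕ), Fintype.card F = q ^ 2 ∧ Even q ∧
      4 ≤ q ∧ Nonempty (G ≃* Cfsg.PSU 3 F q)) := by
  obtain ⟨-, t, Q, R⟩ := r1_se hH
  have l : Q ≤ H := st_one H ▸ R.le
  exact s1222 H hH Q l ((normal_subgroupOf_iff_le_normalizer l).2 (st_one H ▸ R.norm))
    (fun g k hg hk => (R.trans (mk_ne.2 hg) (mk_ne.2 hk)).imp fun u hu =>
      ⟨hu.1, mul_assoc k⁻¹ u g ▸ smul_mk_eq_iff.1 hu.2⟩)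
    fun g hg u hu e => R.free hu (mk_ne.2 hg) (smul_mk_eq_iff.2 (by rwa [mul_assoc]))

/-- Bender's theorem for simple groups -/
theorem s1792 [IsSimpleGroup G] (hH : IsStronglyEmbedded H) :
    ((∃ (F : Type) (_ : Field F) (_ : Fintype F) (n : ℕ), 2 ≤ n ∧ Fintype.card F = 2 ^ n ∧ Nonempty (G ≃* PSL(2, F))) ∨
      Cfsg.Lie.IsoSuzuki G ∨ (∃ (F : Type) (_ : Field F) (_ : Fintype F) (n : ℕ), 2 ≤ n ∧
        Fintype.card F = (2 ^ n) ^ 2 ∧ Nonempty (G ≃* Cfsg.PSU 3 F (2 ^ n)))) ∧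
    ∃ S : Sylow 2 G, H = normalizer ((S : Subgroup G) : Set G) := by
  obtain ⟨h4, t, Q, R⟩ := r1_se hH
  have := faithful_quot hH.1
  obtain ⟨P, hP⟩ := (s1119 R).2.2.2.1
  refine ⟨(R.simple_class' h4).imp_left fun ⟨F, _, _, ⟨n, a, b⟩, c⟩ => ⟨F, _, _, n, a, b, c⟩, P, ?_⟩
  rw [← P.is_maximal' (R.isTT h4).two hP, (s1118 R).2.1, stabilizer_quotient]

end Cfsg.Agent.SE
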