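import Cfsg.Agent.SE.Defs

/-!
# Bender reduction: basic facts (no induction hypothesis)

Throughout `t` is an involution.  `kc t X = |X : C_X(t)|`, `tc t X = [X,t]` for odd `t`-invariant `X`.
-/

set_option autoImplicit false
set_option linter.unusedVariables false
set_option linter.unusedSectionVars false

namespace Cfsg.Agent.SE
open Cfsg Cfsg.Agent.BG Cfsg.Agent.Inv MulAction Subgroup PHom

variable {G Ω : Type*} [Group G] [Finite G] [MulAction G Ω]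
variable {M N X Y P : Subgroup G} {a b c d : Ω} {t s s' u k g w f : G} {p : ℕ}

/-! ### odd order groups with an involutory automorphism -/

theorem sol_of_odd (h : Odd #X) : Sol X := PF.feit_thompson' X h

theorem odd_of_le (h : Odd #X) (hY : Y ≤ X) : Odd #Y := h.of_dvd_nat (card_dvd_of_le hY)

theorem odd_ord_of_mem (h : Odd #X) (hk : k ∈ X) : Odd (orderOf k) :=
  h.of_dvd_nat (X.orderOf_dvd_natCard hk)

theorem odd_iff0 : Odd #X ↔ PiG {2}ᶜ X := by rw [PiG, pin_compl_cop Nat.prime_two, Nat.coprime_two_right]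

theorem cop_t0 (ht : orderOf t = 2) (h : Odd #X) : (#(zpowers t)).Coprime #X := by
  rw [card_zpowers', ht]; exact Nat.coprime_two_left.2 h

theorem pp_mul0 {m n : ℕ} (hm : m ≠ 0) (hn : n ≠ 0) : pp p (m * n) = pp p m * pp p n := by
  rw [pp, pp, pp, Nat.factorization_mul hm hn, Finsupp.add_apply, pow_add]

theorem card_pp0 (hP : Syl p P X) (hp : p.Prime) : #P = pp p #X := by
  obtain ⟨k, hk⟩ := hP.pi.card_pow hp
  have h := card_mul_relIndex hP.le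
  rw [← h, pp_mul0 (card_ne _) (relIndex_pos _ _).ne', hk, pp, pp, Nat.factorization_pow, Finsupp.smul_apply,
    hp.factorization_self, Nat.factorization_eq_zero_of_not_dvd (hP.not_dvd hp)]
  simp

theorem mem_zp0 (ht : orderOf t = 2) (h : g ∈ zpowers t) : g = 1 ∨ g = t := by
  obtain ⟨n, rfl⟩ := mem_powers_iff_mem_zpowers.2 h
  have e : t ^ 2 = 1 := ht ▸ pow_orderOf_eq_one t
  rcases Nat.even_or_odd' n with ⟨m, rfl | rfl⟩ <;> simp [pow_succ, pow_mul, e]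

theorem inv_cj (g t : G) (X : Subgroup G) : invertedBy (cj g X) (g * t * g⁻¹) = MulAut.conj g '' invertedBy X t := by
  ext x
  refine ⟨fun h => ⟨g⁻¹ * x * g, ⟨mem_cj.1 h.1, ?_⟩, by simp [mul_assoc]⟩, ?_⟩
  · calc _ = g⁻¹ * (g * t * g⁻¹ * x * (g * t * g⁻¹)⁻¹) * g := by group
      _ = _ := by rw [h.2]; group
  rintro ⟨y, hy, rfl⟩
  refine ⟨mem_cj_conj.2 hy.1, ?_⟩
  rw [MulAut.conj_apply]
  calc _ = g * (t * y * t⁻¹) * g⁻¹ := by group
    _ = _ := by rw [hy.2]; group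

theorem pair_le (h1 : s ∈ M) (h2 : u ∈ M) : closure ({s, u} : Set G) ≤ M :=
  (closure_le _).2 (by rintro _ (rfl | rfl) <;> assumption)

theorem iv_conj (hs : s ∈ Iv M a) (hg : g ∈ M) : g * s * g⁻¹ ∈ Iv M (g • a) :=
  ⟨conj_mem (normG M hg) hs.1, ord_conj hs.2.1 g, by rw [mul_smul, mul_smul, inv_smul_smul, hs.2.2]⟩

theorem card_conj (D : Subgroup G) (t : G) : #D = #(D ⊓ C1[t]) * {x | ∃ d ∈ D, d * t * d⁻¹ = x}.ncard := by
  let _ : MulAction D G := MulAction.compHom G (MulAut.conj.comp D.subtype)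
  have := index_stabilizer D t
  rw [← card_inf_mul_relIndex C1[t] D, inf_comm, relIndex, show (C1[t]).subgroupOf D = stabilizer D t from
    Subgroup.ext fun x => by rw [mem_subgroupOf, mem_C1, ← mul_inv_eq_iff_eq_mul]; rfl, this]
  congr 2
  ext x
  exact ⟨fun ⟨d, e⟩ => ⟨d, d.2, e⟩, fun ⟨d, hd, e⟩ => ⟨⟨d, hd⟩, e⟩⟩

theorem card_iv {D : Subgroup G} (ht : t ∈ Iv M c) (h : D ≤ M ⊓ St G c)
    (h1 : ∀ s ∈ Iv M c, ∃ d ∈ D, d * t * d⁻¹ = s) : #D = #(D ⊓ C1[t]) * nI M c := by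
  rw [card_conj D t, nI]
  congr 2
  refine Set.ext fun x => ⟨?_, h1 x⟩
  rintro ⟨d, hd, rfl⟩
  have := iv_conj ht (h hd).1
  rwa [show d • c = c from (h hd).2] at this

/-- `X = C_X(t) K` -/
theorem decomp (ht : orderOf t = 2) (hX : Odd #X) (hn : t ∈ N[X]) (hg : g ∈ X) :
    ∃ v ∈ X ⊓ C1[t], ∃ k ∈ invertedBy X t, g = v * k := by
  obtain ⟨c, hc, k, hk, h1, h2, e⟩ := exists_cent_mul_inv (mul_self_of_ord ht) hX (fun x hx => conj_mem hn hx) hg
  exact ⟨c, ⟨hc, mem_cent_iff_conj.2 h1⟩, k, ⟨hk, h2⟩, e⟩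

theorem kc_mul (ht : orderOf t = 2) (hX : Odd #X) (hn : t ∈ N[X]) :
    #X = #(X ⊓ C1[t]) * kc t X := by
  exact (s1124 t ht X hX fun x hx => conj_mem hn hx).2.1

theorem kc_pos (t : G) (X : Subgroup G) : 0 < kc t X := by
  exact (Set.ncard_pos (Set.toFinite _)).2 ⟨1, one_mem _, by simp⟩

theorem kc_mono (t : G) (h : X ≤ Y) : kc t X ≤ kc t Y := by
  exact Set.ncard_le_ncard (fun _ hk => ⟨h hk.1, hk.2⟩) (Set.toFinite _)

/-- equality of the counts gives equality of the sets -/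
theorem inv_eq_of_kc_le (h : X ≤ Y) (h2 : kc t Y ≤ kc t X) : invertedBy X t = invertedBy Y t := by
  exact Set.eq_of_subset_of_ncard_le (fun _ hk => ⟨h hk.1, hk.2⟩) h2 (Set.toFinite _)

theorem kc_cj (g t : G) (X : Subgroup G) : kc (g * t * g⁻¹) (cj g X) = kc t X := by
  rw [kc, inv_cj, Set.ncard_image_of_injective _ (MulAut.conj g).injective, kc]

theorem kc_eq_one (ht : orderOf t = 2) (hX : Odd #X) (hn : t ∈ N[X]) :
    kc t X = 1 ↔ X ≤ C1[t] := by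
  have e := kc_mul ht hX hn
  refine ⟨fun h => ?_, fun h => ?_⟩
  · rw [h, mul_one] at e
    exact (eq_of_card_le inf_le_left e.le).ge.trans inf_le_right
  · rw [inf_eq_left.2 h] at e
    exact (Nat.mul_eq_left (card_ne X)).1 e.symm

theorem exists_inv_ne (ht : orderOf t = 2) (hX : Odd #X) (hn : t ∈ N[X]) (h : ¬ X ≤ C1[t]) :
    ∃ k ∈ invertedBy X t, k ≠ 1 := by
  by_contra! c
  refine h fun g hg => ?_
  obtain ⟨v, hv, k, hk, rfl⟩ := decomp ht hX hn hg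
  rw [c k hk, mul_one]; exact hv.2

/-- a `t`-invariant subgroup not inside `Y ≥ C(t)` has an inverted element outside `Y` -/
theorem exists_inv_not_mem (ht : orderOf t = 2) (hX : Odd #X) (hn : t ∈ N[X]) (h : ¬ X ≤ Y)
    (hY : X ⊓ C1[t] ≤ Y) : ∃ k ∈ invertedBy X t, k ∉ Y := by
  by_contra! c
  refine h fun g hg => ?_
  obtain ⟨v, hv, k, hk, rfl⟩ := decomp ht hX hn hg
  exact mul_mem (hY hv) (c k hk)

theorem exists_syl_inv (ht : orderOf t = 2) (hX : Odd #X) (hn : t ∈ N[X]) (hp : p.Prime)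
    (h1 : Y ≤ X) (h2 : PiG {p} Y) (h3 : t ∈ N[Y]) : ∃ P, Syl p P X ∧ t ∈ N[P] ∧ Y ≤ P := by
  obtain ⟨P, a, b, c⟩ := cop_syl_superset (zpowers_le.2 hn) (cop_t0 ht hX) (.inr (sol_of_odd hX)) hp h1 h2
    (zpowers_le.2 h3)
  exact ⟨P, a, b (mem_zpowers t), c⟩

theorem kc_syl (ht : orderOf t = 2) (hX : Odd #X) (hn : t ∈ N[X]) (hp : p.Prime)
    (hP : Syl p P X) (h : t ∈ N[P]) : kc t P = pp p (kc t X) := by
  have e1 := kc_mul ht hX hn
  have e2 := kc_mul ht (odd_of_le hX hP.le) h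
  have c := cop_syl_cent (zpowers_le.2 hn) (cop_t0 ht hX) (.inr (sol_of_odd hX)) hp hP (zpowers_le.2 h)
  rw [C_zpowers] at c
  rw [card_pp0 hP hp, e1, pp_mul0 (card_ne _) (kc_pos t X).ne', ← card_pp0 c hp] at e2
  exact (Nat.eq_of_mul_eq_mul_left (card_pos _) e2).symm

theorem kc_le_pp (ht : orderOf t = 2) (hX : Odd #X) (hn : t ∈ N[X]) (hp : p.Prime)
    (h1 : Y ≤ X) (h2 : PiG {p} Y) (h3 : t ∈ N[Y]) : kc t Y ≤ pp p (kc t X) := by
  obtain ⟨P, a, b, c⟩ := exists_syl_inv ht hX hn hp h1 h2 h3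
  exact kc_syl ht hX hn hp a b ▸ kc_mono t c

/-- an inverted element of odd order has an inverted square root in the cyclic group it generates -/
theorem exists_sqrt (hk : Odd (orderOf k)) (h : t * k * t⁻¹ = k⁻¹) :
    ∃ y ∈ zpowers k, y * y = k ∧ t * y * t⁻¹ = y⁻¹ := by
  obtain ⟨m, e⟩ := exists_sqrt_of_odd hk
  exact ⟨_, pow_mem (mem_zpowers k) m, e, conj_pow_inv h m⟩

theorem comm_mem_inv (ht : orderOf t = 2) (hn : t ∈ N[X]) (hg : g ∈ X) :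
    g⁻¹ * (t * g * t⁻¹) ∈ invertedBy X t := by
  refine ⟨mul_mem (inv_mem hg) (conj_mem hn hg), ?_⟩
  calc _ = t * g⁻¹ * t⁻¹ * ((t * t) * g * (t * t)⁻¹) := by group
    _ = _ := by rw [mul_self_of_ord ht]; group

theorem tc_le (t : G) (X : Subgroup G) : tc t X ≤ X := closure_le _ |>.2 fun _ h => h.1
theorem mem_tc (h : k ∈ invertedBy X t) : k ∈ tc t X := subset_closure h
theorem tc_le_of (h : ∀ k ∈ invertedBy X t, k ∈ Y) : tc t X ≤ Y := closure_le _ |>.2 h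
theorem tc_mono (t : G) (h : X ≤ Y) : tc t X ≤ tc t Y := closure_mono fun _ hk => ⟨h hk.1, hk.2⟩
theorem inv_tc (t : G) (X : Subgroup G) : invertedBy (tc t X) t = invertedBy X t :=
  Set.ext fun _ => ⟨fun h => ⟨tc_le t X h.1, h.2⟩, fun h => ⟨mem_tc h, h.2⟩⟩
theorem tc_tc (t : G) (X : Subgroup G) : tc t (tc t X) = tc t X := by rw [tc, inv_tc]; rfl
theorem kc_tc (t : G) (X : Subgroup G) : kc t (tc t X) = kc t X := by rw [kc, inv_tc]; rfl

theorem t_norm_tc (t : G) (X : Subgroup G) : t ∈ N[tc t X] := by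
  refine mem_N_of_cj_le (cj_le_iff.2 (tc_le_of fun k hk => mem_cj_inv.2 ?_))
  rw [hk.2]; exact inv_mem (mem_tc hk)

theorem tc_norm (ht : orderOf t = 2) (hX : Odd #X) (hn : t ∈ N[X]) : X ≤ N[tc t X] := by
  exact fun x hx => mem_N_iff_cj.2 ((s1124 t ht X hX fun x hx => conj_mem hn hx).2.2 x hx)

theorem tc_cj (g t : G) (X : Subgroup G) : tc (g * t * g⁻¹) (cj g X) = cj g (tc t X) := by
  rw [tc, inv_cj, tc, cj_def, MonoidHom.map_closure]; rfl

theorem cent_norm_tc (h1 : g ∈ N[X]) (h2 : g ∈ C1[t]) : g ∈ N[tc t X] := by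
  rw [mem_N_iff_cj, ← tc_cj, cj_of_mem_N h1, mem_C1.1 h2, mul_inv_cancel_right]

theorem tc_eq_comm (ht : orderOf t = 2) (hX : Odd #X) (hn : t ∈ N[X]) :
    tc t X = ⁅X, zpowers t⁆ := by
  refine le_antisymm (tc_le_of fun k hk => ?_) (comm_le_iff.2 fun x hx a ha => ?_)
  · obtain ⟨y, hy, rfl, e⟩ := exists_sqrt (odd_ord_of_mem hX hk.1) hk.2
    have := comm_mem (zpowers_le.2 hk.1 hy) (mem_zpowers t)
    rwa [show y * t * y⁻¹ * t⁻¹ = y * (t * y * t⁻¹)⁻¹ by group, e, inv_inv] at this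
  · rcases mem_zp0 ht ha with rfl | rfl
    · simp
    have := mem_tc (comm_mem_inv ht hn (inv_mem hx))
    rwa [inv_inv, ← mul_assoc, ← mul_assoc] at this

theorem tc_eq_bot (ht : orderOf t = 2) (hX : Odd #X) (hn : t ∈ N[X]) :
    tc t X = ⊥ ↔ X ≤ C1[t] := by
  rw [tc_eq_comm ht hX hn, comm_eq_bot, C_zpowers]

/-- if `t` lies in a subgroup `Y` normalized by `X`, then `[X,t] ≤ Y` -/
theorem tc_le_of_norm (ht : orderOf t = 2) (hX : Odd #X) (h1 : t ∈ Y) (h2 : X ≤ N[Y]) :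
    tc t X ≤ Y := by
  refine tc_le_of fun k hk => ?_
  obtain ⟨y, hy, rfl, e⟩ := exists_sqrt (odd_ord_of_mem hX hk.1) hk.2
  have := mul_mem (conj_mem (h2 (zpowers_le.2 hk.1 hy)) h1) (inv_mem h1)
  rwa [show y * t * y⁻¹ * t⁻¹ = y * (t * y * t⁻¹)⁻¹ by group, e, inv_inv] at this

/-- `t` inverts `N/Y`, so `[X,t]` centralizes it -/
theorem tc_comm (ht : orderOf t = 2) (hN : Odd #N) (h0 : N ≤ N[Y]) (h1 : t ∈ N[N]) (h2 : t ∈ N[Y])
    (h3 : N ⊓ C1[t] ≤ Y) (hX : Odd #X) (h4 : X ≤ N[N]) (h5 : X ≤ N[Y]) : ⁅tc t X, N⁆ ≤ Y := by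
  have i : ∀ f ∈ N, t * f * t⁻¹ * f ∈ Y := fun f hf => by
    obtain ⟨v, hv, k, hk, rfl⟩ := decomp ht hN h1 hf
    rw [← conj_mul, hk.2, mem_cent_iff_conj.1 hv.2, mul_assoc, ← mul_assoc k⁻¹]
    exact mul_mem (h3 hv) (conj_mem' (h0 hk.1) (h3 hv))
  refine comm_le_iff.2 fun k hk => ?_
  induction hk using closure_induction with
  | mem k hk =>
    obtain ⟨y, hy, rfl, e⟩ := exists_sqrt (odd_ord_of_mem hX hk.1) hk.2
    replace hy := zpowers_le.2 hk.1 hy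
    intro f hf
    have a := conj_mem (h5 hy) (i _ (conj_mem' (h4 hy) (inv_mem hf)))
    have b := conj_mem (mul_mem (mul_mem (h5 hy) h2) (inv_mem (h5 hy))) (i f hf)
    rw [show y * y = y * t * y⁻¹ * t by
      rw [show y * t * y⁻¹ * t = y * (t * y * t⁻¹)⁻¹ * (t * t) by group, e, mul_self_of_ord ht, inv_inv, mul_one]]
    convert mul_mem b a using 1; group
  | one => simp
  | mul g k hg hk a b =>
    intro f hf
    convert mul_mem (conj_mem (h5 (tc_le t X hg)) (b f hf)) (a f hf) using 1; group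
  | inv g hg a =>
    intro f hf
    convert inv_mem (a _ (conj_mem' (h4 (tc_le t X hg)) hf)) using 1; group

theorem O_tc_aux {π : Set ℕ} (ht : orderOf t = 2) (hO : Odd #N) (hn : t ∈ N[N]) (h1 : X ≤ N) (h3 : N ⊓ C1[t] ≤ X)
    (h4 : Y ≤ tc t X) (h5 : X ≤ N[Y]) (h6 : t ∈ N[Y]) (h7 : PiG π Y) (h8 : O[π](N) = ⊥) : Y = ⊥ := by
  have p : PiG πᶜ F[N] := (O_pig πᶜ N).of_le (F_le_O (by rwa [compl_compl]))
  have YX := h4.trans (tc_le t X)
  have nF : X ≤ N[F[N]] := h1.trans (F_norm N)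
  have tF : t ∈ N[F[N]] := normF le_rfl hn
  have n0 : X ≤ N[F[N] ⊓ C[Y]] := normI nF (normC h5)
  have t0 : t ∈ N[F[N] ⊓ C[Y]] := normI (zpowers_le.2 tF) (normC (zpowers_le.2 h6)) (mem_zpowers t)
  have c : F[N] ⊓ X ≤ C[Y] := cent_symm (h7.cent (p.of_le inf_le_left) (normI (YX.trans nF) (normsG YX))
    (inf_le_right.trans h5))
  have e : F[N] ⊓ C[Y] = F[N] := (F_nil N).eq_of_norm inf_le_left (le_inf inf_le_left (cop_stable
    (PiN.coprime' (p.of_le inf_le_left) h7).symm ((commC _ _).le.trans ((commS h4 le_rfl).trans (tc_comm ht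
      (odd_of_le hO (inf_le_left.trans (F_le N))) inf_le_right (normI (zpowers_le.2 tF) (normN (zpowers_le.2 t0))
      (mem_zpowers t)) t0 (le_inf (inf_le_left.trans inf_le_left) (le_trans (le_inf (inf_le_left.trans inf_le_left)
      ((inf_le_inf_right _ (inf_le_left.trans (F_le N))).trans h3)) c)) (odd_of_le hO h1) (normI nF (normN n0)) n0)))
    inf_le_right))
  exact h7.eq_bot (p.of_le ((le_inf (YX.trans h1) (cent_symm (e.ge.trans inf_le_right))).trans (C_F_le (sol_of_odd hO))))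

/-- (SUB) `C_O(t) ≤ X ≤ O` gives `[X,t]` subnormal in `O`; we only need this consequence.
Proof: induction on `|O|` through a minimal normal subgroup `A` of `O⟨t⟩`: `t` inverts
`A/(A ⊓ X)`, so `T = [X,t]` centralizes it, `T ⊴ T(A ⊓ X) ⊴ TA`. -/
theorem O_tc_le (ht : orderOf t = 2) (hO : Odd #N) (hn : t ∈ N[N]) (h1 : X ≤ N) (h2 : t ∈ N[X])
    (h3 : N ⊓ C1[t] ≤ X) (π : Set ℕ) : O[π](tc t X) ≤ O[π](N) := by
  have nO := O_norm π N
  have tO : t ∈ N[O[π](N)] := normO π le_rfl hn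
  have oO := odd_of_le hO (O_le π N)
  have nU := normO π (tc_norm ht (odd_of_le hO h1) h2)
  have UN := (O_le π (tc t X)).trans ((tc_le t X).trans h1)
  have o2 : orderOf ((quo O[π](N)).app t) = 2 :=
    ((Nat.dvd_prime Nat.prime_two).1 (ht ▸ orderOf_app_dvd tO)).resolve_left fun e => odd_card_iff.1 oO t
      (by rw [← quo_ker O[π](N)]; exact mem_ker.2 ⟨tO, orderOf_eq_one_iff.1 e⟩) ht
  have c := im_IC' (φ := quo O[π](N)) (zpowers_le.2 tO) nO (by rw [quo_ker]; exact O_le π N)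
    (by rw [quo_ker]; exact cop_t0 ht oO) (.inl (abel_zpowers t).sol)
  rw [im_zpowers tO, C_zpowers, C_zpowers] at c
  refine (quo_bot_iff (UN.trans nO)).1 (O_tc_aux o2 (hO.of_dvd_nat (card_im_dvd N)) (app_mem_N hn tO) (im_mono h1)
    (c ▸ im_mono h3) ((im_mono (O_le π _)).trans ((le_pre_iff ((tc_le t X).trans (h1.trans nO))).1
      (tc_le_of fun k hk => ?_))) (im_norm nU) (app_mem_N (normO π le_rfl (t_norm_tc t X)) tO) ((O_pig π _).im _)
      (O_quo_O π N))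
  have d := nO (h1 hk.1)
  exact mem_pre.2 ⟨d, mem_tc ⟨app_mem_im hk.1 d, by rw [← app_conj tO d, hk.2, app_inv d]⟩⟩

/-! ### groups of 2-rank one -/

/-- `Z*`: in a subgroup without four-groups, `t O(M)` is central in `M/O(M)` -/
theorem rk1_comm (h : ¬ FourIn M) (ht : orderOf t = 2) (htM : t ∈ M) (hg : g ∈ M) :
    t * g * t⁻¹ * g⁻¹ ∈ O[{2}ᶜ](M) := by
  rw [← pPrimeCore_map Nat.prime_two]
  exact mem_map_of_mem M.subtype (Blk.zstar (G := M) (t := ⟨t, htM⟩) ⟨by rw [← orderOf_coe, ht], fun x c => by_contra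
    fun n => h ⟨t, htM, x * t * (x : G)⁻¹, mul_mem (mul_mem x.2 htM) (inv_mem x.2), ht, ord_conj ht _,
      fun e => n (Subtype.ext e.symm), congrArg Subtype.val c.eq⟩⟩ ⟨g, hg⟩)

theorem rk1_odd (h : ¬ FourIn M) (ht : orderOf t = 2) (htM : t ∈ M) (hu : orderOf u = 2)
    (huM : u ∈ M) : Odd (orderOf (t * u)) := by
  rw [← Nat.not_even_iff_odd]
  intro he
  obtain ⟨a1, a2, -⟩ := s0209 t u ht hu he
  refine h ⟨t, htM, _, pow_mem (mul_mem htM huM) _, ht, a1, fun e => not_mem_zpowers_mul ht hu (fun f => ?_)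
    (by have := pow_mem (mem_zpowers (t * u)) (orderOf (t * u) / 2); rwa [← e] at this), a2.eq.symm⟩
  rw [← f, mul_self_of_ord ht, orderOf_one] at he
  exact absurd he (by decide)

theorem rk1_conj (h : ¬ FourIn M) (ht : orderOf t = 2) (htM : t ∈ M) (hu : orderOf u = 2)
    (huM : u ∈ M) : ∃ o ∈ O[{2}ᶜ](M), o * t * o⁻¹ = u := by
  obtain ⟨k, e⟩ := exists_zpow_conj_of_odd (mul_self_of_ord ht) (mul_self_of_ord hu) (rk1_odd h ht htM hu huM)
  refine ⟨_, zpow_mem ?_ k, e⟩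
  have := rk1_comm h ht htM (zpow_mem (mul_mem htM huM) k)
  rwa [inv_of_ord ht, mul_assoc t, mul_assoc t, e] at this

theorem rk1_mul (h : ¬ FourIn M) (ht : orderOf t = 2) (htM : t ∈ M) (hu : orderOf u = 2)
    (huM : u ∈ M) : t * u ∈ O[{2}ᶜ](M) := by
  obtain ⟨o, ho, rfl⟩ := rk1_conj h ht htM hu huM
  have := rk1_comm h ht htM (O_le _ _ ho)
  rwa [inv_of_ord ht, mul_assoc t, mul_assoc t] at this

/-- `M = O(M) C_M(t)` -/
theorem rk1_prod (h : ¬ FourIn M) (ht : orderOf t = 2) (htM : t ∈ M) (hg : g ∈ M) :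
    ∃ o ∈ O[{2}ᶜ](M), ∃ v ∈ M ⊓ C1[t], g = o * v := by
  obtain ⟨o, ho, e⟩ := rk1_conj h ht htM (ord_conj ht g) (mul_mem (mul_mem hg htM) (inv_mem hg))
  refine ⟨o, ho, o⁻¹ * g, ⟨M.mul_mem (M.inv_mem (O_le _ _ ho)) hg, mem_C1.2 ?_⟩, by group⟩
  calc _ = o⁻¹ * (g * t * g⁻¹) * g := by group
    _ = _ := by rw [← e]; group

/-- an odd order subgroup `X` of `M`: `X O(M)` is odd and `t`-invariant -/
theorem rk1_sup (h : ¬ FourIn M) (ht : orderOf t = 2) (htM : t ∈ M) (h1 : X ≤ M) (h2 : Odd #X) :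
    Odd #(O[{2}ᶜ](M) ⊔ X) ∧ t ∈ N[O[{2}ᶜ](M) ⊔ X] := by
  refine ⟨odd_iff0.2 ((O_pig _ M).sup_l (odd_iff0.1 h2) (h1.trans (O_norm _ M))), mem_N_of fun x hx => ?_⟩
  simpa using mul_mem (mem_sup_left (rk1_comm h ht htM (sup_le (O_le _ _) h1 hx))) hx

/-- `t`-invariant Sylow subgroups above a `t`-invariant `p`-subgroup -/
theorem rk1_syl (h : ¬ FourIn M) (ht : orderOf t = 2) (htM : t ∈ M) (hp : p.Prime) (p2 : p ≠ 2)
    (h1 : Y ≤ M) (h2 : PiG {p} Y) (h3 : t ∈ N[Y]) : ∃ P, Syl p P M ∧ t ∈ N[P] ∧ Y ≤ P := by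
  obtain ⟨R, r1, r2⟩ := syl_superset hp h1 h2
  obtain ⟨a, b⟩ := rk1_sup h ht htM r1.le (odd_iff0.2 (PiN.ne_compl r1.pi p2))
  obtain ⟨P, p1, p2, p3⟩ := exists_syl_inv ht a b hp (r2.trans le_sup_right) h2 h3
  have l := sup_le (O_le {2}ᶜ M) r1.le
  exact ⟨P, r1.of_card (p1.le.trans l) (p1.card_eq (r1.sub le_sup_right l)), p2, p3⟩

theorem odd_O (M : Subgroup G) : Odd #O[{2}ᶜ](M) := by
  exact odd_iff0.2 (O_pig _ M)

namespace Fix1
variable (S : Fix1 G Ω)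
include S

theorem odd_St2 (h : a ≠ b) : Odd #(St2 G a b) := by
  exact odd_card_iff.2 fun t ht o => h (S.uniq o ht.1 ht.2)

theorem odd_of_fix (h : a ≠ b) (h1 : Y ≤ St G a) (h2 : Y ≤ St G b) : Odd #Y :=
  odd_of_le (S.odd_St2 h) (le_inf h1 h2)

theorem fix_of_comm (hs : orderOf s = 2) (h1 : s • a = a) (h : g * s = s * g) : g • a = a :=
  S.uniq hs (by rw [← mul_smul, ← h, mul_smul, h1]) h1

theorem C1_le (hs : orderOf s = 2) (h1 : s • a = a) : C1[s] ≤ St G a :=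
  fun _ hg => S.fix_of_comm hs h1 (mem_C1.1 hg)

theorem ne_smul (ht : orderOf t = 2) (h1 : t • c = c) (h : a ≠ c) : t • a ≠ a :=
  fun e => h (S.uniq ht e h1)

theorem smul_ne (ht : orderOf t = 2) (h1 : t • c = c) (h : a ≠ c) : t • a ≠ c :=
  fun e => h (by rw [← smul_smul_of_ord ht a, e, h1])

theorem odd_mul (hs : orderOf s = 2) (h1 : s • a = a) (hu : orderOf u = 2) (h2 : u • b = b)
    (h : a ≠ b) : Odd (orderOf (s * u)) := by
  rw [← Nat.not_even_iff_odd]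
  intro he
  obtain ⟨a1, a2, a3⟩ := s0209 s u hs hu he
  exact h (S.uniq a1 (S.fix_of_comm hs h1 a2.eq) (S.fix_of_comm hu h2 a3.eq))

/-- involutions with different fixed points are swapped by an involution of the dihedral group, and
conjugate under the rotation subgroup -/
theorem exists_swap (hs : orderOf s = 2) (h1 : s • a = a) (hu : orderOf u = 2) (h2 : u • b = b)
    (h : a ≠ b) : ∃ w ∈ closure ({s, u} : Set G), orderOf w = 2 ∧ w * s * w⁻¹ = u ∧ w • a = b := by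
  obtain ⟨w, a1, a2, a3⟩ := exists_involution_conj_of_odd hs hu (S.odd_mul hs h1 hu h2 h)
    fun e => h (S.uniq hu (e ▸ h1) h2)
  exact ⟨w, a1, a2, a3, S.uniq hu (by rw [← a3, mul_smul, mul_smul, inv_smul_smul, h1]) h2⟩

/-- an element swapping two points has a power that is an involution swapping them -/
theorem inv_of_swap (h : a ≠ b) (h1 : g • a = b) (h2 : g • b = a) :
    ∃ u ∈ zpowers g, orderOf u = 2 ∧ u • a = b := by
  obtain ⟨m, a1, a2, -⟩ := exists_swap_pow h1 h2 (S.odd_St2 h)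
  exact ⟨_, pow_mem (mem_zpowers g) m, ord2_iff.2 ⟨a1, fun e => h (by rwa [e, one_smul] at a2)⟩, a2⟩

/-- Frattini: a Sylow subgroup of `M_ab` is normalized by a swapping involution of `M` -/
theorem swap_norm (hp : p.Prime) (h : a ≠ b) (hw : w ∈ M) (h1 : w • a = b) (h2 : w • b = a)
    (hP : Syl p P (M ⊓ St2 G a b)) : ∃ u ∈ M ⊓ N[P], orderOf u = 2 ∧ u • a = b := by
  have n : w ∈ N[M ⊓ St2 G a b] := by rw [mem_N_iff_cj, cj_inf, cj_of_mem hw, cj_St2, h1, h2, St2_comm]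
  obtain ⟨d, hd, e⟩ := Syl.conj (hP.cj_norm n) hp hP
  obtain ⟨u, u1, u2⟩ := S.inv_of_swap (g := d * w) h (by rw [mul_smul, h1, hd.2.2]) (by rw [mul_smul, h2, hd.2.1])
  exact ⟨u, zpowers_le.2 (show _ ∈ M ⊓ N[P] from ⟨mul_mem hd.1 hw, mem_N_iff_cj.2 (by rw [cj_mul, e])⟩) u1, u2⟩

theorem K_trans (ht : orderOf t = 2) (htM : t ∈ M) (ha : t • a ≠ a) (hs : s ∈ Iv M a)
    (hs' : s' ∈ Iv M a) : ∃ k ∈ invertedBy (M ⊓ St2 G a (t • a)) t, k * s * k⁻¹ = s' := by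
  obtain ⟨a1, a2, a3⟩ := iv_conj hs' htM
  obtain ⟨w, b1, b2, b3, b4⟩ := S.exists_swap hs.2.1 hs.2.2 a2 a3 ha.symm
  refine ⟨t * w, ⟨⟨mul_mem htM (pair_le hs.1 a1 b1), ?_, ?_⟩, inverts_left (mul_self_of_ord ht) (mul_self_of_ord b2)⟩, ?_⟩
  · change _ • _ = _; rw [mul_smul, b4, smul_smul_of_ord ht]
  · change _ • _ = _; rw [mul_smul, ← b4, smul_smul_of_ord b2, b4]
  · calc _ = t * (w * s * w⁻¹) * t⁻¹ := by group
      _ = (t * t) * s' * (t * t)⁻¹ := by rw [b3]; group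
      _ = _ := by rw [mul_self_of_ord ht]; group

theorem K_free (ht : orderOf t = 2) (ha : t • a ≠ a) (hs : orderOf s = 2) (hsa : s • a = a)
    (hk : k ∈ invertedBy (St2 G a (t • a)) t) (h : k * s = s * k) : k = 1 := by
  obtain ⟨c, hc⟩ := S.ex t ht
  exact eq_one_of_odd_of_sq (odd_ord_of_mem (S.odd_St2 ha.symm) hk.1) (sq_eq_one_of_centralized_inverted
    (S.odd_mul hs hsa ht hc fun e => ha (e ▸ hc)) h hk.2)

/-- `|K ∩ M| = n_M` -/
theorem kc_eq_nI (ht : orderOf t = 2) (htM : t ∈ M) (ha : t • a ≠ a) (hs : s ∈ Iv M a) :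
    kc t (M ⊓ St2 G a (t • a)) = nI M a := by
  refine Set.ncard_congr (fun k _ => k * s * k⁻¹) (fun k hk => ?_) (fun k k' hk hk' e => ?_)
    fun s' hs' => (S.K_trans ht htM ha hs hs').imp fun k h => ⟨h.1, h.2⟩
  · have := iv_conj hs hk.1.1
    rwa [show k • a = a from hk.1.2.1] at this
  have e1 : (t * k') • a = t • a := by rw [mul_smul, show k' • a = a from hk'.1.2.1]
  have e2 : t * k' * (t * k') = 1 := by
    rw [← inv_mul_cancel k', ← hk'.2, inv_of_ord ht]; group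
  have := S.K_free (t := t * k') (k := k'⁻¹ * k) (ord2_iff.2 ⟨e2, fun f => ha (by rw [← e1, f, one_smul])⟩)
    (e1 ▸ ha) hs.2.1 hs.2.2 ⟨e1 ▸ mul_mem (inv_mem hk'.1.2) hk.1.2, by
      calc _ = (t * k * t⁻¹) * (t * k' * t⁻¹)⁻¹ := by group
        _ = _ := by rw [hk.2, hk'.2]; group⟩ (by
      calc _ = k'⁻¹ * (k * s * k⁻¹) * k := by group
        _ = _ := by rw [e]; group)
  exact (inv_mul_eq_one.1 this).symm

theorem nI_orb (h : Orb M a b) : nI M a = nI M b := by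
  obtain ⟨m, hm, rfl⟩ := h
  refine Set.ncard_congr (fun s _ => m * s * m⁻¹) (fun s hs => iv_conj hs hm) (fun _ _ _ _ e => by simpa using e)
    fun s hs => ⟨m⁻¹ * s * m⁻¹⁻¹, by simpa using iv_conj hs (inv_mem hm), by group⟩

section sub
variable (ht : orderOf t = 2) (htM : t ∈ M) (hc : t • c = c) (hM : ¬ M ≤ St G c)
include ht htM hc

theorem orb_of_inv (hu : orderOf u = 2) (huM : u ∈ M) (hd : u • d = d) : Orb M c d := by
  by_cases h : c = d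
  · exact h ▸ Orb.refl M c
  obtain ⟨w, a1, -, -, a2⟩ := S.exists_swap ht hc hu hd h
  exact ⟨w, pair_le htM huM a1, a2⟩

theorem exists_iv (h : Orb M c a) : ∃ s, s ∈ Iv M a := by
  obtain ⟨m, hm, rfl⟩ := h
  exact ⟨_, iv_conj ⟨htM, ht, hc⟩ hm⟩

theorem swap_in (ha : Orb M c a) (hb : Orb M c b) (h : a ≠ b) :
    ∃ w ∈ M, orderOf w = 2 ∧ w • a = b := by
  obtain ⟨s, s1, s2, s3⟩ := S.exists_iv ht htM hc ha
  obtain ⟨u, u1, u2, u3⟩ := S.exists_iv ht htM hc hb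
  obtain ⟨w, a1, a2, -, a3⟩ := S.exists_swap s2 s3 u2 u3 h
  exact ⟨w, pair_le s1 u1 a1, a2, a3⟩

/-- `|M_{ac}| = |M_{a,ta}|` -/
theorem card_St2 (ha : Orb M c a) (h : a ≠ c) :
    #(M ⊓ St2 G a c) = #(M ⊓ St2 G a (t • a)) := by
  obtain ⟨w, w1, w2, w3⟩ := S.swap_in ht htM hc (Orb.refl M c) ha h.symm
  obtain ⟨s, hs⟩ := S.exists_iv ht htM hc ha
  have n := S.ne_smul ht hc h
  rw [kc_mul ht (odd_of_le (S.odd_St2 n.symm) inf_le_right)
    (normI (zpowers_le.2 (normG M htM)) (zpowers_le.2 (norm_St2 ht a)) (mem_zpowers t)), S.kc_eq_nI ht htM n hs,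
    ← S.nI_orb ha, card_iv (D := M ⊓ St2 G a c) ⟨htM, ht, hc⟩ (inf_le_inf_left _ inf_le_right) fun s hs => by
      obtain ⟨k, k1, k2⟩ := S.K_trans w2 w1 (w3 ▸ h) ⟨htM, ht, hc⟩ hs
      exact ⟨k, ⟨k1.1.1, w3 ▸ k1.1.2.2, k1.1.2.1⟩, k2⟩]
  congr 3
  ext x
  refine ⟨fun e => ⟨⟨e.1.1, e.1.2.1, ?_⟩, e.2⟩, fun e => ⟨⟨e.1.1, e.1.2.1, S.C1_le ht hc e.2⟩, e.2⟩⟩
  change x • t • a = t • a
  rw [← mul_smul, mem_C1.1 e.2, mul_smul, e.1.2.1]

include hM

theorem conj_in (hu : orderOf u = 2) (huM : u ∈ M) : ∃ m ∈ M, m * t * m⁻¹ = u := by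
  obtain ⟨d, hd⟩ := S.ex u hu
  by_cases h : c = d
  · obtain ⟨g, hg, n⟩ := SetLike.not_le_iff_exists.1 hM
    obtain ⟨a1, a2, a3⟩ := iv_conj ⟨htM, ht, hc⟩ hg
    obtain ⟨w, b1, -, b2, -⟩ := S.exists_swap a2 a3 hu hd (h ▸ n)
    exact ⟨w * g, mul_mem (pair_le a1 huM b1) hg, by rw [← b2]; group⟩
  obtain ⟨w, b1, -, b2, -⟩ := S.exists_swap ht hc hu hd h
  exact ⟨w, pair_le htM huM b1, b2⟩

theorem card_St : #(M ⊓ St G c) = #(M ⊓ C1[t]) * nI M c := by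
  rw [card_iv (D := M ⊓ St G c) ⟨htM, ht, hc⟩ le_rfl fun s hs => by
      obtain ⟨m, m1, m2⟩ := S.conj_in ht htM hc hM hs.2.1 hs.1
      exact ⟨m, ⟨m1, S.uniq hs.2.1 (m2 ▸ (iv_conj ⟨htM, ht, hc⟩ m1).2.2) hs.2.2⟩, m2⟩,
    inf_assoc, inf_eq_right.2 (S.C1_le ht hc)]

/-- a four-group can be moved to contain `t` -/
theorem four_mem (h : FourIn M) : ∃ y ∈ M, orderOf y = 2 ∧ y ≠ t ∧ t * y = y * t := by
  obtain ⟨x, hx, y, hy, a1, a2, a3, a4⟩ := h
  obtain ⟨m, m1, rfl⟩ := S.conj_in ht htM hc hM a1 hx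
  refine ⟨m⁻¹ * y * m⁻¹⁻¹, conj_mem (normG M (inv_mem m1)) hy, ord_conj a2 _, fun e => a3 (by rw [← e]; group), ?_⟩
  calc _ = m⁻¹ * (m * t * m⁻¹ * y) * m := by group
    _ = _ := by rw [a4]; group

theorem four_St (h : FourIn M) (ha : Orb M c a) : FourIn (M ⊓ St G a) := by
  obtain ⟨y, hy, a1, a2, a3⟩ := S.four_mem ht htM hc hM h
  obtain ⟨m, hm, rfl⟩ := ha
  obtain ⟨b1, b2, b3⟩ := iv_conj ⟨htM, ht, hc⟩ hm
  obtain ⟨c1, c2, c3⟩ := iv_conj ⟨hy, a1, S.fix_of_comm ht hc a3.symm⟩ hm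
  exact ⟨_, ⟨b1, b3⟩, _, ⟨c1, c3⟩, b2, c2, by simpa using a2.symm, by rw [conj_mul, conj_mul, a3]⟩

end sub

/-- two involutions of `M` swapping `a` and `b` are conjugate under `M_ab` -/
theorem swap_conj (ht : orderOf t = 2) (htM : t ∈ M) (ha : t • a ≠ a) (hw : orderOf w = 2)
    (hwM : w ∈ M) (h : w • a = t • a) :
    ∃ k ∈ invertedBy (M ⊓ St2 G a (t • a)) t, k * t * k⁻¹ = w := by
  have a1 : w * t ∈ M ⊓ St2 G a (t • a) := ⟨mul_mem hwM htM, by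
    change _ • _ = _; rw [mul_smul, ← h, smul_smul_of_ord hw], by
    change _ • _ = _; rw [mul_smul, smul_smul_of_ord ht, h]⟩
  obtain ⟨y, b1, b2, b3⟩ := exists_sqrt (odd_ord_of_mem (S.odd_St2 ha.symm) a1.2)
    (inverts_right (mul_self_of_ord hw) (mul_self_of_ord ht))
  refine ⟨y, ⟨zpowers_le.2 a1 b1, b3⟩, ?_⟩
  calc _ = y * (t * y * t⁻¹)⁻¹ * t := by group
    _ = _ := by rw [b3, inv_inv, b2, mul_assoc, mul_self_of_ord ht, mul_one]

theorem one_lt_nI (h : FourIn (M ⊓ St G a)) : 1 < nI M a := by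
  obtain ⟨x, hx, y, hy, a1, a2, a3, -⟩ := h
  exact (Set.one_lt_ncard (Set.toFinite _)).2 ⟨x, ⟨hx.1, a1, hx.2⟩, y, ⟨hy.1, a2, hy.2⟩, a3⟩

/-- an odd group normalized by a four-group fixing `c` fixes `c` -/
theorem le_St_of_four (hY : Odd #Y) (h : FourIn (N[Y] ⊓ St G c)) : Y ≤ St G c := by
  obtain ⟨x, hx, y, hy, a1, a2, a3, a4⟩ := h
  have p : ∀ {x : G}, orderOf x = 2 → x ^ 2 = 1 := fun h => h ▸ pow_orderOf_eq_one _
  have ab : Abelem 2 (zpowers x ⊔ zpowers y) := (abelem_zpowers (p a1)).sup (abelem_zpowers (p a2))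
    (by rw [C_zpowers]; exact zpowers_le.2 (mem_C1.2 a4))
  have l := sup_le (zpowers_le.2 hx) (zpowers_le.2 hy)
  exact cop_gen_cent1 ab.abel (fun c => a3 (Comp.eq_of_sq_of_cyclic c (mem_sup_left (mem_zpowers x))
    (mem_sup_right (mem_zpowers y)) (ne_one_of_ord2 a1) (ne_one_of_ord2 a2) (p a1) (p a2))) (l.trans inf_le_left)
    (PiN.coprime' (odd_iff0.1 hY) (ab.pig Nat.prime_two)).symm fun a ha a1 => inf_le_right.trans
      (S.C1_le (orderOf_of_pow Nat.prime_two (ab.pow a ha) a1) (l ha).2)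

/-- in rank one `O(M)` is transitive on the orbit -/
theorem rk1_trans (h : ¬ FourIn M) (ht : orderOf t = 2) (htM : t ∈ M) (hc : t • c = c)
    (ha : Orb M c a) : Orb O[{2}ᶜ](M) c a := by
  obtain ⟨m, hm, rfl⟩ := ha
  obtain ⟨o, ho, v, hv, rfl⟩ := rk1_prod h ht htM hm
  exact ⟨o, ho, by rw [mul_smul, show v • c = c from S.C1_le ht hc hv.2]⟩

/-- (F4) if `t` acts nontrivially on `Y` and an involution centralizes `Y`, then `N(Y)` fixes the
fixed point of `t` -/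
theorem F4 (ht : orderOf t = 2) (hc : t • c = c) (h1 : t ∈ N[Y]) (h2 : t ∉ C[Y])
    (hu : orderOf u = 2) (h3 : u ∈ C[Y]) : N[Y] ≤ St G c := by
  by_contra n
  obtain ⟨m, hm, rfl⟩ := S.conj_in ht h1 hc n hu (C_le_N Y h3)
  exact h2 ((mem_N.1 (normC le_rfl hm) t).2 h3)

/-- (EV) If involutions of `N ≤ N(Y)` swap three fixed points of `Y` pairwise, then the fixed point
of every involution of `N` is fixed by `Y`.
Proof: with a four-group use `le_St_of_four`; otherwise the product of the three involutions lies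
in `t O(N)` and fixes `a`, so an odd power of it is an involution of `N` fixing `a`, and all
involutions of `N` are conjugate. -/
theorem EV (hN : N ≤ N[Y]) {a₁ a₂ a₃ : Ω} (n12 : a₁ ≠ a₂) (n13 : a₁ ≠ a₃) (n23 : a₂ ≠ a₃)
    (h1 : Y ≤ St G a₁) (h2 : Y ≤ St G a₂) (h3 : Y ≤ St G a₃)
    (s12 : ∃ u ∈ N, orderOf u = 2 ∧ u • a₁ = a₂) (s23 : ∃ u ∈ N, orderOf u = 2 ∧ u • a₂ = a₃)
    (s31 : ∃ u ∈ N, orderOf u = 2 ∧ u • a₃ = a₁)
    (hu : orderOf u = 2) (huN : u ∈ N) (hd : u • d = d) : Y ≤ St G d := by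
  by_cases h : FourIn N
  · refine S.le_St_of_four (S.odd_of_fix n12 h1 h2) (FourIn.mono ?_ (inf_le_inf_right _ hN))
    by_cases c : N ≤ St G d
    · rwa [inf_eq_left.2 c]
    exact S.four_St hu huN hd c h (Orb.refl N d)
  obtain ⟨x, x1, x2, x3⟩ := s12
  obtain ⟨y, y1, y2, y3⟩ := s23
  obtain ⟨z, z1, z2, z3⟩ := s31
  have l := zpowers_le.2 (mul_mem z1 (mul_mem y1 x1))
  obtain ⟨e, e1, e2⟩ := exists_involution_mem (H := zpowers (z * (y * x))) (Nat.not_odd_iff_even.1 fun o =>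
    odd_card_iff.1 (rk1_sup h hu huN l o).1 z ((mul_mem_cancel_right (mem_sup_left (rk1_mul h y2 y1 x2 x1))).1
      (mem_sup_right (mem_zpowers _))) z2)
  obtain ⟨o, ho, rfl⟩ := rk1_conj h e2 (l e1) hu huN
  have f : zpowers (z * (y * x)) ≤ St G a₁ := zpowers_le.2 (by rw [mem_St, mul_smul, mul_smul, x3, y3, z3])
  rw [S.uniq hu hd (iv_conj ⟨l e1, e2, f e1⟩ (O_le _ _ ho)).2.2]
  exact fix_smul (hN (O_le _ _ ho)) h1

/-- (NS) `N` odd, `t`-invariant, `N_c ⊴ N`: `t` inverts `N/N_c`, so `[X,t]` centralizes `N/N_c` and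
fixes the orbit `N c` pointwise, for `X ≤ G_c` odd, `t`-invariant and normalizing `N`. -/
theorem tc_fix (ht : orderOf t = 2) (hc : t • c = c) (hN : Odd #N) (h1 : t ∈ N[N])
    (h2 : N ≤ N[N ⊓ St G c]) (hX : Odd #X) (h3 : X ≤ St G c) (h4 : X ≤ N[N]) (hf : f ∈ N) :
    tc t X ≤ St G (f • c) := by
  intro k hk
  have n : ∀ x, x ∈ N[N] → x • c = c → x ∈ N[N ⊓ St G c] := fun x a b =>
    normI (zpowers_le.2 a) (zpowers_le.2 (normG _ b)) (mem_zpowers x)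
  have := (inv_mem (tc_comm ht hN h2 h1 (n t h1 hc) (inf_le_inf_left _ (S.C1_le ht hc)) hX h4
    (fun x hx => n x (h4 hx) (h3 hx)) (comm_mem hk (inv_mem hf)))).2
  replace this : (k * f⁻¹ * k⁻¹ * f⁻¹⁻¹)⁻¹ • c = c := this
  rw [show (k * f⁻¹ * k⁻¹ * f⁻¹⁻¹)⁻¹ = f⁻¹ * k * f * k⁻¹ by group, mul_smul,
    show k⁻¹ • c = c from inv_mem (h3 (tc_le t X hk)), mul_smul, mul_smul, inv_smul_eq_iff] at this
  exact this

/-- (NS'): a coprime inverted element has a centralizer in `N` moving `c`, if `N` moves `c`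
(`N` nilpotent, or `N` solvable and then use a minimal invariant subgroup moving `c`) -/
theorem cent_not_le (ht : orderOf t = 2) (hc : t • c = c) (hN : Odd #N) (h1 : t ∈ N[N])
    (hNc : ¬ N ≤ St G c) (hX : Odd #X) (h2 : t ∈ N[X]) (h3 : X ≤ St G c) (h4 : X ≤ N[N])
    (h5 : Y ≤ tc t X) (h6 : (#Y).Coprime #N) : ¬ N ⊓ C[Y] ≤ St G c := by
  obtain ⟨L, l1, ⟨l2, l3, l4⟩, l5⟩ := exists_minimal (P := fun L => t ∈ N[L] ∧ X ≤ N[L] ∧ ¬ L ≤ St G c) ⟨h1, h4, hNc⟩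
  have oL := odd_of_le hN l1
  have d : ⁅L, L⁆ ≤ St G c := by_contra fun n => ((sol_of_odd oL).der_lt fun e => l4 (e ▸ bot_le)).ne
    (l5 _ ⟨normD le_rfl l2, normD l3, n⟩ (der_le L))
  have nX : X ≤ N[L ⊓ St G c] := normI l3 (normsG h3)
  have c := tc_comm ht oL (norm_of_der_le (le_inf (der_le L) d) inf_le_left) l2
    (normI (zpowers_le.2 l2) (zpowers_le.2 (normG _ hc)) (mem_zpowers t)) (inf_le_inf_left _ (S.C1_le ht hc)) hX l3 nX
  have := cop_prod_of_comm_le (h5.trans ((tc_le t X).trans nX)) (coprimeS h6 le_rfl (inf_le_left.trans l1))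
    (.inr (sol_of_odd (odd_of_le oL inf_le_left))) inf_le_left ((commC _ _).le.trans ((commS h5 le_rfl).trans c))
  exact fun e => l4 (this.sup.ge.trans (sup_le ((inf_le_inf_right _ l1).trans e) inf_le_right))

end Fix1

end Cfsg.Agent.SE
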