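import Cfsg.Agent.SE.Basic

/-! # Bender reduction: small general lemmas -/

set_option autoImplicit false
set_option linter.unusedVariables false
set_option linter.unusedSectionVars false

namespace Cfsg.Agent.SE
open Cfsg Cfsg.Agent.BG Cfsg.Agent.Inv MulAction Subgroup PHom

variable {G Ω : Type*} [Group G] [Finite G] [MulAction G Ω]
variable {A B D H K L M N P Q R T U X Y Z : Subgroup G} {a b c d : Ω} {t s s' u k g w f x y z : G} {p q : ℕ}
  {π : Set ℕ}

theorem pp_lt {m n : ℕ} (hp : p.Prime) (hm : m ≠ 0) (hn : n ≠ 0) (h : p ∣ m) : pp p n < pp p (m * n) := by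
  rw [pp, pp, Nat.factorization_mul hm hn, Finsupp.add_apply]
  exact Nat.pow_lt_pow_right hp.one_lt (by have := hp.factorization_pos_of_dvd hm h; omega)

theorem pp_le_of_dvd {m n : ℕ} (hp : p.Prime) (hn : n ≠ 0) (h : m ∣ n) : pp p m ≤ pp p n := by
  have hm : m ≠ 0 := fun e => hn (by simpa [e] using h)
  exact Nat.pow_le_pow_right hp.pos ((Nat.factorization_le_iff_dvd hm hn).2 h p)

theorem pp_mul {m n : ℕ} (hm : m ≠ 0) (hn : n ≠ 0) : pp p (m * n) = pp p m * pp p n := by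
  rw [pp, pp, pp, Nat.factorization_mul hm hn, Finsupp.add_apply, pow_add]

theorem one_lt_pp {n : ℕ} (hp : p.Prime) (hn : n ≠ 0) : 1 < pp p n ↔ p ∣ n := by
  refine ⟨fun h => Nat.dvd_of_factorization_pos fun e => ?_,
    fun h => Nat.one_lt_pow (hp.factorization_pos_of_dvd hn h).ne' hp.one_lt⟩
  rw [pp, e] at h; simp at h

theorem Syl.card_pp (hP : Syl p P X) (hp : p.Prime) : #P = pp p #X := by
  obtain ⟨k, hk⟩ := hP.pi.card_pow hp
  have h := card_mul_relIndex hP.le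
  rw [← h, pp_mul (card_ne _) (relIndex_pos _ _).ne', hk, pp, pp, Nat.factorization_pow, Finsupp.smul_apply,
    hp.factorization_self, Nat.factorization_eq_zero_of_not_dvd (hP.not_dvd hp)]
  simp

theorem syl_of_card (hp : p.Prime) (h1 : P ≤ X) (h2 : PiG {p} P) (h : pp p #X ≤ #P) : Syl p P X := by
  obtain ⟨S, hS⟩ := syl_exists hp X
  exact hS.of_card_le h1 h2 (by rw [Syl.card_pp hS hp]; exact h)

theorem card_le_pp (hp : p.Prime) (h1 : P ≤ X) (h2 : PiG {p} P) : #P ≤ pp p #X := by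
  obtain ⟨S, hS⟩ := syl_exists hp X
  rw [← Syl.card_pp hS hp]; exact hS.card_le h2 h1

/-- a proper subgroup of a Sylow subgroup grows in its normalizer -/
theorem exists_gt_norm (hp : p.Prime) (h1 : Y ≤ X) (h2 : PiG {p} Y) (h : ¬ Syl p Y X) :
    ¬ Syl p Y (X ⊓ N[Y]) := fun e => h (e.of_norm hp)

theorem ord_mul_inv (ht : orderOf t = 2) (hk : Odd (orderOf k)) (h : t * k * t⁻¹ = k⁻¹) :
    orderOf (t * k) = 2 := by
  haveI : Fact (Nat.Prime 2) := ⟨Nat.prime_two⟩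
  refine orderOf_eq_prime ?_ fun e => ?_
  · rw [pow_two]
    calc t * k * (t * k) = t * k * t⁻¹ * k := by rw [inv_of_ord ht]; group
      _ = 1 := by rw [h, inv_mul_cancel]
  · have : k = t := by rw [← inv_of_ord ht]; exact (inv_eq_of_mul_eq_one_right e).symm
    rw [this, ht] at hk; exact absurd hk (by decide)

theorem eq_one_of_sq (hk : Odd (orderOf k)) (h : k * k = 1) : k = 1 := by
  have h2 : orderOf k ∣ 2 := orderOf_dvd_of_pow_eq_one (by rw [pow_two, h])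
  rcases (Nat.dvd_prime Nat.prime_two).1 h2 with e | e
  · exact orderOf_eq_one_iff.1 e
  · rw [e] at hk; exact absurd hk (by decide)

theorem mem_of_sq_mem (hk : Odd (orderOf k)) (h : k * k ∈ X) : k ∈ X := by
  obtain ⟨m, hm⟩ := exists_sqrt_of_odd hk
  rw [← hm, ← (Commute.refl k).mul_pow]
  exact X.pow_mem h m

theorem ne_two_of_odd (hp : p.Prime) (h : Odd #X) (hd : p ∣ #X) : p ≠ 2 := by
  rintro rfl; exact h.not_two_dvd_nat hd

theorem cop_t (ht : orderOf t = 2) (h : Odd #X) : (#(zpowers t)).Coprime #X := by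
  rw [card_zpowers', ht]; exact Nat.coprime_two_left.2 h

theorem zp_le (h : t ∈ X) : zpowers t ≤ X := zpowers_le.2 h

theorem exists_max_of {α : Type*} [Finite α] (P : α → Prop) (f : α → ℕ) {A : α} (h : P A) :
    ∃ B, P B ∧ ∀ C, P C → f C ≤ f B := by
  obtain ⟨B, hB, h⟩ := Set.exists_max_image {x | P x} f (Set.toFinite _) ⟨A, h⟩
  exact ⟨B, hB, h⟩

theorem four_abelem (hx : orderOf x = 2) (hy : orderOf y = 2) (h : x * y = y * x) :
    Abelem 2 (zpowers x ⊔ zpowers y) :=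
  (abelem_zpowers (hx ▸ pow_orderOf_eq_one x)).sup (abelem_zpowers (hy ▸ pow_orderOf_eq_one y))
    (zp_le (by rw [C_zpowers]; exact mem_C1.2 h))

theorem mem_zp_two (h : g ^ 2 = 1) (hx : x ∈ zpowers g) : x = 1 ∨ x = g := by
  obtain ⟨n, rfl⟩ := mem_zpowers_iff.1 hx
  have h2 : g ^ (2 : ℤ) = 1 := by exact_mod_cast h
  obtain ⟨m, rfl | rfl⟩ := Int.even_or_odd' n
  · left; rw [zpow_mul, h2, one_zpow]
  · right; rw [zpow_add, zpow_mul, h2, one_zpow, one_mul, zpow_one]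

theorem four_not_cyc (hx : orderOf x = 2) (hy : orderOf y = 2) (h : x * y = y * x) (n : x ≠ y) :
    ¬ Cyc (zpowers x ⊔ zpowers y) := fun hc => by
  obtain ⟨g, hg⟩ := cyc_iff.1 hc
  have h2 := (four_abelem hx hy h).pow g (hg ▸ mem_zpowers g)
  have x1 : x ≠ 1 := by rintro rfl; simp at hx
  have y1 : y ≠ 1 := by rintro rfl; simp at hy
  have a := mem_zp_two h2 (hg.ge (mem_sup_left (mem_zpowers x)))
  have b := mem_zp_two h2 (hg.ge (mem_sup_right (mem_zpowers y)))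
  exact n ((a.resolve_left x1).trans (b.resolve_left y1).symm)

theorem pig2_of_odd (h : Odd #X) : PiG {2}ᶜ X := (pin_compl Nat.prime_two).2 h.not_two_dvd_nat
theorem odd_of_pig2 (h : PiG {2}ᶜ X) : Odd #X :=
  Nat.not_even_iff_odd.1 fun e => (pin_compl Nat.prime_two).1 h (even_iff_two_dvd.1 e)

theorem four_of_idx (h : FourIn X) (h1 : Y ≤ X) (h2 : PiN {2}ᶜ (Y.relIndex X)) : FourIn Y := by
  obtain ⟨x, hx, y, hy, ox, oy, n, c⟩ := h
  obtain ⟨S, hS⟩ := syl_exists Nat.prime_two Y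
  obtain ⟨g, hg, le⟩ := Syl.cj_sub (hS.trans' h1 h2) Nat.prime_two (sup_le (zp_le hx) (zp_le hy))
    ((four_abelem ox oy c).pig Nat.prime_two)
  refine ⟨g * x * g⁻¹, hS.le (le (mem_cj_conj.2 (mem_sup_left (mem_zpowers x)))), g * y * g⁻¹,
    hS.le (le (mem_cj_conj.2 (mem_sup_right (mem_zpowers y)))), ord_conj ox g, ord_conj oy g,
    fun e => n (by simpa using e), ?_⟩
  calc _ = g * (x * y) * g⁻¹ := by group
    _ = _ := by rw [c]; group

theorem exists_ord_two (h : ¬ Odd #X) : ∃ s ∈ X, orderOf s = 2 :=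
  cauchy Nat.prime_two (even_iff_two_dvd.1 (Nat.not_odd_iff_even.1 h))

theorem ne_of_inv (hk : Odd (orderOf k)) (h : t * k * t⁻¹ = k⁻¹) (k1 : k ≠ 1) : k ∉ C1[t] := fun e =>
  k1 (eq_one_of_sq hk (by
    rw [← mem_C1.1 e, mul_inv_cancel_right] at h
    nth_rewrite 1 [h]; exact inv_mul_cancel k))

theorem t_norm_zp (h : t * k * t⁻¹ = k⁻¹) : t ∈ N[zpowers k] := by
  rw [mem_N_iff_cj, cj_zpowers, h, zpowers_inv]

theorem Fix1.le_St_of_inv (S : Fix1 G Ω) (ht : orderOf t = 2) (hc : t • c = c) (hX : Odd #X) (hn : t ∈ N[X])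
    (h : ∀ k ∈ invertedBy X t, k • c = c) : X ≤ St G c := by
  by_contra hn'
  obtain ⟨k, hk, h'⟩ := exists_inv_not_mem ht hX hn hn' (inf_le_right.trans (S.C1_le ht hc))
  exact h' (h k hk)

theorem kc_dvd (ht : orderOf t = 2) (hX : Odd #X) (hn : t ∈ N[X]) : kc t X ∣ #X :=
  ⟨_, (kc_mul ht hX hn).trans (mul_comm _ _)⟩

theorem exists_inv_of_lt (h : 1 < kc t X) : ∃ k ∈ invertedBy X t, k ≠ 1 := by
  by_contra hn
  have : invertedBy X t ⊆ {1} := fun k hk => by by_contra e; exact hn ⟨k, hk, e⟩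
  have h2 := Set.ncard_le_ncard this
  rw [Set.ncard_singleton] at h2
  exact absurd h (not_lt.2 h2)

theorem t_norm_E (ht : orderOf t = 2) (hc : t • c = c) (a : Ω) : t ∈ N[St2 G a (t • a) ⊓ St G c] :=
  normI (zp_le (norm_St2 ht a)) (normsG (zp_le hc)) (mem_zpowers t)

theorem lt_norm_of_not_syl (hp : p.Prime) (hP : Syl p P X) (h1 : Y ≤ P) (h : ¬ Syl p Y X) : Y < P ⊓ N[Y] :=
  hP.pi.nil.lt_norm (lt_of_le_of_ne h1 fun e => h (e ▸ hP))

theorem not_ord_two (h : Odd #X) (hu : u ∈ X) : orderOf u ≠ 2 := fun e => by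
  have := odd_ord_of_mem h hu
  rw [e] at this; exact absurd this (by decide)

theorem Fix1.le_St2_of_odd (S : Fix1 G Ω) (ab : a ≠ b) (hX : Odd #X)
    (h : ∀ g ∈ X, (g • a = a ∨ g • a = b) ∧ (g • b = a ∨ g • b = b)) : X ≤ St2 G a b := fun g hg => by
  obtain ⟨h1 | h1, h2 | h2⟩ := h g hg
  · exact absurd (smul_left_cancel g (h1.trans h2.symm)) ab
  · exact ⟨h1, h2⟩
  · obtain ⟨u, hu, ou, -⟩ := S.inv_of_swap ab h1 h2
    exact absurd ou (not_ord_two hX (zp_le hg hu))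
  · exact absurd (smul_left_cancel g (h1.trans h2.symm)) ab

theorem kc_conj (hg : g ∈ N[X]) (t : G) : kc (g * t * g⁻¹) X = kc t X := by
  rw [← kc_cj g t X, cj_of_mem_N hg]

theorem conj_smul_fix (h : t • c = c) (g : G) : (g * t * g⁻¹) • g • c = g • c := by
  rw [mul_smul, inv_smul_smul, mul_smul, h]

end Cfsg.Agent.SE
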