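import Cfsg.Agent.SE.A4

/-! # Part A: (G1) holds in a minimal counterexample -/

set_option autoImplicit false
set_option linter.unusedVariables false
set_option linter.unusedSectionVars false

namespace Cfsg.Agent.SE
open Cfsg Cfsg.Agent.BG Cfsg.Agent.Inv MulAction Subgroup PHom

variable {G Ω : Type*} [Group G] [Finite G] [MulAction G Ω]
variable {A B D H K L M M₁ N P Q R T U W X Y Z : Subgroup G} {a b c d : Ω} {t s s' u k g w f x y z : G}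
  {p q r : ℕ} {π : Set ℕ}

theorem pig_of_nil (h : Nil X) (h1 : O[πᶜ](X) = ⊥) : PiG π X := by
  have := (h.dprod_O π).sup
  rw [h1, sup_bot_eq] at this
  rw [← this]; exact O_pig _ _

theorem single_sub (h : q ≠ p) : ({q} : Set ℕ) ⊆ {p}ᶜ := by rintro _ rfl; exact h

namespace Ctx
variable (S : Ctx t c W)
include S

local notation "𝓞" M:max => O[{2}ᶜ](M)
local notation "𝓕" M:max => F[O[{2}ᶜ](M)]
local notation "𝓓" a:max => St2 G a (t • a)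

theorem Y_ne (h : ¬ O[{p}](W) ≤ C1[t]) : O[{p}](W) ≠ ⊥ := fun e => h (e ▸ bot_le)

theorem nOF (hM : InM t c W M) (π : Set ℕ) : M ≤ N[O[π](𝓕 M)] := normO _ (S.nF hM)
theorem OF_le (hM : InM t c W M) (π : Set ℕ) : O[π](𝓕 M) ≤ M := (O_le _ _).trans (S.FM hM)
theorem oOF (hM : InM t c W M) (π : Set ℕ) : Odd #O[π](𝓕 M) := odd_of_le (S.oF hM) (O_le _ _)

/-- case X, first step -/
theorem X_meet (hM : InM t c W M₁) (hW : N[W] ≤ M₁) (h : O[{r}](𝓕 M₁) ≠ ⊥) :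
    O[{r}](𝓕 M₁) ⊓ St G c ≠ ⊥ := fun e => by
  set R := O[{r}](𝓕 M₁)
  have nR := S.nOF hM {r}
  have Rc : ¬ R ≤ St G c := fun h' => h ((inf_eq_left.2 h').symm.trans e)
  have hN : Bot c M₁ R := ⟨(O_le _ _).trans (F_le _), inf_le_left.trans nR, Rc, e ▸ norm_bot _, fun f hf => by
    refine fix_smul (cents_norm (X := R) ?_ hf) inf_le_right
    refine (O_cent_O _ _).trans (centS ((F_nil _).le_O inf_le_left (pig_of_nil ((F_nil _).of_le inf_le_left) ?_)))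
    rw [compl_compl, (F_nil _).O_eq_inf _ inf_le_left, ← inf_assoc, inf_eq_left.2 (O_le _ _), e]⟩
  obtain ⟨f, hf, fc⟩ := S.bot_x hM hN
  have Wa := S.bot_W hM hN hf.1
  set a := f • c
  have EM : 𝓓 a ⊓ St G c ≤ M₁ := (S.E_norm fc Wa).trans hW
  have Ef : 𝓓 a ⊓ St G c ≤ C1[f] := cent_of_fix (EM.trans nR) e inf_le_right hf.1 (inf_le_left.trans inf_le_left)
  have oD := S.oD fc
  have tF : t ∈ N[F[𝓓 a]] := normF (zp_le (norm_St2 S.ht a)) (mem_zpowers t)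
  set U := F[𝓓 a] ⊓ St G c with hU
  have tU : t ∈ N[U] := normI (zp_le tF) (normsG (zp_le S.hc)) (mem_zpowers t)
  have WD := S.WD Wa
  have key : U ≠ ⊥ ∧ ∃ k ∈ 𝓓 a ⊓ N[U], k ∉ St G c := by
    by_cases h1 : F[𝓓 a] ≤ St G c
    · rw [hU, inf_eq_left.2 h1]
      obtain ⟨k, hk, kc⟩ := S.exists_K fc Wa
      exact ⟨F_ne_bot (sol_of_odd oD) fun e => S.W_ne (eq_bot_iff.2 (e ▸ WD)), k, ⟨hk.1, F_norm _ hk.1⟩, kc⟩
    · have lt := (F_nil (𝓓 a)).lt_norm (inf_lt_left.2 h1)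
      obtain ⟨k, hk, kU⟩ := SetLike.exists_of_lt lt
      refine ⟨fun e1 => h1 ((le_inf ?_ (F_le _)).trans (S.MD_le hM (orb_smul (S.OF_le hM _ hf.1) c) fc Wa)),
        k, ⟨F_le _ hk.1, hk.2⟩, fun kc => kU ⟨hk.1, kc⟩⟩
      refine (cents_norm fun g hg => le_C1_iff.1 (cent_of_fix (WD.trans (F_norm _)) e1 S.Wc hg ?_)).trans hW
      rw [← S.tcW]
      exact S.tc_fix S.ht S.hc (odd_of_le oD (F_le _)) tF (by rw [← hU, e1]; exact norm_bot _) S.oW S.Wc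
        (WD.trans (F_norm _)) hg
  obtain ⟨U1, k, hk, kc⟩ := key
  have fU : f ∈ N[U] := C_le_N _ (le_C1_iff.1 ((inf_le_inf_right _ (F_le _)).trans Ef))
  obtain ⟨M, hM', le⟩ := S.exists_M (S.N_ne_top' U1 (odd_of_le oD (inf_le_left.trans (F_le _)))) tU
    (normI (WD.trans (F_norm _)) (normsG S.Wc)) fun h => fc (h fU)
  exact kc (S.MD_le hM' (orb_smul (le fU) c) fc Wa ⟨le hk.2, hk.1⟩)

/-- the `P × Q` step -/
theorem pq1 (hM₁ : InM t c W M₁) (hY : C[O[{p}](W)] ≤ M₁) (hM : InM t c W M)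
    (h1 : Q ≤ O[{p}ᶜ](𝓕 M₁)) (h2 : Q ≤ M) : Q ≤ C[O[{p}](𝓕 M)] :=
  pq_lemma (O_pig {p} (𝓕 M)).nil (S.Y_le hM p) le_rfl (cent_symm (h1.trans (S.X_cent hM₁ p)))
    (((O_pig _ _).of_le h1).coprime' (O_pig _ _)) (normsG (S.Y_le hM p)) (h2.trans (S.nOF hM _))
    (cent_of_inf ((inf_le_right.trans hY).trans (S.nOF hM₁ _)) (h2.trans (S.nOF hM _)) inf_le_left h1
      (O_inf_O _ _ _))

/-- Bender's comparison of two maximal subgroups -/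
theorem compare (hp : p.Prime) (hY1 : O[{p}](W) ≠ ⊥) (hM₁ : InM t c W M₁) (hW : N[W] ≤ M₁)
    (hY : C[O[{p}](W)] ≤ M₁) (hM : InM t c W M) (hF : 𝓕 M₁ ⊓ St G c ≤ M) (hX : O[{p}ᶜ](𝓕 M) ≠ ⊥) :
    𝓞 M₁ ≤ M := by
  set Xs := O[{p}ᶜ](𝓕 M) with hXs
  set Ps := O[{p}](𝓕 M) with hPs
  set X₁ := O[{p}ᶜ](𝓕 M₁) with hX₁
  set P₁ := O[{p}](𝓕 M₁) with hP₁
  have nF := F_nil (𝓞 M)
  have nF₁ := F_nil (𝓞 M₁)
  have XsM : Xs ≤ M₁ := (S.X_cent hM p).trans hY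
  have YP := S.Y_le hM p
  have Z1 : Z[Ps] ≠ ⊥ := (O_pig _ _).nil.Z_ne_bot fun e => hY1 (eq_bot_iff.2 (YP.trans e.le))
  have nZ : M ≤ N[Z[Ps]] := normZ (S.nOF hM _)
  have oZ : Odd #Z[Ps] := odd_of_le (S.oOF hM _) inf_le_left
  have CZ : C[Z[Ps]] ≤ M := S.C_le hM Z1 nZ oZ
  have ZM : Z[Ps] ≤ M₁ := (inf_le_right.trans (centS YP)).trans hY
  have pZ : PiG {p} Z[Ps] := (O_pig _ _).of_le inf_le_left
  have ZX : Z[Ps] ≤ C[Xs] := inf_le_left.trans (O_cent_O _ _)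
  have nO := O_norm {2}ᶜ M₁
  set π : Set ℕ := {r | r ∣ #Xs}
  have πX : PiG π Xs := pin_self _
  obtain ⟨oL, -⟩ := rk1_sup (S.rk1 hM₁) S.ht hM₁.mem (sup_le XsM ZM)
    (odd_of_le (S.oF hM) (sup_le (O_le _ _) (inf_le_left.trans (O_le _ _))))
  set L := 𝓞 M₁ ⊔ (Xs ⊔ Z[Ps])
  have LM : L ≤ M₁ := sup_le (O_le _ _) (sup_le XsM ZM)
  have ZL : Z[Ps] ≤ L := le_sup_right.trans le_sup_right
  have ZB : Z[Ps] ≤ O[πᶜ](L) := le_O_of_forall' ZL fun r hr hπ => by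
    have hd : r ∣ #Xs := not_not.1 hπ
    have rp : r ≠ p := fun e => (O_pig {p}ᶜ _) r hr hd e
    exact le_O_of_local (sol_of_odd oL) (O_pig {r} Xs) ((O_le _ _).trans (le_sup_left.trans le_sup_right)) ZL
      (ZX.trans (centS (O_le _ _))) (pZ.ne_compl rp.symm) (inf_le_right.trans ((S.C_le hM
        ((nF.of_le (O_le _ _)).O_ne_bot hr hd (Set.mem_singleton r)) (normO _ (S.nOF hM _))
        (odd_of_le (S.oOF hM _) (O_le _ _))).trans nZ))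
  have FsC : ∀ V : Subgroup G, V ≤ C[Ps] → V ≤ C[Xs] → V ≤ C[𝓕 M] := fun V h1 h2 => by
    rw [← (nF.dprod_O {p}).sup]; exact centY h1 h2
  have πX₁ : PiG π X₁ := fun r hr hd => by
    by_contra hn
    have rp : r ≠ p := fun e => (O_pig {p}ᶜ _) r hr hd e
    have h1 := S.X_meet hM₁ hW (nF₁.O_ne_bot hr (hd.trans (cardS (O_le _ _))) (Set.mem_singleton r))
    have le : O[{r}](𝓕 M₁) ⊓ St G c ≤ M := (inf_le_inf_right _ (O_le _ _)).trans hF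
    have pR : PiG {r} (O[{r}](𝓕 M₁) ⊓ St G c) := (O_pig _ _).of_le inf_le_left
    have h2 := (le_inf le (FsC _ (S.pq1 hM₁ hY hM (inf_le_left.trans (O_mono (single_sub rp) _)) le)
      (cent_of_inf (le.trans (S.nOF hM _)) (XsM.trans (S.nOF hM₁ _)) inf_le_left le_rfl
        ((O_pig _ _).inf_bot (πX.compl_single' hn))))).trans (S.C_F hM)
    exact hn ((pR.dvd h1).trans (cardS (nF.le_O h2 (pR.ne_compl rp))))
  have X₁L : X₁ ≤ L := ((O_le _ _).trans (F_le _)).trans le_sup_left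
  have X₁M : X₁ ≤ M := ((πX₁.cent (O_pig _ _) (X₁L.trans (O_norm _ _))
    (((O_le _ _).trans LM).trans (S.nOF hM₁ _))).trans (centS ZB)).trans CZ
  have X₁P : X₁ ≤ C[Ps] := S.pq1 hM₁ hY hM le_rfl X₁M
  have X₁X : X₁ ≤ Xs := (nF₁.of_le (O_le _ _)).le_of_O fun r hr hd => by
    have rp : r ≠ p := fun e => (O_pig {p}ᶜ _) r hr hd e
    have n1 : M₁ ≤ N[O[{r}](X₁)] := normO _ (S.nOF hM₁ _)
    have c1 : O[{r}](X₁) ≤ C[O[{r}ᶜ](𝓕 M)] := cent_symm ((nF.of_le (O_le _ _)).le_of_O fun s hs hd' => by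
      have sr : s ≠ r := fun e => (O_pig {r}ᶜ _) s hs hd' e
      by_cases sp : s = p
      · subst sp
        exact (nF.O_mono _ (O_le _ _)).trans (cent_symm ((O_le _ _).trans X₁P))
      · exact (O_pig _ _).cent ((O_pig _ _).ne_compl sr.symm)
          (((nF.le_O ((O_le _ _).trans (O_le _ _)) ((O_pig _ _).ne_compl sp)).trans XsM).trans n1)
          (((O_le _ _).trans X₁M).trans (normO _ (S.nOF hM _))))
    have n2 : M ≤ N[M ⊓ C[O[{r}ᶜ](𝓕 M)]] := normI (normG _) (normC (S.nOF hM _))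
    have h1 : O[{r}](X₁) ≤ O[{r}](M ⊓ C[O[{r}ᶜ](𝓕 M)]) := le_O (le_inf ((O_le _ _).trans X₁M) c1)
      (((inf_le_right.trans (centS (YP.trans (O_mono (single_sub rp.symm) _)))).trans hY).trans n1) (O_pig _ _)
    have r2 : r ≠ 2 := ne_two_of_odd hr (S.oOF hM₁ _) hd
    exact nF.le_O (h1.trans (S.le_F hM ((O_le _ _).trans inf_le_left) (normO _ n2) (O_pig _ _).nil
      (odd_of_pig2 ((O_pig _ _).ne_compl r2)))) ((O_pig _ _).ne_compl rp)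
  have XP₁ : Xs ≤ C[P₁] := pq_lemma ((O_pig {p} (𝓕 M₁)).sup_l pZ (ZM.trans (S.nOF hM₁ _))).nil le_sup_right
    le_sup_left ZX ((O_pig _ _).coprime' (O_pig _ _)) (ZM.trans (S.nOF hM₁ _)) (XsM.trans (S.nOF hM₁ _))
    (cent_of_inf ((inf_le_right.trans CZ).trans (S.nOF hM _)) (XsM.trans (S.nOF hM₁ _)) inf_le_left le_rfl
      (O_inf_O _ _ _))
  have XB : Xs ≤ C[O[πᶜ](𝓞 M₁)] := cop_cent_F (normO _ (XsM.trans nO)) (πX.coprime (O_pig _ _))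
    (sol_of_odd (odd_of_le (odd_O _) (O_le _ _))) (XP₁.trans (centS (by
      rw [F_O]
      refine nF₁.le_O (O_le _ _) (pig_of_nil (nF₁.of_le (O_le _ _)) ?_)
      exact (πX₁.of_le (nF₁.O_mono _ (O_le _ _))).eq_bot ((O_pig _ _).of_le (O_le _ _)))))
  have h7 : ⁅𝓞 M₁, Z[Ps]⁆ ≤ O[πᶜ](𝓞 M₁) := (le_inf ((commS le_rfl ZB).trans (commR (le_sup_left.trans (O_norm _ _))))
    (commL (ZM.trans nO))).trans (O_inf_le _ le_sup_left)
  have h8 : ⁅Xs, 𝓞 M₁⁆ ≤ N[Xs] := ((comm_eq_bot.1 (three_subgroup (comm_eq_bot.2 (h7.trans (cent_symm XB)))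
    (by rw [comm_eq_bot.2 ZX, commutator_bot_left]))).trans CZ).trans (S.nOF hM _)
  have YO : ⁅Xs, 𝓞 M₁⁆ ≤ 𝓞 M₁ := commR (XsM.trans nO)
  have h9 : Xs ≤ O[{p}ᶜ](F[𝓞 M₁ ⊔ Xs]) := (F_nil _).le_O ((BG.le_F le_sup_left (sup_le (normG _) h8)
    (nF.of_le (O_le _ _))).trans (F_le_of_normal (sup_le le_sup_right (YO.trans le_sup_left))
      (sup_le (comm_le_l.1 (comm_sup_le le_sup_right ((commL (comm_normr _ _)).trans le_sup_right)
        (normsG le_sup_left) (normsG le_sup_right))) (normsG le_sup_left)))) (O_pig _ _)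
  have nV : 𝓞 M₁ ≤ N[O[{p}ᶜ](F[𝓞 M₁ ⊔ Xs])] := normO _ (normF (normsG le_sup_left))
  have h10 : ⁅Xs, 𝓞 M₁⁆ ≤ X₁ := (le_inf ((commS h9 le_rfl).trans (commL nV)) YO).trans
    (nF₁.le_O (BG.le_F inf_le_right (normI nV (normG _)) ((F_nil _).of_le (inf_le_left.trans (O_le _ _))))
      ((O_pig _ _).of_le inf_le_left))
  exact (comm_le_l.1 (h10.trans X₁X)).trans (S.N_le hM hX (S.nOF hM _) (S.oOF hM _))

theorem caseX (hp : p.Prime) (hπ : ¬ O[{p}](W) ≤ C1[t]) (h : ¬ N[O[{p}](W)] ≤ St G c) : False := by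
  have Y1 := S.Y_ne hπ
  have pd := S.dvd_of_pi hp hπ
  have p2 := S.ne_two hp pd
  obtain ⟨M₁, hM₁, le₁⟩ := S.exists_M (S.N_ne_top' Y1 (odd_of_le S.oW (O_le _ _))) (S.tY _) (O_norm _ _) h
  have hW : N[W] ≤ M₁ := (normO _ le_rfl).trans le₁
  have hY : C[O[{p}](W)] ≤ M₁ := (C_le_N _).trans le₁
  obtain ⟨N₁, hN⟩ := S.exists_bot hM₁
  have orb : ∀ x ∈ N₁, Orb M₁ c (x • c) := fun x hx => orb_smul (O_le _ _ (hN.le hx)) c
  have hlt := S.lt_of_A hM₁ hN hp pd fun x hx xc => S.A_le xc (S.bot_W hM₁ hN hx.1)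
    ((le_inf (inf_le_right.trans hY) inf_le_left).trans (S.MD_le hM₁ (orb x hx.1) xc (S.bot_W hM₁ hN hx.1)))
  obtain ⟨f, hf, fc⟩ := S.bot_x hM₁ hN
  have Wa := S.bot_W hM₁ hN hf.1
  set a := f • c
  have tV : t ∈ N[𝓕 M₁ ⊓ St G c] := normI (zp_le (S.nF hM₁ hM₁.mem)) (normsG (zp_le S.hc)) (mem_zpowers t)
  have VD : 𝓕 M₁ ⊓ St G c ≤ 𝓓 a := le_inf (hN.fix f hf.1) (fix_smul tV (hN.fix f hf.1))
  obtain ⟨k, hk, kc⟩ := S.exists_K fc Wa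
  have WT : W ≤ tc t (𝓓 a) := S.tcW.ge.trans (tc_mono _ (S.WD Wa))
  have ex : ∀ L : Subgroup G, L ≠ ⊤ → t ∈ L → tc t (𝓓 a) ≤ L → 𝓕 M₁ ⊓ St G c ≤ L →
      ∃ M, (InM t c W M ∧ tc t (𝓓 a) ≤ M ∧ 𝓕 M₁ ⊓ St G c ≤ M) ∧ L ≤ M := fun L h1 h2 h3 h4 => by
    obtain ⟨M, hM, le⟩ := S.exists_M h1 h2 (WT.trans h3) fun e => kc (e (h3 (mem_tc hk)))
    exact ⟨M, ⟨hM, h3.trans le, h4.trans le⟩, le⟩
  obtain ⟨M₀, h0, -⟩ := ex _ (S.N_ne_top' (fun e => S.W_ne (eq_bot_iff.2 (e ▸ S.WD Wa))) (S.oD fc))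
    (norm_St2 S.ht a) ((tc_le _ _).trans (normG _)) (VD.trans (normG _))
  obtain ⟨M, ⟨hM, TM, VM⟩, hm⟩ := exists_max_of
    (fun M : Subgroup G => InM t c W M ∧ tc t (𝓓 a) ≤ M ∧ 𝓕 M₁ ⊓ St G c ≤ M) (fun M => pp p #M) h0
  by_cases hX : O[{p}ᶜ](𝓕 M) = ⊥
  · have eF : 𝓕 M = O[{p}](𝓕 M) := F_eq_O_aux hX
    have pV : PiG {p} (𝓕 M₁ ⊓ St G c) := pig_of_nil ((F_nil _).of_le inf_le_left) (by
      have le : O[{p}ᶜ](𝓕 M₁ ⊓ St G c) ≤ M := (O_le _ _).trans VM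
      have := (le_inf le (by
        rw [eF]; exact S.pq1 hM₁ hY hM ((F_nil _).O_mono _ inf_le_left) le)).trans (S.C_F hM)
      exact eq_bot_iff.2 (((F_nil _).le_O this (O_pig _ _)).trans hX.le))
    obtain ⟨P, hP, tP, VP⟩ := rk1_syl (S.rk1 hM) S.ht hM.mem hp p2 VM pV tV
    have hB : O[{p}ᶜ](𝓞 M) = ⊥ := by
      by_contra hn
      exact F_ne_bot (sol_of_odd (odd_of_le (odd_O M) (O_le _ _))) hn (by rw [F_O, hX])
    have zj := zj_step (S.rk1 hM) S.ht hM.mem hp p2 hP tP (hB ▸ bot_le)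
    have P1 : P ≠ ⊥ := fun e => Y1 (eq_bot_iff.2 ((le_inf ((S.Y_le hM₁ p).trans (O_le _ _))
      ((O_le _ _).trans S.Wc)).trans (VP.trans e.le)))
    obtain ⟨M', h', le⟩ := ex N[ZJ P] (S.N_ne_top' (ZJ_ne_bot hP.pi P1)
      (odd_of_pig2 ((hP.pi.of_le (ZJ_le _)).ne_compl p2))) (normZJ (zp_le tP) (mem_zpowers t))
      (((tc_tc _ _).ge.trans (tc_mono _ ((tc_tc _ _).ge.trans
        (rk1_tc (S.rk1 hM) S.ht hM.mem TM (odd_of_le (S.oD fc) (tc_le _ _)))))).trans zj)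
      (VP.trans (normZJ (normG _)))
    exact S.no_syl hM hp pd hlt hP.le tP (syl_top_of_max hp hP.pi le (by rw [Syl.card_pp hP hp]; exact hm M' h'))
  · exact S.s0' hM.co.1 S.ht hM.mem S.hc fc (fun k hk => TM (mem_tc hk))
      (orb_smul (S.compare hp Y1 hM₁ hW hY hM VM hX (hN.le hf.1)) c)
where
  F_eq_O_aux {X : Subgroup G} (h : O[{p}ᶜ](F[X]) = ⊥) : F[X] = O[{p}](F[X]) :=
    (O_eq_self (pig_of_nil (F_nil X) h)).symm

theorem exists_inM : ∃ M, InM t c W M := by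
  obtain ⟨a, ac, e⟩ := S.exW
  have Wa : W ≤ St G a := e ▸ (tc_le _ _).trans (inf_le_left.trans inf_le_left)
  obtain ⟨M, hM, -⟩ := S.exists_M (S.N_ne_top' (fun e => S.W_ne (eq_bot_iff.2 (e ▸ S.WD Wa))) (S.oD ac))
    (norm_St2 S.ht a) ((S.WD Wa).trans (normG _)) fun h => S.D_nle ac Wa ((normG _).trans h)
  exact ⟨M, hM⟩

theorem caseY1 (hp : p.Prime) (hπ : ¬ O[{p}](W) ≤ C1[t]) (h : N[O[{p}](W)] ≤ St G c)
    (h1 : ∀ q, q.Prime → q ≠ p → O[{q}](W) ≤ C1[t]) : False := by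
  have Y1 := S.Y_ne hπ
  have pd := S.dvd_of_pi hp hπ
  have p2 := S.ne_two hp pd
  have hY : C[O[{p}](W)] ≤ St G c := (C_le_N _).trans h
  obtain ⟨M₀, h0⟩ := S.exists_inM
  obtain ⟨M, hM, hm⟩ := exists_max_of (InM t c W) (fun M => pp p #M) h0
  obtain ⟨N₁, hN⟩ := S.exists_bot hM
  have hlt := S.lt_of_A hM hN hp pd fun x hx xc => S.A_le xc (S.bot_W hM hN hx.1) (inf_le_right.trans hY)
  obtain ⟨P, hP, tP, YP⟩ := rk1_syl (S.rk1 hM) S.ht hM.mem hp p2 ((O_le _ _).trans hM.le) (O_pig _ _) (S.tY _)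
  have zj := zj_step (S.rk1 hM) S.ht hM.mem hp p2 hP tP (le_C1_of_F S.ht (odd_of_le (odd_O M) (O_le _ _))
    (normO _ (zp_le (S.tO hM)) (mem_zpowers t)) (by
      rw [F_O]
      refine ((F_nil _).of_le (O_le _ _)).le_of_O fun r hr hd => ?_
      have rp : r ≠ p := fun e => (O_pig {p}ᶜ _) r hr hd e
      have nR : M ≤ N[O[{r}](O[{p}ᶜ](𝓕 M))] := normO _ (S.nOF hM _)
      have oR := odd_of_le (S.oOF hM {p}ᶜ) (O_le {r} _)
      refine le_C1_of_tc S.ht oR (nR hM.mem) ((le_inf (S.tc_le_W hM (le_inf ((O_le _ _).trans (S.OF_le hM _))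
        (((O_le _ _).trans (S.X_cent hM p)).trans hY)) oR) (tc_le _ _)).trans ((le_O inf_le_left
          (normI (normG _) (hM.le.trans nR)) ((O_pig _ _).of_le inf_le_right)).trans (h1 r hr rp)))))
  have P1 : P ≠ ⊥ := fun e => Y1 (eq_bot_iff.2 (YP.trans e.le))
  obtain ⟨x, hx, xc⟩ := S.bot_x hM hN
  obtain ⟨M', h', le⟩ := S.exists_M (S.N_ne_top' (ZJ_ne_bot hP.pi P1)
    (odd_of_pig2 ((hP.pi.of_le (ZJ_le _)).ne_compl p2))) (normZJ (zp_le tP) (mem_zpowers t))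
    ((S.tcW.ge.trans (tc_mono _ (S.WO hM))).trans zj) fun e => xc (e (zj (mem_tc ⟨hN.le hx.1, hx.2⟩)))
  exact S.no_syl hM hp pd hlt hP.le tP (syl_top_of_max hp hP.pi le (by rw [Syl.card_pp hP hp]; exact hm M' h'))

theorem caseY2 (hp : p.Prime) (hq : q.Prime) (pq : p ≠ q) (hπ : ¬ O[{p}](W) ≤ C1[t])
    (hπ' : ¬ O[{q}](W) ≤ C1[t]) (h : N[O[{p}](W)] ≤ St G c) (h' : N[O[{q}](W)] ≤ St G c) : False := by
  obtain ⟨M, hM⟩ := S.exists_inM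
  obtain ⟨N₁, hN⟩ := S.exists_bot hM
  have nF := F_nil (𝓞 M)
  have oth : ∀ r : ℕ, ∃ s, s.Prime ∧ s ≠ r ∧ O[{s}](W) ≠ ⊥ ∧ C[O[{s}](W)] ≤ St G c := fun r => by
    by_cases e : p = r
    · exact ⟨q, hq, e ▸ pq.symm, S.Y_ne hπ', (C_le_N _).trans h'⟩
    · exact ⟨p, hp, e, S.Y_ne hπ, (C_le_N _).trans h⟩
  have YX : ∀ {r s : ℕ}, s ≠ r → O[{s}](W) ≤ O[{r}ᶜ](𝓕 M) := fun {r s} e =>
    (S.Y_le hM s).trans (O_mono (single_sub e) _)
  have CK : ∀ r : ℕ, C[O[{r}ᶜ](𝓕 M)] ≤ Ker M c := fun r => by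
    obtain ⟨s, hs, sr, s1, sc⟩ := oth r
    exact le_Ker (S.C_le hM (fun e => s1 (eq_bot_iff.2 ((YX sr).trans e.le))) (S.nOF hM _) (S.oOF hM _))
      (normC (S.nOF hM _)) ((centS (YX sr)).trans sc)
  have FK : 𝓕 M ≤ Ker M c := F_le_of_O fun r hr => by
    rw [← O_F]; exact (O_cent_O _ _).trans (CK r)
  set π : Set ℕ := {r | r ∣ #(𝓕 M)}
  have πF : PiG π (𝓕 M) := pin_self _
  have pπ : p ∈ π := ((O_pig _ _).dvd (S.Y_ne hπ)).trans (cardS ((S.Y_le hM p).trans (O_le _ _)))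
  have KD : ∀ a b, Orb M c a → Orb M c b → Ker M c ≤ St2 G a b := fun a b ha hb =>
    le_inf (Ker_le_St ha) (Ker_le_St hb)
  have y1 : ∀ a b, Orb M c a → Orb M c b → a ≠ b → ∀ r : ℕ, r.Prime → r ∈ π →
      O[{r}ᶜ](𝓕 M) ≤ O[{r}ᶜ](St2 G a b) := fun a b ha hb ab r hr hπ =>
    le_O_of_local (sol_of_odd (S.odd_St2 ab)) (O_pig {r} (𝓕 M)) (((O_le _ _).trans FK).trans (KD a b ha hb))
      (((O_le _ _).trans FK).trans (KD a b ha hb)) (O_cent_O' _ _) (O_pig _ _) ((inf_le_right.trans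
        (S.C_le hM (nF.O_ne_bot hr hπ (Set.mem_singleton r)) (S.nOF hM _) (S.oOF hM _))).trans (S.nOF hM _))
  have orb : ∀ x ∈ N₁, Orb M c (x • c) := fun x hx => orb_smul (O_le _ _ (hN.le hx)) c
  obtain ⟨x, hx, xc⟩ := S.bot_x hM hN
  by_cases hB : O[πᶜ](𝓓 (x • c)) = ⊥
  · set a := x • c
    have oa := orb x hx.1
    have ob := oa.smul hM.mem
    have ab := (S.ne_smul S.ht S.hc xc).symm
    have oD := S.oD xc
    have FF : F[𝓓 a] ≤ 𝓕 M := F_le_of_O fun r hr => by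
      by_cases e : r ∈ π
      · have c1 : O[{r}](𝓓 a) ≤ C[O[{r}ᶜ](𝓕 M)] := (O_cent_O _ _).trans (centS (y1 _ _ oa ob ab r hr e))
        exact (le_O c1 (((CK r).trans (KD _ _ oa ob)).trans (O_norm _ _)) (O_pig _ _)).trans (S.le_F hM
          ((O_le _ _).trans ((CK r).trans (Ker_le _ _))) (normO _ (normC (S.nOF hM _))) (O_pig _ _).nil
          (odd_of_le oD ((O_le _ _).trans ((CK r).trans (KD _ _ oa ob)))))
      · exact ((O_mono (by rintro _ rfl; exact e) _).trans hB.le).trans bot_le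
    set U : Subgroup G := closure {y | y ∈ C[O[{p}ᶜ](𝓕 M)] ∧ PiE {p} y} with hU
    have nU : ∀ g : G, (∀ y ∈ C[O[{p}ᶜ](𝓕 M)], PiE {p} y → g * y * g⁻¹ ∈ C[O[{p}ᶜ](𝓕 M)]) → g ∈ N[U] :=
      fun g hg => mem_N_of_cj_le (by
        rw [hU, cj, MonoidHom.map_closure, closure_le]
        rintro _ ⟨y, hy, rfl⟩
        exact subset_closure ⟨hg y hy.1 hy.2, pie_conj.2 hy.2⟩)
    have UC : U ≤ C[O[{p}ᶜ](𝓕 M)] := (closure_le _).2 fun y hy => hy.1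
    have U1 : U ≠ ⊥ := fun e => S.Y_ne hπ (eq_bot_iff.2 (le_trans (fun y hy => Subgroup.subset_closure
      (And.intro (cent_symm (S.X_cent hM p) hy) ((O_pig _ _).elt hy))) e.le))
    have DM : 𝓓 a ≤ M := le_trans (fun g hg => nU g fun y hy py => ?_) (S.N_le hM U1
      (fun g hg => nU g fun y hy _ => conj_mem (normC (S.nOF hM _) hg) hy)
      (odd_of_le oD (UC.trans ((CK p).trans (KD _ _ oa ob)))))
    · exact S.s0' hM.co.1 S.ht hM.mem S.hc xc (fun k hk => DM hk.1) oa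
    · have yD : y ∈ 𝓓 a := KD _ _ oa ob (CK p hy)
      have y' : g * y * g⁻¹ ∈ 𝓓 a := conj_mem (normG _ hg) yD
      have c1 : g * y * g⁻¹ ∈ C[O[{p}ᶜ](F[𝓓 a])] :=
        conj_mem (normC (normO _ (F_norm _)) hg) (centS (nF.O_mono _ FF) hy)
      refine centS (y1 _ _ oa ob ab p hp pπ) (cop_cent_F ((zp_le y').trans (O_norm _ _))
        ((pig_zpowers.2 (pie_conj.2 py)).coprime (O_pig _ _)) (sol_of_odd (odd_of_le oD (O_le _ _)))
        (zp_le (by rw [F_O]; exact c1)) (mem_zpowers _))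
  · refine S.cycle S.ht S.hc (fun X => O[πᶜ](X)) (fun g X _ => cj_O g _ X) (fun X => O_le _ X)
      (odd_of_le (odd_O M) hN.le) (fun x hx xc => ?_) hx xc hB
    set a := x • c
    have oa := orb x hx.1
    have ob := oa.smul hM.mem
    have FD : 𝓕 M ≤ 𝓓 a := FK.trans (KD _ _ oa ob)
    have BD : O[πᶜ](𝓓 a) ≤ St2 G a c := le_inf ((O_le _ _).trans inf_le_left)
      ((O_mono (by rw [Set.compl_subset_compl]; rintro _ rfl; exact pπ) _).trans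
        (S.A_le xc (S.bot_W hM hN hx.1) (inf_le_right.trans ((C_le_N _).trans h))))
    refine le_O_of_forall' BD fun r hr hπ => ?_
    obtain ⟨s, hs, sr, s1, -⟩ := oth r
    have R1 : O[{s}](𝓕 M) ≠ ⊥ := fun e => s1 (eq_bot_iff.2 ((S.Y_le hM s).trans e.le))
    have CM : O[πᶜ](𝓓 a) ⊓ C[O[{s}](𝓕 M)] ≤ M := inf_le_right.trans (S.C_le hM R1 (S.nOF hM _) (S.oOF hM _))
    have BF : O[πᶜ](𝓓 a) ⊓ 𝓕 M = ⊥ := (O_pig _ _).inf_bot' πF
    have c0 : O[πᶜ](𝓓 a) ⊓ C[O[{s}](𝓕 M)] ≤ ⊥ := (le_inf inf_le_left ((le_inf CM (cent_of_inf (CM.trans (S.nF hM))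
      (FD.trans (O_norm _ _)) inf_le_left le_rfl BF)).trans (S.C_F hM))).trans BF.le
    have pr := cop_cent_prod (((O_le {s} _).trans FD).trans (O_norm πᶜ _))
      ((πF.of_le (O_le _ _)).coprime (O_pig _ _)) (Or.inl (O_pig _ _).sol)
    refine pr.sup.ge.trans (sup_le ?_ (c0.trans bot_le))
    exact (commS le_rfl ((O_mono (single_sub sr) _).trans (y1 _ _ oa (Orb.refl _ _) xc r hr (not_not.1 hπ)))).trans
      (commR (BD.trans (O_norm _ _)))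

theorem false : False := by
  obtain ⟨p, hp, hπ⟩ := S.exists_pi
  by_cases h : ∀ p : ℕ, p.Prime → ¬ O[{p}](W) ≤ C1[t] → N[O[{p}](W)] ≤ St G c
  · by_cases h1 : ∀ q, q.Prime → q ≠ p → O[{q}](W) ≤ C1[t]
    · exact S.caseY1 hp hπ (h p hp hπ) h1
    · push Not at h1
      obtain ⟨q, hq, qp, hπ'⟩ := h1
      exact S.caseY2 hp hq qp.symm hπ hπ' (h p hp hπ) (h q hq hπ')
  · push Not at h
    obtain ⟨p, hp, hπ, h⟩ := h
    exact S.caseX hp hπ h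

end Ctx

theorem MC.g1 (S : MC G Ω) : G1 G Ω := by
  by_contra hn
  obtain ⟨t, c, W, h⟩ := A0.exists_ctx ⟨S, hn⟩
  exact h.false

end Cfsg.Agent.SE
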