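import Cfsg.Agent.SE.Basic

/-!
# Subgroups of Bender type: consequences of `Concl M a Q`

Transfer to `R1`: `Pm M a` is the image of `M` in the permutations of the orbit of `a`, `pm M a` the
projection; the kernel has odd order, so involutions stay involutions, and `R1` holds in the image.
-/

set_option autoImplicit false
set_option linter.unusedVariables false
set_option linter.unusedSectionVars false

namespace Cfsg.Agent.SE
open Cfsg Cfsg.Agent.BG Cfsg.Agent.Inv MulAction Subgroup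

section Proj
variable {G Ω : Type*} [Group G] [MulAction G Ω]

/-- image of `M` in the permutations of the orbit of `a` -/
abbrev Pm (M : Subgroup G) (a : Ω) : Subgroup (Equiv.Perm (orbit M a)) :=
  (toPermHom M (orbit M a)).range

/-- the projection `M → Pm M a` -/
def pm (M : Subgroup G) (a : Ω) : PHom G (Pm M a) := ⟨M, (toPermHom M (orbit M a)).rangeRestrict⟩

instance finitePm [Finite G] (M : Subgroup G) (a : Ω) : Finite (Pm M a) :=
  Finite.of_surjective _ (toPermHom M (orbit M a)).rangeRestrict_surjective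

variable {M X : Subgroup G} {a b : Ω} {g : G}

theorem orb_iff : Orb M a b ↔ b ∈ orbit M a :=
  ⟨fun ⟨m, hm, e⟩ => ⟨⟨m, hm⟩, e⟩, fun ⟨m, e⟩ => ⟨m, m.2, e⟩⟩

/-- a point of the orbit -/
def pt (h : Orb M a b) : orbit M a := ⟨b, orb_iff.1 h⟩

theorem orb_coe (c : orbit M a) : Orb M a (c : Ω) := orb_iff.2 c.2

theorem pm_dom (M : Subgroup G) (a : Ω) : (pm M a).dom = M := rfl

theorem pm_smul (hg : g ∈ M) (c : orbit M a) : (((pm M a).app g • c : orbit M a) : Ω) = g • (c : Ω) := by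
  rw [PHom.app_eq (φ := pm M a) hg]; rfl

theorem pm_smul_eq (hg : g ∈ M) {c d : orbit M a} : (pm M a).app g • c = d ↔ g • (c : Ω) = d := by
  rw [Subtype.ext_iff, pm_smul hg]

theorem pm_surj (x : Pm M a) : ∃ g ∈ M, (pm M a).app g = x := by
  obtain ⟨g, e⟩ := (toPermHom M (orbit M a)).rangeRestrict_surjective x
  exact ⟨g, g.2, by rw [PHom.app_eq (φ := pm M a) g.2]; exact e⟩

theorem pm_im (M : Subgroup G) (a : Ω) : (pm M a).im M = ⊤ :=
  eq_top_iff.2 fun x _ => (PHom.mem_im' le_rfl).2 (pm_surj x)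

theorem pm_ker (M : Subgroup G) (a : Ω) : (pm M a).ker = Ker M a := by
  ext k; rw [PHom.mem_ker, mem_Ker]
  refine and_congr_right fun (hk : k ∈ M) => ⟨fun e b hb => ?_, fun h => ?_⟩
  · have := pm_smul hk (pt hb); rw [e, one_smul] at this; exact this.symm
  · exact Subtype.ext (Equiv.ext fun c => (pm_smul_eq hk).2 (h c (orb_coe c)))

theorem pm_eq_one (hg : g ∈ M) : (pm M a).app g = 1 ↔ g ∈ Ker M a := by
  rw [← pm_ker, PHom.mem_ker]; exact ⟨fun h => ⟨hg, h⟩, fun h => h.2⟩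

theorem pm_St (c : orbit M a) : (pm M a).im (M ⊓ St G (c : Ω)) = stabilizer (Pm M a) c := by
  ext x; obtain ⟨g, hg, rfl⟩ := pm_surj x
  rw [PHom.app_mem_iff (φ := pm M a) (A := M ⊓ St G (c : Ω)) hg inf_le_left (by
    rw [pm_ker]; exact le_inf (Ker_le _ _) (Ker_le_St (orb_coe c))), mem_stabilizer_iff, pm_smul_eq hg]
  exact ⟨fun h => h.2, fun h => ⟨hg, h⟩⟩

theorem pm_St2 (c d : orbit M a) :
    (pm M a).im (M ⊓ St2 G (c : Ω) (d : Ω)) = St2 (Pm M a) c d := by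
  rw [St2, inf_inf_distrib_left, PHom.im_inf (φ := pm M a) (B := M ⊓ St G (d : Ω)) inf_le_left (by
    rw [pm_ker]; exact le_inf (Ker_le _ _) (Ker_le_St (orb_coe d))), pm_St, pm_St]

instance faithfulPm (M : Subgroup G) (a : Ω) : FaithfulSMul (Pm M a) (orbit M a) :=
  ⟨fun h => Subtype.ext (Equiv.ext h)⟩

end Proj

variable {G Ω : Type*} [Group G] [Finite G] [MulAction G Ω]
variable {M Q X Y : Subgroup G} {a b c d : Ω} {t s s' u k g : G} {p : ℕ}

theorem exists_orb_ne (hM : ¬ M ≤ St G a) : ∃ b, Orb M a b ∧ b ≠ a := by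
  obtain ⟨m, hm, h⟩ := SetLike.not_le_iff_exists.1 hM
  exact ⟨_, orb_smul hm a, h⟩

theorem not_le_St_orb (hM : ¬ M ≤ St G a) (hb : Orb M a b) : ¬ M ≤ St G b := fun h => by
  obtain ⟨m, hm, e⟩ := hb.symm
  rw [h hm] at e; exact hM (e ▸ h)

theorem Fix1.odd_Ker (S : Fix1 G Ω) (hM : ¬ M ≤ St G a) : Odd #(Ker M a) := by
  obtain ⟨b, hb, n⟩ := exists_orb_ne hM
  exact S.odd_of_fix n (Ker_le_St hb) (Ker_le_St (Orb.refl M a))

theorem Fix1.pm_ord (S : Fix1 G Ω) (hM : ¬ M ≤ St G a) (hs : orderOf s = 2) (h : s ∈ M) :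
    orderOf ((pm M a).app s) = 2 := by
  refine ord2_iff.2 ⟨by rw [← PHom.app_mul h h, mul_self_of_ord hs, PHom.app_one], fun e => ?_⟩
  have := odd_ord_of_mem (S.odd_Ker hM) ((pm_eq_one h).1 e)
  rw [hs] at this; exact absurd this (by decide)

theorem Fix1.pm_four (S : Fix1 G Ω) (hM : ¬ M ≤ St G a) (h4 : FourIn M) : Four (Pm M a) := by
  obtain ⟨x, hx, y, hy, h1, h2, h3, h5⟩ := h4
  have e1 := ord2_iff.1 (S.pm_ord hM h1 hx)
  have e2 := ord2_iff.1 (S.pm_ord hM h2 hy)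
  have e3 : orderOf (x * y) = 2 := ord2_iff.2 ⟨by
    rw [mul_assoc, ← mul_assoc y, ← h5, mul_assoc, mul_self_of_ord h2, mul_one, mul_self_of_ord h1],
    fun e => h3 (by rw [eq_inv_of_mul_eq_one_left e, inv_of_ord h2])⟩
  refine ⟨_, _, e1.2, e2.2, fun e => (ord2_iff.1 (S.pm_ord hM e3 (mul_mem hx hy))).2 ?_, e1.1, e2.1,
    by rw [← PHom.app_mul hx hy, ← PHom.app_mul hy hx, h5]⟩
  rw [PHom.app_mul hx hy, e, e2.1]

/-- move the base point -/
theorem Concl.cj (h : Concl M a Q) (hg : g ∈ M) : Concl M (g • a) (BG.cj g Q) := by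
  have e : M ⊓ St G (g • a) = BG.cj g (M ⊓ St G a) := by rw [cj_inf, cj_of_mem hg, cj_St]
  have o : ∀ {b}, Orb M (g • a) b → Orb M a (g⁻¹ • b) := fun hb =>
    ((orb_smul hg a).trans hb).smul (inv_mem hg)
  have n : ∀ {b : Ω}, b ≠ g • a → g⁻¹ • b ≠ a := fun hb e => hb (inv_smul_eq_iff.1 e)
  refine ⟨e ▸ cj_mono g h.le, e ▸ norm_cj.2 h.norm, fun b c hb hc n1 n2 => ?_, fun q hq b hb n1 e1 => ?_⟩
  · obtain ⟨q, hq, e1⟩ := h.trans _ _ (o hb) (o hc) (n n1) (n n2)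
    exact ⟨_, mem_cj_conj.2 hq, by rw [mul_smul, mul_smul, e1, smul_inv_smul]⟩
  · have := h.reg _ (mem_cj.1 hq) _ (o hb) (n n1) (by rw [mul_smul, mul_smul, smul_inv_smul, e1])
    rw [← Ker_congr (orb_smul hg a)]
    simpa [mul_assoc] using conj_mem (Ker_norm M a hg) this

theorem Concl.orb (h : Concl M a Q) (hb : Orb M a b) : ∃ Q', Concl M b Q' := by
  obtain ⟨m, hm, rfl⟩ := hb; exact ⟨_, h.cj hm⟩

theorem Concl.tr2 (h : Concl M a Q) {b c d e : Ω} (hb : Orb M a b) (hc : Orb M a c)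
    (hd : Orb M a d) (he : Orb M a e) (n1 : b ≠ c) (n2 : d ≠ e) :
    ∃ m ∈ M, m • b = d ∧ m • c = e := by
  obtain ⟨x, hx, e1⟩ := hb.symm
  obtain ⟨y, hy, e2⟩ := hd.symm
  obtain ⟨q, hq, e3⟩ := h.trans _ _ (hc.smul hx) (he.smul hy)
    (fun e => n1 (smul_left_cancel x (e1.trans e.symm))) (fun e => n2 (smul_left_cancel y (e2.trans e.symm)))
  refine ⟨y⁻¹ * q * x, mul_mem (mul_mem (inv_mem hy) (h.le hq).1) hx, ?_, ?_⟩
  · rw [mul_smul, mul_smul, e1, (h.le hq).2, ← e2, inv_smul_smul]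
  · rw [mul_smul, mul_smul, e3, inv_smul_smul]

/-- the rank one setup in the image of `M` -/
theorem Concl.r1 (h : Concl M a Q) (S : Fix1 G Ω) (hs : s ∈ Iv M a) (ht : orderOf t = 2) (htM : t ∈ M)
    (ha : t • a ≠ a) :
    R1 (Pm M a) (orbit M a) (pt (Orb.refl M a)) ((pm M a).app t) ((pm M a).im Q) := by
  have hM : ¬ M ≤ St G a := fun e => ha (e htM)
  have QM : Q ≤ M := h.le.trans inf_le_left
  have e0 := ord2_iff.1 (S.pm_ord hM ht htM)
  have tb : (((pm M a).app t • pt (Orb.refl M a) : orbit M a) : Ω) = t • a := pm_smul htM _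
  have st := pm_St (pt (Orb.refl M a))
  have st2 := pm_St2 (pt (Orb.refl M a)) ((pm M a).app t • pt (Orb.refl M a))
  rw [tb] at st2
  have od : Odd #(St2 (Pm M a) (pt (Orb.refl M a)) ((pm M a).app t • pt (Orb.refl M a))) := by
    rw [← st2]
    exact (odd_of_le (S.odd_St2 ha.symm) inf_le_right).of_dvd_nat (PHom.card_im_dvd _)
  have i1 : (pm M a).im Q ⊓ stabilizer (Pm M a) ((pm M a).app t • pt (Orb.refl M a)) = ⊥ := by
    refine (eq_bot_iff_forall _).2 fun x hx => ?_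
    obtain ⟨q, hq, rfl⟩ := (PHom.mem_im' QM).1 hx.1
    have := (pm_smul_eq (QM hq)).1 hx.2
    rw [tb] at this
    exact (pm_eq_one (QM hq)).2 (h.reg q hq _ (orb_smul htM a) ha this)
  have nQ : stabilizer (Pm M a) (pt (Orb.refl M a)) ≤ N[(pm M a).im Q] := st ▸ PHom.im_norm h.norm
  have i2 : (pm M a).im Q ⊔ St2 (Pm M a) (pt (Orb.refl M a)) ((pm M a).app t • pt (Orb.refl M a)) =
      stabilizer (Pm M a) (pt (Orb.refl M a)) := by
    rw [← st2, ← st, ← PHom.im_sup (φ := pm M a) (B := M ⊓ _) QM inf_le_left]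
    congr 1
    refine le_antisymm (sup_le h.le (inf_le_inf_left _ inf_le_left)) fun g hg => ?_
    obtain ⟨q, hq, e⟩ := h.trans _ _ (orb_smul htM a) ((orb_smul htM a).smul hg.1) ha
      fun e => ha (smul_left_cancel g (e.trans hg.2.symm))
    rw [show g = q * (q⁻¹ * g) by group]
    have m := mul_mem (inv_mem (h.le hq)) hg
    exact mul_mem_sup hq (mem_inf.2 ⟨m.1, mem_St2.2 ⟨m.2, by rw [mul_smul, ← e, inv_smul_smul]⟩⟩)
  refine ⟨mp_of_tr2 fun b c d e n1 n2 => ?_, e0.1, e0.2, fun e => ha ((pm_smul_eq htM).1 e),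
    st ▸ PHom.im_mono h.le, fun g hg x hx => conj_mem (nQ hg) hx, i1, i2, ?_, od⟩
  · obtain ⟨m, hm, e1, e2⟩ := h.tr2 (orb_coe b) (orb_coe c) (orb_coe d) (orb_coe e)
      (fun e => n1 (Subtype.ext e)) (fun e => n2 (Subtype.ext e))
    exact ⟨_, (pm_smul_eq hm).2 e1, (pm_smul_eq hm).2 e2⟩
  · have h6 : Even #(stabilizer (Pm M a) (pt (Orb.refl M a))) := by
      rw [even_iff_two_dvd, ← S.pm_ord hM hs.2.1 hs.1]
      exact orderOf_dvd (mem_stabilizer_iff.2 ((pm_smul_eq hs.1).2 hs.2.2))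
    rw [← i2, ← (sdprod_sup (eq_bot_iff.2 (le_trans (inf_le_inf_left _ inf_le_right) i1.le))
      (inf_le_left.trans nQ)).card] at h6
    exact (Nat.even_mul.1 h6).resolve_right (Nat.not_even_iff_odd.2 od)

theorem Fix1.exists_move (S : Fix1 G Ω) (hM : ¬ M ≤ St G a) (hs : s ∈ Iv M a) :
    ∃ t ∈ M, orderOf t = 2 ∧ t • a ≠ a := by
  obtain ⟨m, hm, h⟩ := SetLike.not_le_iff_exists.1 hM
  refine ⟨_, mul_mem (mul_mem hm hs.1) (inv_mem hm), ord_conj hs.2.1 m, fun e => h ?_⟩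
  exact (S.uniq (ord_conj hs.2.1 m) e (by rw [mul_smul, mul_smul, inv_smul_smul, hs.2.2])).symm

/-- involutions of `M` with the same fixed point commute modulo the kernel -/
theorem Concl.comm (h : Concl M a Q) (S : Fix1 G Ω) (h4 : FourIn M) (hM : ¬ M ≤ St G a)
    (hb : Orb M a b) (hs : s ∈ Iv M b) (hs' : s' ∈ Iv M b) : (s * s') * (s * s') ∈ Ker M a := by
  obtain ⟨Q', h'⟩ := h.orb hb
  have hM' := not_le_St_orb hM hb
  obtain ⟨t, htM, ht, ha⟩ := S.exists_move hM' hs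
  have R := h'.r1 S hs ht htM ha
  have e1 := mul_self_of_ord (S.pm_ord hM' hs.2.1 hs.1)
  have e2 := mul_self_of_ord (S.pm_ord hM' hs'.2.1 hs'.1)
  have := R.central (S.pm_four hM' h4) e1 ((pm_smul_eq hs.1).2 hs.2.2)
    (R.inv_Q e2 ((pm_smul_eq hs'.1).2 hs'.2.2))
  have m := mul_mem hs.1 hs'.1
  rw [Ker_congr hb, ← pm_eq_one (mul_mem m m), PHom.app_mul m m, PHom.app_mul hs.1 hs'.1, mul_assoc,
    ← mul_assoc _ ((pm M b).app s), ← this, mul_assoc, e2, mul_one, e1]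

/-- an odd order element of `M_c` inverted by an involution of `M_c` lies in the kernel -/
theorem Concl.inv_ker (h : Concl M a Q) (S : Fix1 G Ω) (h4 : FourIn M) (hM : ¬ M ≤ St G a)
    (hc : Orb M a c) (ht : t ∈ Iv M c) (hk : k ∈ M) (hkc : k • c = c) (ho : Odd (orderOf k))
    (hi : t * k * t⁻¹ = k⁻¹) : k ∈ Ker M a := by
  have h1 : k * t * k⁻¹ ∈ Iv M c := ⟨mul_mem (mul_mem hk ht.1) (inv_mem hk), ord_conj ht.2.1 k, by
    rw [mul_smul, mul_smul, inv_smul_eq_iff.2 hkc.symm, ht.2.2, hkc]⟩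
  have h2 := h.comm S h4 hM hc h1 ht
  have e : k * t * k⁻¹ * t = k * k := by
    calc k * t * k⁻¹ * t = k * (t * k * t⁻¹)⁻¹ := by rw [inv_of_ord ht.2.1]; simp [mul_assoc, inv_of_ord ht.2.1]
      _ = k * k := by rw [hi, inv_inv]
  rw [e, show k * k * (k * k) = k ^ 4 by simp [pow_succ, mul_assoc]] at h2
  have c4 : (4 : ℕ).Coprime (orderOf k) := (Nat.coprime_two_left.2 ho).pow_left 2
  obtain ⟨m, hm⟩ := exists_pow_eq_self_of_coprime c4
  rw [← hm]; exact pow_mem h2 m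

end Cfsg.Agent.SE
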