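import Cfsg.Agent.SE.P1
import Cfsg.Agent.SE.Bt
import Cfsg.Agent.PLoc.Hol
import Cfsg.Agent.PLoc.Stab2

/-! # Part A, first file: `ZJ`, general lemmas, and step 0 -/

set_option autoImplicit false
set_option linter.unusedVariables false
set_option linter.unusedSectionVars false

namespace Cfsg.Agent.SE
open Cfsg Cfsg.Agent.BG Cfsg.Agent.Inv MulAction Subgroup PHom

variable {G Ω : Type*} [Group G] [Finite G] [MulAction G Ω]
variable {A B D H K L M N P Q R T U X Y Z : Subgroup G} {a b c d : Ω} {t s s' u k g w f : G} {p q : ℕ}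
  {π : Set ℕ}

/-! ### ZJ -/

/-- `Z(J(P))` -/
def ZJ (P : Subgroup G) : Subgroup G := PLoc.ZJOf 0 P

theorem ZJ_le (P : Subgroup G) : ZJ P ≤ P := PLoc.ZJOf_le P
theorem cj_ZJ (g : G) (P : Subgroup G) : cj g (ZJ P) = ZJ (cj g P) := PLoc.cj_ZJOf g P
theorem normZJ (h : X ≤ N[P]) : X ≤ N[ZJ P] := norm_fun ZJ cj_ZJ h
theorem ZJ_ne_bot (hP : PiG {p} P) (h : P ≠ ⊥) : ZJ P ≠ ⊥ :=
  haveI : Fact p.Prime := ⟨hP.prime h⟩
  PLoc.ZJOf_ne_bot (hP.pg (hP.prime h)) h (dvd_zero p)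

theorem ZJ_factor (hp : p.Prime) (p2 : p ≠ 2) (hs : Sol X) (hab : PLoc.AbSyl2 X) (hP : Syl p P X) :
    IsProd O[{p}ᶜ](X) (X ⊓ N[ZJ P]) X := by
  haveI : Fact p.Prime := ⟨hp⟩
  have h1 : PLoc.AbSyl2 (⊤ : Subgroup X) := by
    have := hab.comap X.subtype_injective
    rwa [comap_subtype, subgroupOf_self] at this
  have h2 : PLoc.AbSyl2 (⊤ : Subgroup (X ⧸ pPrimeCore p X)) := by
    have := h1.map (QuotientGroup.mk' (pPrimeCore p X))
    rwa [map_top_of_surjective _ (QuotientGroup.mk'_surjective _)] at this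
  obtain ⟨S, rfl⟩ := hP.exists_sylow hp
  have h3 := PLoc.ZJ_factorization (e := 0) p2 (Or.inr rfl)
    (PLoc.isPConstrained_of_isPSolvable (PLoc.isPSolvable_of_isSolvable hs))
    (PLoc.stabN_of_abSyl2 p2 h2) ((syl_iff' hp).1 (syl_top hp S))
  refine isProd_of_l (inf_le_left.trans (O_norm _ _)) (le_antisymm (sup_le (O_le _ _) inf_le_left) ?_)
  have h4 := congrArg (map X.subtype) h3
  rw [Subgroup.map_sup, pPrimeCore_map hp, map_subtype_top] at h4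
  refine h4.ge.trans (sup_le_sup_left (le_inf (map_subtype_le _) ?_) _)
  rw [ZJ, ← PLoc.map_ZJOf_inj X.subtype_injective]
  exact norm_map le_rfl _

theorem abSyl2_odd (h : Odd #X) : PLoc.AbSyl2 X := fun T hT h2 => by
  have : T = ⊥ := (pig_of_pg Nat.prime_two h2).eq_bot
    ((pin_compl Nat.prime_two).2 (odd_of_le h hT).not_two_dvd_nat)
  subst this; exact abel_bot.comm

theorem ZJ_factor_odd (hp : p.Prime) (p2 : p ≠ 2) (ho : Odd #X) (hP : Syl p P X) :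
    IsProd O[{p}ᶜ](X) (X ⊓ N[ZJ P]) X :=
  ZJ_factor hp p2 (sol_of_odd ho) (abSyl2_odd ho) hP

/-! ### general lemmas -/

theorem le_O_of_syl_norm' (hs : Sol H) (hP : Syl p P H) (h1 : K ≤ H) (h2 : PiG {p}ᶜ K) (h3 : P ≤ N[K]) :
    K ≤ O[{p}ᶜ](H) := by
  set D := O[{p}ᶜ](H)
  have nD : H ≤ N[D] := O_norm _ _
  have a : K ÷ D ≤ C[O[{p}](H ÷ D)] := cent_symm ((O_pig _ _).cent (h2.im _) ((hP.im nD).O_le.trans (im_norm h3))
    ((im_mono h1).trans (O_norm _ _)))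
  have b := (le_inf (im_mono h1) a).trans (C_O_le (hs.im _) (O_quo_O _ _))
  exact (quo_bot_iff (h1.trans nD)).1 (((O_pig _ _).of_le b).eq_bot (h2.im _))

theorem le_O_of_forall' (h1 : Y ≤ H) (h : ∀ q, q.Prime → q ∉ π → Y ≤ O[{q}ᶜ](H)) : Y ≤ O[π](H) := by
  set K := H ⊓ ⨅ (q : ℕ) (_ : q.Prime ∧ q ∉ π), O[{q}ᶜ](H)
  refine (le_inf h1 (le_iInf₂ fun q hq => h q hq.1 hq.2)).trans (le_O (A := K) inf_le_left
    (normI (normG H) (norm_iInf fun q => norm_iInf fun _ => O_norm _ _)) fun q hq hd => ?_)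
  by_contra hn
  exact (O_pig {q}ᶜ H).of_le (inf_le_right.trans (iInf₂_le q ⟨hq, hn⟩)) q hq hd rfl

/-- a `p'`-subgroup normal in `N_H(R)` for a `p`-subgroup `R` lies in `O_{p'}(H)` -/
theorem le_O_of_local (hs : Sol H) (hR : PiG {p} R) (h1 : R ≤ H) (h2 : Y ≤ H) (h3 : Y ≤ C[R])
    (h4 : PiG {p}ᶜ Y) (h5 : H ⊓ C[R] ≤ N[Y]) : Y ≤ O[{p}ᶜ](H) :=
  (le_O (le_inf h2 h3) h5 h4).trans (p'core_cent_pgroup hR h1 hs)

namespace MC
variable (S : MC G Ω)
include S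

theorem eq_one (h : ∀ c : Ω, g • c = c) : g = 1 := by
  haveI := S.simple; haveI := S.nt
  obtain ⟨a, b, hab⟩ := exists_pair_ne Ω
  have hn : (Ker (⊤ : Subgroup G) a).Normal := normal_iff.2 (Ker_norm _ _)
  rcases hn.eq_bot_or_eq_top with e | e
  · have : g ∈ Ker (⊤ : Subgroup G) a := ⟨trivial, fun b _ => h b⟩
    rwa [e] at this
  · obtain ⟨x, hx⟩ := S.tr a b
    have : x ∈ Ker (⊤ : Subgroup G) a := by rw [e]; trivial
    exact absurd ((this.2 a (Orb.refl _ _)).symm.trans hx) hab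

theorem orb (a b : Ω) : Orb (⊤ : Subgroup G) a b := by
  obtain ⟨g, hg⟩ := S.tr a b; exact ⟨g, trivial, hg⟩

theorem not_le (a : Ω) : ¬ (⊤ : Subgroup G) ≤ St G a := fun h => by
  haveI := S.nt
  obtain ⟨b, hb⟩ := exists_ne a
  obtain ⟨g, hg⟩ := S.tr a b
  exact hb (hg.symm.trans (h (mem_top g)))

theorem exists_inv : ∃ (t : G) (c : Ω), orderOf t = 2 ∧ t • c = c := by
  obtain ⟨t, -, -, -, ht, -⟩ := S.four
  obtain ⟨c, hc⟩ := S.ex t ht
  exact ⟨t, c, ht, hc⟩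

theorem iv (a : Ω) : ∃ s, s ∈ Iv (⊤ : Subgroup G) a := by
  obtain ⟨t, c, ht, hc⟩ := S.exists_inv
  exact S.exists_iv ht (mem_top _) hc (S.orb c a)

theorem four' (a : Ω) : FourIn ((⊤ : Subgroup G) ⊓ St G a) := by
  obtain ⟨t, c, ht, hc⟩ := S.exists_inv
  exact S.four_St ht (mem_top _) hc (S.not_le c) S.four (S.orb c a)

theorem swap (h : a ≠ b) : ∃ w : G, orderOf w = 2 ∧ w • a = b := by
  obtain ⟨t, c, ht, hc⟩ := S.exists_inv
  obtain ⟨w, -, hw⟩ := S.swap_in ht (mem_top _) hc (S.orb c a) (S.orb c b) h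
  exact ⟨w, hw⟩

theorem nI_eq (a b : Ω) : nI (⊤ : Subgroup G) a = nI (⊤ : Subgroup G) b := S.nI_orb (S.orb a b)

theorem kc_D (ht : orderOf t = 2) (ha : t • a ≠ a) (b : Ω) :
    kc t (St2 G a (t • a)) = nI (⊤ : Subgroup G) b := by
  obtain ⟨s, hs⟩ := S.iv a
  have := S.kc_eq_nI ht (mem_top _) ha hs
  rwa [top_inf_eq, S.nI_eq a b] at this

theorem card_D (ht : orderOf t = 2) (hc : t • c = c) (h : a ≠ c) :
    #(St2 G a c) = #(St2 G a (t • a)) := by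
  have := S.card_St2 ht (mem_top _) hc (S.orb c a) h
  rwa [top_inf_eq, top_inf_eq] at this

theorem conj (ht : orderOf t = 2) (hu : orderOf u = 2) : ∃ g : G, g * t * g⁻¹ = u := by
  obtain ⟨c, hc⟩ := S.ex t ht
  obtain ⟨g, -, hg⟩ := S.conj_in ht (mem_top _) hc (S.not_le c) hu (mem_top _)
  exact ⟨g, hg⟩

theorem N_ne_top (h1 : U ≠ ⊥) (h2 : U ≠ ⊤) : N[U] ≠ ⊤ := fun e => by
  haveI := S.simple
  rcases (normal_iff.2 e.ge : U.Normal).eq_bot_or_eq_top with e | e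
  exacts [h1 e, h2 e]

theorem ne_top_of_odd (h : Odd #U) : U ≠ ⊤ := by
  rintro rfl
  obtain ⟨t, c, ht, hc⟩ := S.exists_inv
  have := odd_ord_of_mem h (mem_top t)
  rw [ht] at this; exact absurd this (by decide)

theorem N_ne_top' (h1 : U ≠ ⊥) (h2 : Odd #U) : N[U] ≠ ⊤ := S.N_ne_top h1 (S.ne_top_of_odd h2)

/-- Step 0 -/
theorem g1_of_iv (hL : L ≠ ⊤) (hLa : ¬ L ≤ St G a) (h : ∀ s ∈ Iv (⊤ : Subgroup G) a, s ∈ L) : G1 G Ω := by
  haveI := S.nt
  obtain ⟨x, hx, y, hy, ox, oy, xy, cxy⟩ := S.four' a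
  have xI : x ∈ Iv (⊤ : Subgroup G) a := ⟨trivial, ox, hx.2⟩
  have yI : y ∈ Iv (⊤ : Subgroup G) a := ⟨trivial, oy, hy.2⟩
  have h4 : FourIn (L ⊓ St G a) := ⟨x, ⟨h x xI, hx.2⟩, y, ⟨h y yI, hy.2⟩, ox, oy, xy, cxy⟩
  obtain ⟨Q, hQ⟩ := S.ih L hL a h4 hLa
  set T : Subgroup G := closure {z | ∃ s ∈ Iv (⊤ : Subgroup G) a, ∃ s' ∈ Iv (⊤ : Subgroup G) a,
    z = (s * s') * (s * s')} with hT
  have TK : T ≤ Ker L a := (closure_le _).2 (by
    rintro _ ⟨s, hs, s', hs', rfl⟩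
    exact hQ.comm S.toFix1 (h4.mono inf_le_left) hLa (Orb.refl _ _) ⟨h s hs, hs.2⟩ ⟨h s' hs', hs'.2⟩)
  have oT : Odd #T := odd_of_le (S.odd_Ker hLa) TK
  have cI : ∀ g ∈ St G a, ∀ s ∈ Iv (⊤ : Subgroup G) a, g * s * g⁻¹ ∈ Iv (⊤ : Subgroup G) a :=
    fun g hg s hs => ⟨trivial, ord_conj hs.2.1 g, by
      rw [mul_smul, mul_smul, (inv_mem hg : g⁻¹ • a = a), hs.2.2, hg]⟩
  have nT : St G a ≤ N[T] := fun g hg => mem_N_of_cj_le (by
    rw [hT, cj, MonoidHom.map_closure, closure_le]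
    rintro _ ⟨_, ⟨s, hs, s', hs', rfl⟩, rfl⟩
    exact subset_closure ⟨_, cI g hg s hs, _, cI g hg s' hs', by simp [mul_assoc]⟩)
  have Ta : T ≤ St G a := TK.trans (Ker_le_St (Orb.refl _ _))
  -- counting
  have xa : C1[x] ≤ St G a := S.C1_le ox hx.2
  set m := (T ⊔ C1[x]).relIndex (St G a) with hm
  have e1 : nI (⊤ : Subgroup G) a = m * kc x T := by
    have h1 := S.card_St ox (mem_top _) hx.2 (S.not_le a)
    rw [top_inf_eq, top_inf_eq] at h1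
    have h2 := card_mul_relIndex (sup_le Ta xa)
    have h3 := (isProd_l (xa.trans nT)).card
    have h5 := kc_mul ox oT (nT hx.2)
    rw [← hm] at h2
    have h6 : #(T ⊔ C1[x]) = kc x T * #C1[x] :=
      Nat.eq_of_mul_eq_mul_right (card_pos (T ⊓ C1[x])) (by rw [h3, h5]; ring)
    refine Nat.eq_of_mul_eq_mul_left (card_pos C1[x]) ?_
    rw [← h1, ← h2, h6]; ring
  have m1 : m ≠ 1 := fun e => by
    have le : St G a ≤ T ⊔ C1[x] := relIndex_eq_one.1 e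
    obtain ⟨g, -, hg⟩ := S.conj_in ox (mem_top _) hx.2 (S.not_le a) oy (mem_top _)
    have ga : g • a = a := S.uniq oy (by
      rw [← hg, mul_smul, mul_smul, inv_smul_smul, (hx.2 : x • a = a)]) hy.2
    obtain ⟨τ, hτ, v, hv, rfl⟩ := (mem_sup_l (xa.trans nT)).1 (le ga)
    have e2 : y = τ * x * τ⁻¹ := by
      rw [← hg, mul_assoc τ v x, mem_C1.1 hv]; group
    have : x * y ∈ T := by
      have := mul_mem (conj_mem (nT hx.2) hτ) (inv_mem hτ)
      rw [e2]; convert this using 1; rw [inv_of_ord ox]; group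
    have h1 := eq_one_of_sq (odd_ord_of_mem oT this) (by
      calc x * y * (x * y) = x * (y * x) * y := by group
        _ = (x * x) * (y * y) := by rw [← cxy]; group
        _ = 1 := by rw [mul_self_of_ord ox, mul_self_of_ord oy, one_mul])
    exact xy (by rw [← inv_of_ord ox]; exact inv_eq_of_mul_eq_one_right h1)
  obtain ⟨p, hp, pm⟩ := Nat.exists_prime_and_dvd m1
  have pn : p ∣ nI (⊤ : Subgroup G) a := e1 ▸ pm.mul_right _
  have hP1 : P1 G Ω p := by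
    by_contra hn
    obtain ⟨Y, r, b, c, hY, hr, rY, rc, bc, Yb, Yc, e⟩ := S.not_P1 S.tr ox hp pn hn
    obtain ⟨g, hg⟩ := S.conj hr ox
    have gc : g • c = a := S.uniq ox (by rw [← hg, mul_smul, mul_smul, inv_smul_smul, rc]) hx.2
    have oY : Odd #(cj g Y) := by rw [card_cj]; exact S.odd_of_fix bc Yb Yc
    have Ya : cj g Y ≤ St G a := by rw [← gc, ← cj_St]; exact cj_mono g Yc
    have le : tc x (cj g Y) ≤ T := tc_le_of fun k hk => by
      obtain ⟨z, hz, rfl, iz⟩ := exists_sqrt (odd_ord_of_mem oY hk.1) hk.2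
      have zY : z ∈ cj g Y := zp_le hk.1 hz
      refine subset_closure ⟨x, xI, x * z, ⟨trivial, ord_mul_inv ox (odd_ord_of_mem oY zY) iz, ?_⟩, ?_⟩
      · rw [mul_smul, (Ya zY : z • a = a)]; exact hx.2
      · rw [← mul_assoc x x, mul_self_of_ord ox, one_mul]
    have h1 := kc_le_pp ox oT (nT hx.2) hp le ((hY.cj g).of_le (tc_le _ _)) (t_norm_tc _ _)
    rw [kc_tc, ← hg, kc_cj, hg, e, e1] at h1
    exact absurd (pp_lt hp (relIndex_pos _ _).ne' (kc_pos _ _).ne' pm) (not_lt.2 h1)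
  have h2 := S.tr2_of_P1 S.tr ox hp pn hP1
  have T1 : T = ⊥ := by
    obtain ⟨l, hl, la⟩ := SetLike.not_le_iff_exists.1 hLa
    have Tb : T ≤ St G (l • a) := TK.trans (Ker_le_St (orb_smul hl a))
    refine eq_bot_iff.2 fun τ hτ => S.eq_one fun d => ?_
    by_cases e : d = a
    · rw [e]; exact Ta hτ
    · obtain ⟨g, g1, g2⟩ := h2 a (l • a) a d (Ne.symm la) (Ne.symm e)
      rw [← g2]; exact fix_smul (nT g1) Tb hτ
  intro t k b c ht tc hk kc kb bc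
  have ok : Odd (orderOf k) := odd_ord_of_mem (S.odd_St2 bc) ⟨kb, kc⟩
  obtain ⟨g, hg⟩ := S.tr c a
  have i1 : g * t * g⁻¹ ∈ Iv (⊤ : Subgroup G) a :=
    ⟨trivial, ord_conj ht g, by rw [← hg, mul_smul, inv_smul_smul, mul_smul, tc]⟩
  have i2 : g * (t * k) * g⁻¹ ∈ Iv (⊤ : Subgroup G) a :=
    ⟨trivial, ord_conj (ord_mul_inv ht ok hk) g, by
      rw [← hg, mul_smul, inv_smul_smul, mul_smul, mul_smul, kc, tc]⟩
  have : _ ∈ T := subset_closure ⟨_, i1, _, i2, rfl⟩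
  rw [T1, mem_bot] at this
  refine eq_one_of_sq ok ?_
  have e : g * (k * k) * g⁻¹ = 1 := by
    rw [← this]
    calc g * (k * k) * g⁻¹ = g * ((t * t) * k * (t * t) * k) * g⁻¹ := by rw [mul_self_of_ord ht]; group
      _ = _ := by group
  calc k * k = g⁻¹ * (g * (k * k) * g⁻¹) * g := by group
    _ = 1 := by rw [e]; group

end MC

/-- a minimal counterexample in which (G1) fails -/
structure A0 (G Ω : Type*) [Group G] [MulAction G Ω] : Prop extends MC G Ω where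
  ng : ¬ G1 G Ω

namespace A0
variable (S : A0 G Ω)
include S

/-- (S0) a proper subgroup containing `t` and `K` has no involution fixing `a` -/
theorem s0 (hL : L ≠ ⊤) (ht : orderOf t = 2) (htL : t ∈ L) (ha : t • a ≠ a)
    (hK : ∀ k ∈ invertedBy (St2 G a (t • a)) t, k ∈ L) (hs : s ∈ Iv L a) : False := by
  refine S.ng (S.g1_of_iv hL (fun e => ha (e htL)) fun s' hs' => ?_)
  obtain ⟨k, hk, rfl⟩ := S.K_trans ht (mem_top _) ha ⟨trivial, hs.2⟩ hs'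
  have : k ∈ L := hK k ⟨hk.1.2, hk.2⟩
  exact mul_mem (mul_mem this hs.1) (inv_mem this)

theorem s0' (hL : L ≠ ⊤) (ht : orderOf t = 2) (htL : t ∈ L) (hc : t • c = c) (ha : a ≠ c)
    (hK : ∀ k ∈ invertedBy (St2 G a (t • a)) t, k ∈ L) (ho : Orb L c a) : False := by
  obtain ⟨s, hs⟩ := S.exists_iv ht htL hc ho
  exact S.s0 hL ht htL (S.ne_smul ht hc ha) hK hs

end A0

end Cfsg.Agent.SE
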