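import Cfsg.Agent.SE.A1

/-! # Part A, second file: proper subgroups containing a nontrivial element of `K ∩ G_c` have rank one -/

set_option autoImplicit false
set_option linter.unusedVariables false
set_option linter.unusedSectionVars false

namespace Cfsg.Agent.SE
open Cfsg Cfsg.Agent.BG Cfsg.Agent.Inv MulAction Subgroup PHom

variable {G Ω : Type*} [Group G] [Finite G] [MulAction G Ω]
variable {A B D H K L M N P Q R T U X Y Z : Subgroup G} {a b c d : Ω} {t s s' u k g w f x y z : G} {p q : ℕ}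
  {π : Set ℕ}

theorem four_cent (ht : orderOf t = 2) (hy : orderOf y = 2) (n : y ≠ t) (h : t * y = y * t)
    (hX : Odd #X) (h1 : t ∈ N[X]) (h2 : y ∈ N[X]) (h3 : ¬ X ≤ C1[t]) (hp : p.Prime) (hd : p ∣ kc t X) :
    ∃ z ∈ invertedBy X t, z ≠ 1 ∧ PiE {p} z ∧ ∃ u, orderOf u = 2 ∧ u ∈ C1[z] := by
  have ab := four_abelem ht hy h
  have nF : zpowers t ⊔ zpowers y ≤ N[X] := sup_le (zp_le h1) (zp_le h2)
  have cop := (ab.pig Nat.prime_two).coprime (pig2_of_odd hX)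
  obtain ⟨P, hP, nP⟩ := cop_syl_exists nF cop (Or.inl ab.abel.sol) hp
  have tP : t ∈ N[P] := nP (mem_sup_left (mem_zpowers t))
  have oP := odd_of_le hX hP.le
  have h4 : ¬ P ≤ C1[t] := fun e => by
    have := (kc_eq_one ht oP tP).2 e
    rw [kc_syl ht hX h1 hp hP tP] at this
    exact ((one_lt_pp hp (kc_pos _ _).ne').2 hd).ne' this
  by_contra hn
  refine h4 (cop_gen_cent1 ab.abel (four_not_cyc ht hy h n.symm) nP (coprimeS cop le_rfl hP.le)
    fun u hu u1 => ?_)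
  by_contra h5
  have ut : t ∈ C1[u] := C_le_C1 hu (ab.abel (mem_sup_left (mem_zpowers t)))
  obtain ⟨z, hz, z1⟩ := exists_inv_ne ht (odd_of_le oP inf_le_left)
    (normI (zp_le tP) (normC1 (zp_le ut)) (mem_zpowers t)) h5
  exact hn ⟨z, ⟨hP.le hz.1.1, hz.2⟩, z1, hP.pi.elt hz.1.1, u, orderOf_of_pow Nat.prime_two (ab.pow u hu) u1,
    C1_symm hz.1.2⟩

/-- the preimage of the group generated by the involutions of `L_a` modulo the kernel -/
theorem exists_W (S : Fix1 G Ω) (h : Concl L a Q) (h4 : FourIn L) (hL : ¬ L ≤ St G a) :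
    ∃ W : Subgroup G, W ≤ L ⊓ St G a ∧ L ⊓ St G a ≤ N[W] ∧ Ker L a ≤ W ∧ (∀ s ∈ Iv L a, s ∈ W) ∧
      ⁅W, W⁆ ≤ Ker L a ∧ PiN {2} ((Ker L a).relIndex W) := by
  have oK := S.odd_Ker hL
  have nK := Ker_norm L a
  have Ka : Ker L a ≤ St G a := Ker_le_St (Orb.refl _ _)
  have key : ∀ x ∈ L, x • a = a → x * x ∈ Ker L a →
      ∃ s ∈ L, ∃ n ∈ Ker L a, x = s * n ∧ (s = 1 ∨ s ∈ Iv L a) := fun x hx xa h2 => by
    obtain ⟨s, hs, n, hn, e, ps, pn⟩ := exists_pi_part {2} x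
    have on : Odd (orderOf n) :=
      Nat.not_even_iff_odd.1 fun e => (pin_compl Nat.prime_two).1 pn (even_iff_two_dvd.1 e)
    have c := zpowers_comm hs hn
    have e2 : x * x = (s * s) * (n * n) := by
      rw [e]; calc s * n * (s * n) = s * (n * s) * n := by group
        _ = _ := by rw [← c]; group
    have c2 : (s * s) * (n * n) = (n * n) * (s * s) := zpowers_comm (mul_mem hs hs) (mul_mem hn hn)
    have p1 : PiE {2} (s * s) := ps.mul ps rfl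
    have p2 : PiE {2}ᶜ (n * n) := pn.mul pn rfl
    have m1 : s * s ∈ Ker L a := zp_le h2 (e2 ▸ pi_part_mem p1 p2 c2)
    have s2 : s * s = 1 := p1.eq_one ((pig2_of_odd oK).elt m1)
    rw [e2, s2, one_mul] at h2
    refine ⟨s, zp_le hx hs, n, mem_of_sq_mem on h2, e, ?_⟩
    by_cases s1 : s = 1
    · exact Or.inl s1
    · exact Or.inr ⟨zp_le hx hs, orderOf_of_pow Nat.prime_two (by rw [pow_two, s2]) s1,
        zp_le (X := St G a) xa hs⟩
  have sq : ∀ s ∈ L, ∀ s' ∈ L, (s = 1 ∨ s ∈ Iv L a) → (s' = 1 ∨ s' ∈ Iv L a) →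
      s * s' * (s * s') ∈ Ker L a := fun s hs s' hs' h1 h2 => by
    rcases h1 with rfl | h1
    · rcases h2 with rfl | h2
      · simpa using one_mem _
      · rw [one_mul, mul_self_of_ord h2.2.1]; exact one_mem _
    · rcases h2 with rfl | h2
      · rw [mul_one, mul_self_of_ord h1.2.1]; exact one_mem _
      · exact h.comm S h4 hL (Orb.refl _ _) h1 h2
  let W : Subgroup G :=
    { carrier := {x | x ∈ L ∧ x • a = a ∧ x * x ∈ Ker L a}
      one_mem' := ⟨one_mem _, one_smul _ _, by simpa using one_mem _⟩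
      inv_mem' := fun {x} hx => ⟨inv_mem hx.1, inv_smul_eq_iff.2 hx.2.1.symm, by
        rw [← mul_inv_rev]; exact inv_mem hx.2.2⟩
      mul_mem' := fun {x y} hx hy => ⟨mul_mem hx.1 hy.1, by rw [mul_smul, hy.2.1, hx.2.1], by
        obtain ⟨s, hs, n, hn, rfl, h1⟩ := key x hx.1 hx.2.1 hx.2.2
        obtain ⟨s', hs', n', hn', rfl, h2⟩ := key y hy.1 hy.2.1 hy.2.2
        have m := mul_mem (conj_mem' (nK hs') hn) hn'
        have := mul_mem (mul_mem (sq s hs s' hs' h1 h2) (conj_mem' (nK (mul_mem hs hs')) m)) m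
        convert this using 1; group⟩ }
  have WL : W ≤ L := fun x hx => hx.1
  have pw : ∀ x ∈ W, (quo (Ker L a)).app x ^ 2 = 1 := fun x hx => by
    rw [← app_pow (nK (WL hx)), pow_two]
    exact (mem_ker.1 (by rw [quo_ker]; exact hx.2.2)).2
  have ab : Abelem 2 (W ÷ Ker L a) := by
    have p2 : ∀ y ∈ W ÷ Ker L a, y ^ 2 = 1 := fun y hy => by
      obtain ⟨x, hx, rfl⟩ := (mem_im' (WL.trans nK)).1 hy; exact pw x hx
    refine ⟨le_C_iff.2 fun x hx y hy => ?_, p2⟩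
    have h1 := p2 _ (mul_mem hx hy)
    have h2 := p2 _ hx
    have h3 := p2 _ hy
    rw [pow_two] at h1 h2 h3
    calc x * y = (x * y * (x * y))⁻¹ * (x * y) := by rw [h1]; group
      _ = (y * y)⁻¹ * (y * (x * x)⁻¹ * x) := by group
      _ = y * x := by rw [h2, h3]; group
  refine ⟨W, fun x hx => ⟨hx.1, hx.2.1⟩, fun g hg => mem_N_of fun x hx => ⟨mul_mem (mul_mem hg.1 hx.1) (inv_mem hg.1),
    conj_mem (normG (St G a) hg.2) (hx.2.1 : x ∈ St G a), ?_⟩, fun x hx => ⟨hx.1, Ka hx, mul_mem hx hx⟩,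
    fun s hs => ⟨hs.1, hs.2.2, by rw [mul_self_of_ord hs.2.1]; exact one_mem _⟩,
    (quo_abel_iff (WL.trans nK)).1 ab.abel, ?_⟩
  · have := conj_mem (nK hg.1) hx.2.2
    convert this using 1; group
  · rw [← card_quo (WL.trans nK)]; exact ab.pig Nat.prime_two

namespace A0
variable (S : A0 G Ω)
include S

/-- (BT) -/
theorem bt (hM : M ≠ ⊤) (ht : orderOf t = 2) (htM : t ∈ M) (hc : t • c = c) (hMc : ¬ M ≤ St G c)
    (hk : k ∈ M) (hkc : k • c = c) (ok : Odd (orderOf k)) (hi : t * k * t⁻¹ = k⁻¹) (k1 : k ≠ 1) :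
    ¬ FourIn M := fun h4 => by
  obtain ⟨Q, hQ⟩ := S.ih M hM c (S.four_St ht htM hc hMc h4 (Orb.refl _ _)) hMc
  have kK := hQ.inv_ker S.toFix1 h4 hMc (Orb.refl _ _) ⟨htM, ht, hc⟩ hk hkc ok hi
  have oK := S.odd_Ker hMc
  have nK := Ker_norm M c
  have h3 : ¬ Ker M c ≤ C1[t] := fun e => ne_of_inv ok hi k1 (e kK)
  obtain ⟨p, hp, pd⟩ := Nat.exists_prime_and_dvd (fun e => h3 ((kc_eq_one ht oK (nK htM)).1 e))
  obtain ⟨y, yM, oy, yt, cy⟩ := S.four_mem ht htM hc hMc h4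
  obtain ⟨z, hz, z1, pz, u, ou, uz⟩ := four_cent ht oy yt cy oK (nK htM) (nK yM) h3 hp pd
  have oz := odd_ord_of_mem oK hz.1
  have p2 : p ≠ 2 := by rintro rfl; exact oz.not_two_dvd_nat (pz.dvd z1)
  have tz := t_norm_zp hz.2
  have Cz : C[zpowers z] ≤ St G c := (C_le_N _).trans (S.F4 ht hc tz
    (by rw [C_zpowers]; exact fun e => ne_of_inv oz hz.2 z1 (C1_symm e)) ou (by rwa [C_zpowers]))
  obtain ⟨l, hl, lc⟩ := SetLike.not_le_iff_exists.1 hMc
  set α := l • c with hα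
  have αc : α ≠ c := lc
  have tα := S.ne_smul ht hc αc
  have oα : Orb M c α := orb_smul hl c
  set D := St2 G α (t • α) with hD
  have oD : Odd #D := S.odd_St2 tα.symm
  have tD : t ∈ N[D] := norm_St2 ht α
  have zD : z ∈ D := ⟨hz.1.2 _ oα, hz.1.2 _ (oα.smul htM)⟩
  have zc : z • c = c := hz.1.2 _ (Orb.refl _ _)
  have pZ : PiG {p} (zpowers z) := pig_zpowers.2 pz
  set A := O[{p}ᶜ](D) with hA
  have tA : t ∈ N[A] := normO _ (zp_le tD) (mem_zpowers t)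
  have Ac : A ≤ St G c := by
    by_contra hn
    exact S.cent_not_le ht hc (odd_of_le oD (O_le _ _)) tA hn (by rwa [card_zpowers']) tz (zp_le zc)
      ((zp_le zD).trans (O_norm _ _)) (zp_le (mem_tc ⟨mem_zpowers z, hz.2⟩)) (pZ.coprime (O_pig _ _))
      (inf_le_right.trans Cz)
  obtain ⟨L, ⟨hL, tL, L4, zL⟩, hmax⟩ := exists_max_of
    (fun L : Subgroup G => L ≠ ⊤ ∧ t ∈ L ∧ FourIn (L ⊓ St G α) ∧ z ∈ L) (fun L => pp p #(L ⊓ D))
    (A := M) ⟨hM, htM, S.four_St ht htM hc hMc h4 oα, hz.1.1⟩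
  have orbc : ∀ L : Subgroup G, t ∈ L → FourIn (L ⊓ St G α) → Orb L α c := fun L tL ⟨s, hs, _, _, os, _⟩ =>
    S.orb_of_inv os hs.1 hs.2 ht tL hc
  have Lα : ¬ L ≤ St G α := fun e => tα (e tL)
  obtain ⟨Q', hQ'⟩ := S.ih L hL α L4 Lα
  have L4' := L4.mono inf_le_left
  have zK := hQ'.inv_ker S.toFix1 L4' Lα (orbc L tL L4) ⟨tL, ht, hc⟩ zL zc oz hz.2
  obtain ⟨W, W1, W2, W3, W4, W5, W6⟩ := exists_W S.toFix1 hQ' L4' Lα
  have oK' := S.odd_Ker Lα
  have oLD : Odd #(L ⊓ D) := odd_of_le oD inf_le_right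
  have tLD : t ∈ N[L ⊓ D] := normI (normsG (zp_le tL)) (zp_le tD) (mem_zpowers t)
  have LDα : L ⊓ D ≤ L ⊓ St G α := inf_le_inf_left _ inf_le_left
  have nW : L ⊓ D ≤ N[W] := LDα.trans W2
  have KD : Ker L α ≤ L ⊓ D := le_inf (Ker_le _ _)
    (le_inf (Ker_le_St (Orb.refl _ _)) (Ker_le_St (orb_smul tL α)))
  set X := W ⊔ (L ⊓ D) with hX
  have Xα : X ≤ L ⊓ St G α := sup_le W1 LDα
  have nK' : W ≤ N[Ker L α] := (W1.trans inf_le_left).trans (Ker_norm _ _)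
  have sW : Sol W := sol_of_im (φ := quo (Ker L α)) nK'
    ((sol_of_odd oK').of_le (by rw [quo_ker]; exact inf_le_right)) ((quo_abel_iff nK').2 W5).sol
  have sX : Sol X := sW.sup_l (sol_of_odd oLD) nW
  have aX : PLoc.AbSyl2 X := fun T hT h2 => by
    have pT := pig_of_pg Nat.prime_two h2
    have TW : T ≤ W := pT.le_of_idx (sup_le (normG _) nW) hT (by
      rw [relIndex_sup_l nW]; exact (pig2_of_odd oLD).relIndex _)
    exact (abel_iff_der.2 (eq_bot_iff.2 ((le_inf (der_le T) ((derS TW).trans W5)).trans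
      (pT.inf_bot (pig2_of_odd oK')).le))).comm
  obtain ⟨P, hP, tP, zP⟩ := exists_syl_inv ht oLD tLD hp (zp_le ⟨zL, zD⟩) pZ tz
  have hPX : Syl p P X := hP.trans' le_sup_right (by
    rw [(isProd_l nW).symm.relIndex]
    exact (W6.ne_compl p2.symm).of_dvd (relIndex_dvd_left KD W))
  have oO : Odd #O[{p}ᶜ](X) := by
    by_contra hn
    obtain ⟨s, hs, os⟩ := exists_ord_two hn
    have sI : s ∈ Iv L α := ⟨(Xα (O_le _ _ hs)).1, os, (Xα (O_le _ _ hs)).2⟩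
    obtain ⟨m, hm, mc⟩ := (orbc L tL L4).symm
    have tI : m * t * m⁻¹ ∈ Iv L α := ⟨mul_mem (mul_mem hm tL) (inv_mem hm), ord_conj ht m, by
      rw [← mc, mul_smul, inv_smul_smul, mul_smul, hc]⟩
    obtain ⟨j, hj, e⟩ := S.K_trans ht tL tα sI tI
    have t' : m * t * m⁻¹ ∈ O[{p}ᶜ](X) := e ▸ conj_mem (O_norm _ _ (mem_sup_right hj.1)) hs
    have z' : m * z * m⁻¹ ∈ X := mem_sup_left (W3 (conj_mem (Ker_norm _ _ hm) zK))
    have oz' : Odd #(zpowers (m * z * m⁻¹)) := by rw [← cj_zpowers, card_cj, card_zpowers']; exact oz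
    have := tc_le_of_norm (ord_conj ht m) oz' t' ((zp_le z').trans (O_norm _ _)) (mem_tc ⟨mem_zpowers _, by
      calc _ = m * (t * z * t⁻¹) * m⁻¹ := by group
        _ = _ := by rw [hz.2]; group⟩)
    exact z1 (pz.eq_one (pie_conj.1 ((O_pig _ _).elt this)))
  have fac := ZJ_factor hp p2 sX aX hPX
  set Z := ZJ P with hZ
  have P1 : P ≠ ⊥ := ne_bot_of_mem (zP (mem_zpowers z)) z1
  have Z1 : Z ≠ ⊥ := ZJ_ne_bot hP.pi P1
  have ZP : Z ≤ P := ZJ_le P
  have pZ' : PiG {p} Z := hP.pi.of_le ZP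
  have PD : P ≤ D := hP.le.trans inf_le_right
  have nt : N[Z] ≠ ⊤ := S.N_ne_top' Z1 (odd_of_le oD (ZP.trans PD))
  have tZ : t ∈ N[Z] := normZJ (zp_le tP) (mem_zpowers t)
  have N4 : FourIn (N[Z] ⊓ St G α) := by
    obtain ⟨x, hx, y, hy, ox, oy, h⟩ := L4
    refine (four_of_idx (Y := X ⊓ N[Z]) ⟨x, mem_sup_left (W4 x ⟨hx.1, ox, hx.2⟩), y,
      mem_sup_left (W4 y ⟨hy.1, oy, hy.2⟩), ox, oy, h⟩ inf_le_left ?_).mono
      (le_inf inf_le_right (inf_le_left.trans (Xα.trans inf_le_right)))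
    rw [fac.symm.relIndex]; exact (pig2_of_odd oO).relIndex _
  have hPD : Syl p P D := by
    have h1 := hmax N[Z] ⟨nt, tZ, N4, normZJ (normG P) (zP (mem_zpowers z))⟩
    have h2 := syl_of_card hp (le_inf (normZJ (normG P)) PD) hP.pi (by rw [Syl.card_pp hP hp]; exact h1)
    exact Syl.of_norm (h2.sub (le_inf PD (normG P)) (le_inf (inf_le_right.trans (normZJ le_rfl)) inf_le_left)) hp
  have Nα : ¬ N[Z] ≤ St G α := fun e => tα (e tZ)
  obtain ⟨Q'', hQ''⟩ := S.ih _ nt α N4 Nα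
  obtain ⟨m, hm, m1, m2⟩ := hQ''.tr2 (Orb.refl _ _) (orb_smul tZ α) (Orb.refl _ _) (orbc _ tZ N4) tα.symm αc
  have eD : cj m D = St2 G α c := by rw [hD, cj_St2, m1, m2]
  have eZ : cj m Z = Z := cj_of_mem_N hm
  have f1 := ZJ_factor_odd hp p2 oD hPD
  have f2 := f1.cj m
  rw [cj_inf, cj_N, eZ, eD] at f2
  have ZD' : Z ≤ St2 G α c := by rw [← eZ, ← eD]; exact cj_mono m (ZP.trans PD)
  have AD' : A ≤ St2 G α c := le_inf ((O_le _ _).trans inf_le_left) Ac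
  have nA' : St2 G α c ≤ N[cj m A] := by rw [← eD]; exact norm_cj.2 (O_norm _ _)
  have nAZ : St2 G α c ≤ N[cj m A ⊔ Z] := f2.sup.ge.trans (sup_le (normsG le_sup_left)
    (normY (inf_le_left.trans nA') inf_le_right))
  have ZA : Z ≤ N[A] := (ZP.trans PD).trans (O_norm _ _)
  have a1 : ⁅A, Z⁆ ≤ cj m A := ((O_pig _ _).of_le (commL ZA)).le_of_idx (sup_le (normG _) (ZD'.trans nA'))
    ((commS le_rfl le_sup_right).trans (commR (AD'.trans nAZ))) (by
      rw [relIndex_sup_l (ZD'.trans nA')]; exact (pZ'.relIndex _).compl_compl)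
  have a2 : ⁅A, Z⁆ = cj m ⁅A, Z⁆ := eq_of_card_le (by
    rw [cj_comm, eZ, ← cop_comm_comm ZA (pZ'.coprime (O_pig _ _)) (Or.inl pZ'.sol)]
    exact commS a1 le_rfl) (card_cj _ _).le
  have fin : ∀ L : Subgroup G, L ≠ ⊤ → D ≤ L → t ∈ L → m ∈ L → False := fun L hL h1 h2 h3 =>
    S.s0' hL ht h2 hc αc (fun k hk => h1 hk.1) ⟨t * m⁻¹, mul_mem h2 (inv_mem h3), by
      rw [mul_smul, ← m2, inv_smul_smul, smul_smul_of_ord ht]⟩
  by_cases e : ⁅A, Z⁆ = ⊥
  · exact fin _ nt (f1.sup.ge.trans (sup_le (cents_norm (comm_eq_bot.1 e)) inf_le_right)) tZ hm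
  · exact fin _ (S.N_ne_top' e (odd_of_le oD ((commL ZA).trans (O_le _ _))))
      (f1.sup.ge.trans (sup_le (comm_norml _ _) (normR (inf_le_left.trans (O_norm _ _)) inf_le_right)))
      (normR (zp_le tA) (zp_le tZ) (mem_zpowers t)) (mem_N_iff_cj.2 a2.symm)

end A0

end Cfsg.Agent.SE
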