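import Cfsg.Agent.SE.A2

/-! # Part A, third file: the `p`-part of `k` can be taken to be `n_p`; the Sylow contradiction -/

set_option autoImplicit false
set_option linter.unusedVariables false
set_option linter.unusedSectionVars false

namespace Cfsg.Agent.SE
open Cfsg Cfsg.Agent.BG Cfsg.Agent.Inv MulAction Subgroup PHom

variable {G Ω : Type*} [Group G] [Finite G] [MulAction G Ω]
variable {A B D H K L M N P Q R T U X Y Z : Subgroup G} {a b c d : Ω} {t s s' u k g w f x y z : G} {p q : ℕ}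
  {π : Set ℕ}

/-- the family of pairs used for (i) -/
def YF (Ω : Type*) [MulAction G Ω] (p : ℕ) (t : G) (Y : Subgroup G) : Prop :=
  PiG {p} Y ∧ orderOf t = 2 ∧ t ∈ N[Y] ∧ ∃ a c : Ω, t • c = c ∧ a ≠ c ∧ Y ≤ St G a ∧ Y ≤ St G c

namespace A0
variable (S : A0 G Ω)
include S

theorem kappa (hp : p.Prime) (ht : orderOf t = 2) (hc : t • c = c) (ac : a ≠ c) (hY : PiG {p} Y)
    (tY : t ∈ N[Y]) (Ya : Y ≤ St G a) (Yc : Y ≤ St G c) (h1 : 1 < kc t Y)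
    (hmax : ∀ u R, YF Ω p u R → Y ≤ R → kc u Y = kc t Y → R = Y) :
    kc t Y = pp p (nI (⊤ : Subgroup G) c) := by
  by_contra hne
  have oY := S.odd_of_fix ac Ya Yc
  have nsyl : ∀ (u : G) (b : Ω), orderOf u = 2 → u ∈ N[Y] → kc u Y = kc t Y → u • b ≠ b →
      ¬ Syl p Y (St2 G b (u • b)) := fun u b hu uY e ub h => hne (by
    rw [← e, kc_syl hu (S.odd_St2 ub.symm) (norm_St2 hu b) hp h uY, S.kc_D hu ub c])
  have ta := S.ne_smul ht hc ac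
  have Nc : ¬ N[Y] ≤ St G c := fun e => by
    obtain ⟨P, hP, tP, YP⟩ := exists_syl_inv ht (S.odd_St2 ta.symm) (norm_St2 ht a) hp
      (le_inf Ya (fix_smul tY Ya)) hY tY
    have lt := lt_norm_of_not_syl hp hP YP (nsyl t a ht tY rfl ta)
    exact lt.ne' (hmax t _ ⟨hP.pi.of_le inf_le_left, ht, normI (zp_le tP) (normN (zp_le tY)) (mem_zpowers t),
      a, c, hc, ac, inf_le_left.trans (hP.le.trans inf_le_left), inf_le_right.trans e⟩ lt.le rfl)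
  obtain ⟨k, hk, k1⟩ := exists_inv_of_lt h1
  have Y1 : Y ≠ ⊥ := ne_bot_of_mem hk.1 k1
  have h4 := S.bt (S.N_ne_top' Y1 oY) ht tY hc Nc (normG _ hk.1) (Yc hk.1) (odd_ord_of_mem oY hk.1) hk.2 k1
  have kcu : ∀ u ∈ N[Y], orderOf u = 2 → kc u Y = kc t Y := fun u hu ou => by
    obtain ⟨m, hm, rfl⟩ := S.conj_in ht tY hc Nc ou hu
    rw [← kc_cj m t Y, cj_of_mem_N hm]
  have Yo : ∀ d, Orb N[Y] c d → Y ≤ St G d := by rintro _ ⟨m, hm, rfl⟩; exact fix_smul hm Yc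
  haveI : Finite Ω := Finite.of_surjective (fun g : G => g • c) fun d => S.tr c d
  obtain ⟨l, hl, lc⟩ := SetLike.not_le_iff_exists.1 Nc
  obtain ⟨⟨a, b⟩, ⟨oa, ob, ab⟩, hm⟩ := exists_max_of
    (fun x : Ω × Ω => Orb N[Y] c x.1 ∧ Orb N[Y] c x.2 ∧ x.1 ≠ x.2) (fun x => pp p #(N[Y] ⊓ St2 G x.1 x.2))
    (A := (l • c, c)) ⟨orb_smul hl c, Orb.refl _ _, lc⟩
  dsimp only at oa ob ab hm
  obtain ⟨u, uN, ou, rfl⟩ := S.swap_in ht tY hc oa ob ab
  obtain ⟨R, hR, uR, YR⟩ := exists_syl_inv ou (odd_of_le (S.odd_St2 ab) (inf_le_right (a := N[Y])))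
    (normI (normsG (zp_le uN)) (zp_le (norm_St2 ou a)) (mem_zpowers u)) hp
    (le_inf (normG _) (le_inf (Yo _ oa) (Yo _ ob))) hY uN
  have RN : R ≤ N[Y] := hR.le.trans inf_le_left
  have Ra : R ≤ St G a := hR.le.trans (inf_le_right.trans inf_le_left)
  have Rb : R ≤ St G (u • a) := hR.le.trans (inf_le_right.trans inf_le_right)
  obtain ⟨e, ue⟩ := S.ex u ou
  have Re : ¬ R ≤ St G e := fun h => by
    have := hmax u R ⟨hR.pi, ou, uR, a, e, ue, fun h => ab (by rw [h, ue]), Ra, h⟩ YR (kcu u uN ou)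
    subst this
    exact nsyl u a ou uN (kcu u uN ou) ab.symm (Syl.of_norm (by rwa [inf_comm]) hp)
  by_cases h3 : ∃ d, Orb N[Y] c d ∧ R ≤ St G d ∧ d ≠ a ∧ d ≠ u • a
  · obtain ⟨d, od, Rd, da, db⟩ := h3
    have sw : ∀ x y, Orb N[Y] c x → Orb N[Y] c y → x ≠ y → R ≤ St G x → R ≤ St G y →
        ∃ v ∈ N[Y] ⊓ N[R], orderOf v = 2 ∧ v • x = y := fun x y ox oy xy Rx Ry => by
      obtain ⟨w, wN, ow, e⟩ := S.swap_in ht tY hc ox oy xy
      refine S.swap_norm hp xy wN e (by rw [← e, smul_smul_of_ord ow]) (syl_of_card hp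
        (le_inf RN (le_inf Rx Ry)) hR.pi ?_)
      rw [Syl.card_pp hR hp]; exact hm (x, y) ⟨ox, oy, xy⟩
    exact Re (S.EV inf_le_right ab da.symm db.symm Ra Rb Rd (sw _ _ oa ob ab Ra Rb) (sw _ _ ob od db.symm Rb Rd)
      (sw _ _ od oa da Rd Ra) ou ⟨uN, uR⟩ ue)
  · have fx : ∀ d, Orb N[Y] c d → R ≤ St G d → d = a ∨ d = u • a := fun d od Rd => by
      by_contra hn; push Not at hn; exact h3 ⟨d, od, Rd, hn⟩
    have oR : Odd #R := S.odd_of_fix ab Ra Rb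
    obtain ⟨oL, -⟩ := rk1_sup h4 ht tY RN oR
    set L := O[{2}ᶜ](N[Y]) ⊔ R
    have LN : L ≤ N[Y] := sup_le (O_le _ _) RN
    obtain ⟨o, ho, oab⟩ := (S.rk1_trans h4 ht tY hc oa).symm.trans (S.rk1_trans h4 ht tY hc ob)
    have sy : ∀ x y, Orb N[Y] c x → Orb N[Y] c y → x ≠ y → R ≤ St G x → R ≤ St G y →
        (∀ d, Orb N[Y] c d → R ≤ St G d → d = x ∨ d = y) → Syl p R (N[Y] ⊓ St2 G x y) →
        Syl p R (L ⊓ St G x) := fun x y ox oy xy Rx Ry fx h => by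
      refine Syl.of_norm (h.sub (le_inf (le_inf le_sup_right Rx) (normG _)) fun g hg =>
        ⟨LN hg.1.1, hg.1.2, ?_⟩) hp
      refine (fx _ (oy.smul (LN hg.1.1)) (fix_smul hg.2 Ry)).resolve_left fun e => xy ?_
      exact smul_left_cancel g ((hg.1.2 : g • x = x).trans e.symm)
    have s1 := (sy _ _ oa ob ab Ra Rb fx hR).cj o
    have s2 := sy _ _ ob oa ab.symm Rb Ra (fun d od Rd => (fx d od Rd).symm) (by rwa [St2_comm])
    rw [cj_inf, cj_of_mem (mem_sup_left ho), cj_St, oab] at s1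
    obtain ⟨h, hh, e1⟩ := Syl.conj s1 hp s2
    have gL : h * o ∈ L := mul_mem hh.1 (mem_sup_left ho)
    have gR : h * o ∈ N[R] := by rw [mem_N_iff_cj, cj_mul, e1]
    have ga : (h * o) • a = u • a := by rw [mul_smul, oab]; exact hh.2
    have gb : (h * o) • u • a = a := (fx _ (ob.smul (LN gL)) (fix_smul gR Rb)).resolve_right fun e =>
      ab (smul_left_cancel _ (ga.trans e.symm))
    obtain ⟨v, hv, ov, -⟩ := S.inv_of_swap ab ga gb
    have := odd_ord_of_mem oL (zp_le gL hv)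
    rw [ov] at this; exact absurd this (by decide)

/-- (i) -/
theorem exists_P' (hp : p.Prime) {t₀ : G} {a₀ c₀ : Ω} (ht₀ : orderOf t₀ = 2) (hc₀ : t₀ • c₀ = c₀)
    (ac₀ : a₀ ≠ c₀) (hd : p ∣ kc t₀ (St2 G a₀ (t₀ • a₀) ⊓ St G c₀)) (ht : orderOf t = 2) (hc : t • c = c) :
    ∃ P, PiG {p} P ∧ t ∈ N[P] ∧ P ≤ St G c ∧ kc t P = pp p (nI (⊤ : Subgroup G) c) ∧ 1 < kc t P ∧
      (∃ a, a ≠ c ∧ P ≤ St G a) ∧ ∀ d, d ≠ c → P ≤ St G d → Syl p P (St2 G d c) := by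
  have oE : Odd #(St2 G a₀ (t₀ • a₀) ⊓ St G c₀) :=
    odd_of_le (S.odd_St2 (S.ne_smul ht₀ hc₀ ac₀).symm) inf_le_left
  obtain ⟨P₀, hP₀, tP₀, -⟩ := exists_syl_inv ht₀ oE (t_norm_E ht₀ hc₀ a₀) hp bot_le (pig_bot _)
    (norm_bot ⊤ (mem_top _))
  have y0 : YF Ω p t₀ P₀ := ⟨hP₀.pi, ht₀, tP₀, a₀, c₀, hc₀, ac₀,
    hP₀.le.trans (inf_le_left.trans inf_le_left), hP₀.le.trans inf_le_right⟩
  obtain ⟨x₁, y1, m1⟩ := exists_max_of (fun x : G × Subgroup G => YF Ω p x.1 x.2) (fun x => kc x.1 x.2)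
    (A := (t₀, P₀)) y0
  obtain ⟨⟨r, Y⟩, ⟨⟨hY, hr, rY, a, e, re, ae, Ya, Ye⟩, e1⟩, m2⟩ := exists_max_of
    (fun x : G × Subgroup G => YF Ω p x.1 x.2 ∧ kc x.1 x.2 = kc x₁.1 x₁.2) (fun x => #x.2) (A := x₁) ⟨y1, rfl⟩
  dsimp only at hY hr rY re Ya Ye e1 m2
  have h1 : 1 < kc r Y := by
    have := m1 (t₀, P₀) y0
    rw [← e1] at this
    refine lt_of_lt_of_le ?_ this
    rw [kc_syl ht₀ oE (t_norm_E ht₀ hc₀ a₀) hp hP₀ tP₀]
    exact (one_lt_pp hp (kc_pos _ _).ne').2 hd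
  have hmax : ∀ u R, YF Ω p u R → Y ≤ R → kc u Y = kc r Y → R = Y := fun u R hR YR e =>
    (eq_of_card_le YR (m2 (u, R) ⟨hR, le_antisymm (m1 (u, R) hR) (by rw [← e1, ← e]; exact kc_mono u YR)⟩)).symm
  have hk := S.kappa hp hr re ae hY rY Ya Ye h1 hmax
  have sy : ∀ d, d ≠ e → Y ≤ St G d → Syl p Y (St2 G d e) := fun d de Yd => by
    have rd := S.ne_smul hr re de
    obtain ⟨P, hP, tP, YP⟩ := exists_syl_inv hr (S.odd_St2 rd.symm) (norm_St2 hr d) hp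
      (le_inf Yd (fix_smul rY Yd)) hY rY
    have e2 := inv_eq_of_kc_le (t := r) YP (by
      rw [kc_syl hr (S.odd_St2 rd.symm) (norm_St2 hr d) hp hP tP, S.kc_D hr rd e, hk])
    have Pe := S.le_St_of_inv hr re (odd_of_le (S.odd_St2 rd.symm) hP.le) tP fun k hk => Ye (e2 ▸ hk).1
    have := hmax r P ⟨hP.pi, hr, tP, d, e, re, de, hP.le.trans inf_le_left, Pe⟩ YP rfl
    subst this
    exact syl_of_card hp (le_inf Yd Ye) hY (by rw [S.card_D hr re de, Syl.card_pp hP hp])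
  obtain ⟨g, rfl⟩ := S.conj hr ht
  have ge : g • e = c := S.uniq ht (by rw [mul_smul, mul_smul, inv_smul_smul, re]) hc
  subst ge
  refine ⟨cj g Y, hY.cj g, by rw [← cj_N]; exact mem_cj_conj.2 rY, by rw [← cj_St]; exact cj_mono g Ye,
    by rw [kc_cj, hk, S.nI_eq e], by rwa [kc_cj], ⟨g • a, fun h => ae (smul_left_cancel g h),
    by rw [← cj_St]; exact cj_mono g Ya⟩, fun d de Yd => ?_⟩
  have := (sy (g⁻¹ • d) (fun h => de (by rw [← h, smul_inv_smul])) (by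
    rw [← cj_St, ← cj_le_iff]; exact Yd)).cj g
  rwa [cj_St2, smul_inv_smul] at this

/-- the Sylow contradiction -/
theorem sc (hp : p.Prime) {a₀ : Ω} (ht : orderOf t = 2) (hc : t • c = c)
    (ac₀ : a₀ ≠ c) (hd : p ∣ kc t (St2 G a₀ (t • a₀) ⊓ St G c)) (hP : Syl p P ⊤) (tP : t ∈ N[P])
    (hb : ∀ R ≤ P ⊓ St G c, t ∈ N[R] → kc t R < pp p (nI (⊤ : Subgroup G) c)) : False := by
  haveI : Fact p.Prime := ⟨hp⟩
  haveI : Finite Ω := Finite.of_surjective (fun g : G => g • c) fun d => S.tr c d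
  have oE : Odd #(St2 G a₀ (t • a₀) ⊓ St G c) := odd_of_le (S.odd_St2 (S.ne_smul ht hc ac₀).symm) inf_le_left
  have p2 : p ≠ 2 := ne_two_of_odd hp oE (hd.trans (kc_dvd ht oE (t_norm_E ht hc a₀)))
  have odd : ∀ R : Subgroup G, PiG {p} R → Odd #R := fun R hR => odd_of_pig2 (hR.ne_compl p2)
  obtain ⟨Y, hY, tY, Yc, kY, Y1, ⟨a, ac, Ya⟩, sy⟩ := S.exists_P' hp ht hc ac₀ hd ht hc
  have n0 : nI (⊤ : Subgroup G) c ≠ 0 := (lt_trans Nat.zero_lt_one (S.one_lt_nI (S.four' c))).ne'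
  have pn : p ∣ nI (⊤ : Subgroup G) c := (one_lt_pp hp n0).1 (kY ▸ Y1)
  have nP1 : ¬ P1 G Ω p := fun h => by
    have h2 := S.tr2_of_P1 S.tr ht hp pn h
    obtain ⟨a₁, b₁, ab, P₀, hP₀, fx⟩ := h
    obtain ⟨g, g1, g2⟩ := h2 a c a₁ b₁ ac ab
    have s1 := (sy a ac Ya).cj g
    rw [cj_St2, g1, g2] at s1
    obtain ⟨h, hh, rfl⟩ := Syl.conj s1 hp hP₀
    rcases fx (h • g • t • a) (by rw [← cj_St, ← cj_St]; exact cj_mono _ (cj_mono _ (fix_smul tY Ya))) with e | e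
    · rw [← (hh.1 : h • a₁ = a₁), ← g1] at e
      exact S.ne_smul ht hc ac (smul_left_cancel _ (smul_left_cancel _ e))
    · rw [← (hh.2 : h • b₁ = b₁), ← g2] at e
      exact S.smul_ne ht hc ac (smul_left_cancel _ (smul_left_cancel _ e))
  have Pc : ¬ P ≤ St G c := fun h => by
    have h1 := hb P (le_inf le_rfl h) tP
    have h2 := S.card_St ht (mem_top _) hc (S.not_le c)
    rw [top_inf_eq, top_inf_eq] at h2
    have h3 := Syl.card_pp (hP.sub h le_top) hp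
    rw [h2, pp_mul (card_ne _) n0, kc_mul ht (odd _ hP.pi) tP] at h3
    have h4 := card_le_pp hp (inf_le_right : P ⊓ C1[t] ≤ _) (hP.pi.of_le inf_le_left)
    exact (Nat.mul_lt_mul_of_le_of_lt h4 h1 (lt_of_lt_of_le (card_pos _) h4)).ne h3
  have nofix : ∀ b : Ω, ¬ P ≤ St G b := fun b Pb => by
    have bc : b ≠ c := fun e => Pc (e ▸ Pb)
    have tb := S.ne_smul ht hc bc
    have Pb' := fix_smul tP Pb
    by_cases h3 : ∃ d, P ≤ St G d ∧ d ≠ b ∧ d ≠ t • b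
    · obtain ⟨d, Pd, db, db'⟩ := h3
      have sw : ∀ x y : Ω, x ≠ y → P ≤ St G x → P ≤ St G y →
          ∃ v ∈ ⊤ ⊓ N[P], orderOf v = 2 ∧ v • x = y := fun x y xy Rx Ry => by
        obtain ⟨w, ow, e⟩ := S.swap xy
        exact S.swap_norm hp xy (mem_top w) e (by rw [← e, smul_smul_of_ord ow])
          (hP.sub (le_inf le_top (le_inf Rx Ry)) le_top)
      exact Pc (S.EV inf_le_right tb.symm db.symm db'.symm Pb Pb' Pd (sw _ _ tb.symm Pb Pb')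
        (sw _ _ db'.symm Pb' Pd) (sw _ _ db Pd Pb) ht ⟨trivial, tP⟩ hc)
    · exact nP1 ⟨b, t • b, tb.symm, P, hP.sub (le_inf Pb Pb') le_top, fun d Pd => by
        by_contra hn; push Not at hn; exact h3 ⟨d, Pd, hn⟩⟩
  have pΩ : p ∣ Nat.card Ω := by
    by_contra hn
    obtain ⟨b, hb⟩ := (hP.pi.pg hp).nonempty_fixed_point_of_prime_not_dvd_card Ω hn
    exact nofix b fun x hx => hb ⟨x, hx⟩
  have Ymax : ∀ R, PiG {p} R → R ≤ St G c → Y ≤ R → R = Y := fun R hR Rc YR => by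
    obtain ⟨d, hd, cd⟩ := (hR.pg hp).exists_fixed_point_of_prime_dvd_card_of_fixed_point Ω pΩ
      (a := c) fun x => Rc x.2
    have Rd : R ≤ St G d := fun x hx => hd ⟨x, hx⟩
    exact (sy d cd.symm (YR.trans Rd)).max hR (le_inf Rd Rc) YR
  obtain ⟨R, YR, ⟨hR, tR⟩, Rmax⟩ := exists_maximal (P := fun R : Subgroup G => PiG {p} R ∧ t ∈ N[R]) ⟨hY, tY⟩
  obtain ⟨k, hk, k1⟩ := exists_inv_of_lt Y1
  have sR : Syl p R ⊤ := by
    refine Syl.of_norm ?_ hp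
    rw [top_inf_eq]
    by_cases Nc : N[R] ≤ St G c
    · refine syl_of_max hp (normG _) hR fun R' h1 h2 h3 => ?_
      rw [Ymax R' h1 (h2.trans Nc) (YR.trans h3), Ymax R hR ((normG _).trans Nc) YR]
    · have h4 := S.bt (S.N_ne_top' (ne_bot_of_mem (YR hk.1) k1) (odd _ hR)) ht tR hc Nc (normG _ (YR hk.1))
        (Yc hk.1) (odd_ord_of_mem (odd _ hY) hk.1) hk.2 k1
      obtain ⟨R', h1, h2, h3⟩ := rk1_syl h4 ht tR hp p2 (normG _) hR tR
      rwa [Rmax R' ⟨h1.pi, h2⟩ h3] at h1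
  obtain ⟨g, -, e⟩ := Syl.conj sR hp hP
  obtain ⟨m, hm, e1⟩ := S.conj_in ht tP hc (fun h => Pc ((normG _).trans h)) (ord_conj ht g)
    (by rw [← e, ← cj_N]; exact mem_cj_conj.2 tR)
  have e2 : m⁻¹ * g * t * (m⁻¹ * g)⁻¹ = t := by
    calc _ = m⁻¹ * (g * t * g⁻¹) * m := by group
      _ = t := by rw [← e1]; group
  have hc' : (m⁻¹ * g) • c = c := S.fix_of_comm ht hc (by rw [← mul_inv_eq_iff_eq_mul, e2])
  have := hb (cj (m⁻¹ * g) Y) (le_inf (by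
    rw [cj_mul, cj_le_iff, inv_inv, cj_of_mem_N hm, ← e]; exact cj_mono g YR)
    (by rw [← hc', ← cj_St]; exact cj_mono _ Yc)) (by
      rw [← cj_N]; nth_rewrite 1 [← e2]; exact mem_cj_conj.2 tY)
  rw [← kY] at this
  nth_rewrite 1 [← e2] at this
  rw [kc_cj] at this
  exact lt_irrefl _ this

end A0

end Cfsg.Agent.SE
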