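import Cfsg.Agent.SE.A3

/-! # Part A, fourth file: the subgroup `W = [E,t]` and the maximal subgroups containing `W⟨t⟩` -/

set_option autoImplicit false
set_option linter.unusedVariables false
set_option linter.unusedSectionVars false

namespace Cfsg.Agent.SE
open Cfsg Cfsg.Agent.BG Cfsg.Agent.Inv MulAction Subgroup PHom

variable {G Ω : Type*} [Group G] [Finite G] [MulAction G Ω]
variable {A B D H K L M N P Q R T U W X Y Z : Subgroup G} {a b c d : Ω} {t s s' u k g w f x y z : G} {p q : ℕ}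
  {π : Set ℕ}

theorem rk1_tc (h : ¬ FourIn M) (ht : orderOf t = 2) (htM : t ∈ M) (h1 : X ≤ M) (hX : Odd #X) :
    tc t X ≤ O[{2}ᶜ](M) := tc_le_of fun k hk => by
  obtain ⟨y, hy, rfl, iy⟩ := exists_sqrt (odd_ord_of_mem hX hk.1) hk.2
  have := inv_mem (rk1_comm h ht htM (h1 (zp_le hk.1 hy)))
  rw [iy] at this; simpa using this

theorem le_C1_of_tc (ht : orderOf t = 2) (hX : Odd #X) (hn : t ∈ N[X]) (h : tc t X ≤ C1[t]) : X ≤ C1[t] := by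
  by_contra hn'
  obtain ⟨k, hk, k1⟩ := exists_inv_ne ht hX hn hn'
  exact ne_of_inv (odd_ord_of_mem hX hk.1) hk.2 k1 (h (mem_tc hk))

theorem le_C1_of_F (ht : orderOf t = 2) (hX : Odd #X) (hn : t ∈ N[X]) (h : F[X] ≤ C1[t]) : X ≤ C1[t] := by
  rw [← C_zpowers] at h ⊢
  exact cent_symm (cop_cent_F (zp_le hn) (cop_t ht hX) (sol_of_odd hX) (cent_symm h))

theorem cent_of_fix (h1 : X ≤ N[N]) (h2 : N ⊓ St G c = ⊥) (h3 : X ≤ St G c) (hf : f ∈ N)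
    (h4 : X ≤ St G (f • c)) : X ≤ C1[f] := fun x hx => by
  have : f⁻¹ * (x * f * x⁻¹) ∈ N ⊓ St G c := mem_inf.2 ⟨mul_mem (inv_mem hf) (conj_mem (h1 hx) hf), by
    rw [mem_St, mul_smul, mul_smul, mul_smul, (inv_mem (h3 hx) : x⁻¹ • c = c), (h4 hx : x • f • c = _),
      inv_smul_smul]⟩
  rw [h2, mem_bot, inv_mul_eq_one, eq_mul_inv_iff_mul_eq] at this
  exact mem_C1.2 this.symm

theorem cent_of_inf (h1 : A ≤ N[Y]) (h2 : B ≤ N[X]) (hA : A ≤ X) (hB : B ≤ Y) (h : X ⊓ Y = ⊥) : A ≤ C[B] :=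
  comm_eq_bot.1 (eq_bot_iff.2 ((le_inf ((commS hA le_rfl).trans (commL h2))
    ((commS le_rfl hB).trans (commR h1))).trans h.le))

/-- `O_{p'}(X) Z(J(P))` -/
noncomputable def ZZ (hp : p.Prime) (X : Subgroup G) : Subgroup G :=
  O[{p}ᶜ](X) ⊔ ZJ (syl_exists hp X).choose

theorem ZZ_eq (hp : p.Prime) (p2 : p ≠ 2) (hX : Odd #X) (hP : Syl p P X) : ZZ hp X = O[{p}ᶜ](X) ⊔ ZJ P := by
  obtain ⟨g, hg, e⟩ := Syl.conj hP hp (syl_exists hp X).choose_spec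
  have f := ZJ_factor_odd hp p2 hX hP
  have : X ≤ N[O[{p}ᶜ](X) ⊔ ZJ P] := f.sup.ge.trans (sup_le (normsG le_sup_left)
    (normY (inf_le_left.trans (O_norm _ _)) inf_le_right))
  rw [ZZ, ← e, ← cj_ZJ, ← cj_of_mem_N (this hg), cj_sup, cj_of_mem_N (O_norm _ _ hg)]

theorem cj_ZZ (hp : p.Prime) (p2 : p ≠ 2) (g : G) (hX : Odd #X) : cj g (ZZ hp X) = ZZ hp (cj g X) := by
  obtain ⟨P, hP⟩ := syl_exists hp X
  rw [ZZ_eq hp p2 hX hP, ZZ_eq hp p2 (by rwa [card_cj]) (hP.cj g), cj_sup, cj_O, cj_ZJ]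

theorem syl_top_of_max (hp : p.Prime) (hP : PiG {p} P) (h1 : N[ZJ P] ≤ M) (h2 : pp p #M ≤ #P) :
    Syl p P ⊤ :=
  Syl.of_norm ((syl_of_card hp ((normZJ (normG P)).trans h1) hP h2).sub (le_inf le_top (normG P))
    (inf_le_right.trans ((normZJ le_rfl).trans h1))) hp

theorem zj_step (h4 : ¬ FourIn M) (ht : orderOf t = 2) (htM : t ∈ M) (hp : p.Prime) (p2 : p ≠ 2)
    (hP : Syl p P M) (tP : t ∈ N[P]) (h : O[{p}ᶜ](O[{2}ᶜ](M)) ≤ C1[t]) : tc t O[{2}ᶜ](M) ≤ N[ZJ P] := by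
  obtain ⟨oL, -⟩ := rk1_sup h4 ht htM hP.le (odd_of_pig2 (hP.pi.ne_compl p2))
  have nO : P ≤ N[O[{2}ᶜ](M)] := hP.le.trans (O_norm _ _)
  have f := ZJ_factor_odd hp p2 oL (hP.sub le_sup_right (sup_le (O_le _ _) hP.le))
  have BO : O[{p}ᶜ](O[{2}ᶜ](M) ⊔ P) ≤ C1[t] := (O_le_O_of_le (O_pig _ _ |>.le_of_idx (sup_le (normG _) nO)
    (O_le _ _) (by rw [relIndex_sup_l nO]; exact (hP.pi.relIndex _).compl_compl))).trans h
  have tZ : t ∈ N[ZJ P] := normZJ (zp_le tP) (mem_zpowers t)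
  refine tc_le_of fun k hk => ?_
  obtain ⟨y, hy, rfl, iy⟩ := exists_sqrt (odd_ord_of_mem (odd_O M) hk.1) hk.2
  obtain ⟨b, hb, n, hn, e⟩ := f.ex y (mem_sup_left (zp_le hk.1 hy))
  have hn2 := (mem_inf.1 hn).2
  have := inv_mem (mul_mem (inv_mem hn2) (mul_mem (mul_mem tZ hn2) (inv_mem tZ)))
  convert this using 1
  have e2 : y⁻¹ * (t * y * t⁻¹) = n⁻¹ * (t * n * t⁻¹) := by
    rw [e, ← mul_assoc t b, ← mem_C1.1 (BO hb)]; group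
  rw [← e2, iy]; simp
where
  O_le_O_of_le {π : Set ℕ} {A B : Subgroup G} (h : O[π](A ⊔ B) ≤ A) : O[π](A ⊔ B) ≤ O[π](A) :=
    O_le_O π le_sup_left h

/-- cycle argument -/
theorem A0.cycle (S : A0 G Ω) (ht : orderOf t = 2) (hc : t • c = c) (Φ : Subgroup G → Subgroup G)
    (hΦ : ∀ g X, Odd #X → cj g (Φ X) = Φ (cj g X)) (hle : ∀ X, Φ X ≤ X) (hN : Odd #N)
    (h : ∀ x ∈ invertedBy N t, x • c ≠ c → Φ (St2 G (x • c) (t • x • c)) ≤ Φ (St2 G (x • c) c))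
    (hx : x ∈ invertedBy N t) (xc : x • c ≠ c) (h1 : Φ (St2 G (x • c) (t • x • c)) ≠ ⊥) : False := by
  obtain ⟨z, ⟨hz, zc⟩, hm⟩ := exists_max_of (fun x : G => x ∈ invertedBy N t ∧ x • c ≠ c)
    (fun x => #(Φ (St2 G (x • c) (t • x • c)))) ⟨hx, xc⟩
  obtain ⟨y, hy, rfl, iy⟩ := exists_sqrt (odd_ord_of_mem hN hz.1) hz.2
  have yc : y • c ≠ c := fun e => zc (by rw [mul_smul, e, e])
  have e1 : y • t • y • c = c := by
    rw [← mul_smul t, mul_inv_eq_iff_eq_mul.1 iy, mul_smul, smul_inv_smul, hc]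
  have e2 := hΦ y _ (S.odd_St2 (S.ne_smul ht hc yc).symm)
  rw [cj_St2, e1, ← mul_smul y y] at e2
  have e3 := eq_of_card_le (h _ hz zc) (by rw [← e2, card_cj]; exact hm y ⟨⟨zp_le hz.1 hy, iy⟩, yc⟩)
  have ta := S.ne_smul ht hc zc
  have nΦ : ∀ X : Subgroup G, Odd #X → N[X] ≤ N[Φ X] := fun X hX g hg => by
    rw [mem_N_iff_cj, hΦ g X hX, cj_of_mem_N hg]
  obtain ⟨w, ow, wc⟩ := S.swap zc.symm
  have oD := S.odd_St2 ta.symm
  refine S.s0' (S.N_ne_top' (fun e => h1 (eq_bot_iff.2 ?_)) (odd_of_le oD (hle _))) ht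
    (nΦ _ oD (norm_St2 ht _)) hc zc (fun k hk => nΦ _ oD (normG _ hk.1)) ⟨w, ?_, wc⟩
  · have := hm x ⟨hx, xc⟩
    rw [e, card_bot'] at this
    exact (eq_of_card_le bot_le (by rwa [card_bot'])).ge
  · rw [e3]; refine nΦ _ (S.odd_St2 zc) ?_
    rw [St2_comm, ← wc]; exact norm_St2 ow c

/-- the situation of the main argument -/
structure Ctx (t : G) (c : Ω) (W : Subgroup G) : Prop extends A0 G Ω where
  ht : orderOf t = 2
  hc : t • c = c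
  exW : ∃ a, a ≠ c ∧ W = tc t (St2 G a (t • a) ⊓ St G c)
  max : ∀ a, a ≠ c → kc t (St2 G a (t • a) ⊓ St G c) ≤ kc t W
  one_lt : 1 < kc t W

/-- the family `𝓜` -/
structure InM (t : G) (c : Ω) (W M : Subgroup G) : Prop where
  co : IsCoatom M
  mem : t ∈ M
  le : W ≤ M
  nle : ¬ M ≤ St G c

/-- subgroups that produce bottom pairs -/
structure Bot (c : Ω) (M N : Subgroup G) : Prop where
  le : N ≤ O[{2}ᶜ](M)
  norm : M ⊓ St G c ≤ N[N]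
  nle : ¬ N ≤ St G c
  nn : N ≤ N[N ⊓ St G c]
  fix : ∀ f ∈ N, F[O[{2}ᶜ](M)] ⊓ St G c ≤ St G (f • c)

theorem A0.exists_ctx (S : A0 G Ω) : ∃ (t : G) (c : Ω) (W : Subgroup G), Ctx t c W := by
  have := S.ng
  simp only [G1, not_forall] at this
  obtain ⟨t, k, a, c, ht, hc, hi, kc', ka, ac, k1⟩ := this
  haveI : Finite Ω := Finite.of_surjective (fun g : G => g • c) fun d => S.tr c d
  obtain ⟨b, bc, hm⟩ := exists_max_of (fun a : Ω => a ≠ c) (fun a => kc t (St2 G a (t • a) ⊓ St G c)) ac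
  refine ⟨t, c, _, S, ht, hc, ⟨b, bc, rfl⟩, fun a h => by rw [kc_tc]; exact hm a h, ?_⟩
  rw [kc_tc]
  refine lt_of_lt_of_le ?_ (hm a ac)
  have oE : Odd #(St2 G a (t • a) ⊓ St G c) := odd_of_le (S.odd_St2 (S.ne_smul ht hc ac).symm) inf_le_left
  have kE : k ∈ St2 G a (t • a) ⊓ St G c := ⟨⟨ka, fix_smul (t_norm_zp hi) (zp_le ka) (mem_zpowers k)⟩, kc'⟩
  refine lt_of_le_of_ne (kc_pos _ _) fun e => ?_
  exact ne_of_inv (odd_ord_of_mem oE kE) hi k1 ((kc_eq_one ht oE (t_norm_E ht hc a)).1 e.symm kE)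

namespace Ctx
variable (S : Ctx t c W)
include S

local notation "𝓞" M:max => O[{2}ᶜ](M)
local notation "𝓕" M:max => F[O[{2}ᶜ](M)]
local notation "𝓓" a:max => St2 G a (t • a)

theorem oD (h : a ≠ c) : Odd #(𝓓 a) := S.odd_St2 (S.ne_smul S.ht S.hc h).symm
theorem oE (h : a ≠ c) : Odd #(𝓓 a ⊓ St G c) := odd_of_le (S.oD h) inf_le_left
theorem Wc : W ≤ St G c := by obtain ⟨a, -, rfl⟩ := S.exW; exact (tc_le _ _).trans inf_le_right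
theorem oW : Odd #W := by obtain ⟨a, h, e⟩ := S.exW; rw [e]; exact odd_of_le (S.oE h) (tc_le _ _)
theorem tW : t ∈ N[W] := by obtain ⟨a, h, e⟩ := S.exW; rw [e]; exact t_norm_tc _ _
theorem tcW : tc t W = W := by obtain ⟨a, h, e⟩ := S.exW; rw [e]; exact tc_tc _ _
theorem WD (h : W ≤ St G a) : W ≤ 𝓓 a := le_inf h (fix_smul S.tW h)
theorem canon (h : a ≠ c) (h1 : W ≤ St G a) : tc t (𝓓 a ⊓ St G c) = W := by
  rw [tc, ← inv_eq_of_kc_le (le_inf (S.WD h1) S.Wc) (S.max a h)]; exact S.tcW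
theorem E_norm (h : a ≠ c) (h1 : W ≤ St G a) : 𝓓 a ⊓ St G c ≤ N[W] := by
  rw [← S.canon h h1]; exact tc_norm S.ht (S.oE h) (t_norm_E S.ht S.hc a)
theorem W_ne : W ≠ ⊥ := by
  obtain ⟨k, hk, k1⟩ := exists_inv_of_lt S.one_lt; exact ne_bot_of_mem hk.1 k1

theorem D_nle (h : a ≠ c) (h1 : W ≤ St G a) : ¬ 𝓓 a ≤ St G c := fun e => by
  have e1 : 𝓓 a = St2 G a c := eq_of_card_le (le_inf inf_le_left e) (S.card_D S.ht S.hc h).le
  obtain ⟨w, ow, wc⟩ := S.swap h.symm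
  refine S.s0' (S.N_ne_top' (fun e => S.W_ne (eq_bot_iff.2 (e ▸ S.WD h1))) (S.oD h)) S.ht (norm_St2 S.ht a) S.hc h
    (fun k hk => normG _ hk.1) ⟨w, ?_, wc⟩
  rw [e1, St2_comm, ← wc]; exact norm_St2 ow c

theorem exists_K (h : a ≠ c) (h1 : W ≤ St G a) : ∃ k ∈ invertedBy (𝓓 a) t, k ∉ St G c :=
  exists_inv_not_mem S.ht (S.oD h) (norm_St2 S.ht a) (S.D_nle h h1) (inf_le_right.trans (S.C1_le S.ht S.hc))

theorem exists_M (hL : L ≠ ⊤) (h1 : t ∈ L) (h2 : W ≤ L) (h3 : ¬ L ≤ St G c) : ∃ M, InM t c W M ∧ L ≤ M := by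
  obtain ⟨M, hM, le⟩ := (eq_top_or_exists_le_coatom L).resolve_left hL
  exact ⟨M, ⟨hM, le h1, h2.trans le, fun e => h3 (le.trans e)⟩, le⟩

theorem exists_pi : ∃ p, p.Prime ∧ ¬ O[{p}](W) ≤ C1[t] := by
  by_contra hn
  push Not at hn
  exact S.one_lt.ne' ((kc_eq_one S.ht S.oW S.tW).2 (le_C1_of_F S.ht S.oW S.tW (F_le_of_O hn)))

theorem tY (π : Set ℕ) : t ∈ N[O[π](W)] := normO _ (zp_le S.tW) (mem_zpowers t)

theorem dvd_of_pi (hp : p.Prime) (h : ¬ O[{p}](W) ≤ C1[t]) : p ∣ kc t W := by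
  have h1 := kc_le_pp S.ht S.oW S.tW hp (O_le _ _) (O_pig _ _) (S.tY _)
  refine (one_lt_pp hp (kc_pos _ _).ne').1 (lt_of_lt_of_le (lt_of_le_of_ne (kc_pos _ _) fun e => h ?_) h1)
  exact (kc_eq_one S.ht (odd_of_le S.oW (O_le _ _)) (S.tY _)).1 e.symm

theorem ne_two (hp : p.Prime) (h : p ∣ kc t W) : p ≠ 2 :=
  ne_two_of_odd hp S.oW (h.trans (kc_dvd S.ht S.oW S.tW))

theorem A_le (ha : a ≠ c) (h1 : W ≤ St G a) (h : 𝓓 a ⊓ C[O[{p}](W)] ≤ St G c) : O[{p}ᶜ](𝓓 a) ≤ St G c := by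
  by_contra hn
  exact S.cent_not_le S.ht S.hc (odd_of_le (S.oD ha) (O_le _ _)) (normO _ (zp_le (norm_St2 S.ht a)) (mem_zpowers t))
    hn (S.oE ha) (t_norm_E S.ht S.hc a) inf_le_right (inf_le_left.trans (O_norm _ _))
    (by rw [S.canon ha h1]; exact O_le _ _) ((O_pig _ _).coprime (O_pig _ _))
    ((inf_le_inf_right _ (O_le _ _)).trans h)

section M
variable (hM : InM t c W M)
include hM

theorem rk1 : ¬ FourIn M := by
  obtain ⟨k, hk, k1⟩ := exists_inv_of_lt S.one_lt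
  exact S.bt hM.co.1 S.ht hM.mem S.hc hM.nle (hM.le hk.1) (S.Wc hk.1) (odd_ord_of_mem S.oW hk.1) hk.2 k1

theorem tO : t ∈ N[𝓞 M] := O_norm _ _ hM.mem
theorem WO : W ≤ 𝓞 M := S.tcW.ge.trans (rk1_tc (S.rk1 hM) S.ht hM.mem hM.le S.oW)
theorem nF : M ≤ N[𝓕 M] := normF (O_norm _ _)
theorem FM : 𝓕 M ≤ M := (F_le _).trans (O_le _ _)
theorem oF : Odd #(𝓕 M) := odd_of_le (odd_O M) (F_le _)

theorem O_nle : ¬ 𝓞 M ≤ St G c := fun e => hM.nle fun m hm => by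
  obtain ⟨o, ho, h⟩ := S.rk1_trans (S.rk1 hM) S.ht hM.mem S.hc (orb_smul hm c)
  exact h.symm.trans (e ho)

theorem exists_bot : ∃ N, Bot c M N := by
  by_cases h : 𝓕 M ≤ St G c
  · obtain ⟨N, -, ⟨h1, h2, h3⟩, hm⟩ := exists_minimal
      (P := fun N : Subgroup G => N ≤ 𝓞 M ∧ M ≤ N[N] ∧ ¬ N ≤ St G c) ⟨le_rfl, O_norm _ _, S.O_nle hM⟩
    refine ⟨N, h1, inf_le_left.trans h2, h3, norm_of_der_le (le_inf (der_le _) ?_) inf_le_left, fun f hf =>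
      inf_le_left.trans ((le_Ker (S.FM hM) (S.nF hM) h).trans (Ker_le_St (orb_smul (O_le _ _ (h1 hf)) c)))⟩
    by_contra hn
    exact ((sol_of_odd (odd_of_le (odd_O M) h1)).der_lt (fun e => h3 (e ▸ bot_le))).ne
      (hm _ ⟨(der_le _).trans h1, normD h2, hn⟩ (der_le _))
  · have lt := (F_nil (𝓞 M)).lt_norm (inf_lt_left.2 h)
    have n1 : M ⊓ St G c ≤ N[𝓕 M ⊓ St G c] := normI (inf_le_left.trans (S.nF hM)) (normsG inf_le_right)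
    refine ⟨𝓕 M ⊓ N[𝓕 M ⊓ St G c], inf_le_left.trans (F_le _), normI (inf_le_left.trans (S.nF hM)) (normN n1),
      fun e => lt.not_ge (le_inf inf_le_left e), ?_, fun f hf => fix_smul hf.2 inf_le_right⟩
    rw [show 𝓕 M ⊓ N[𝓕 M ⊓ St G c] ⊓ St G c = 𝓕 M ⊓ St G c from le_antisymm
      (inf_le_inf_right _ inf_le_left) (le_inf lt.le inf_le_right)]
    exact inf_le_right

theorem bot_t (hN : Bot c M N) : t ∈ N[N] := hN.norm ⟨hM.mem, S.hc⟩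

theorem bot_x (hN : Bot c M N) : ∃ x ∈ invertedBy N t, x • c ≠ c :=
  exists_inv_not_mem S.ht (odd_of_le (odd_O M) hN.le) (S.bot_t hM hN) hN.nle
    (inf_le_right.trans (S.C1_le S.ht S.hc))

theorem bot_fix (hN : Bot c M N) (hf : f ∈ N) : tc t (𝓞 M ⊓ St G c) ≤ St G (f • c) :=
  S.tc_fix S.ht S.hc (odd_of_le (odd_O M) hN.le) (S.bot_t hM hN) hN.nn (odd_of_le (odd_O M) inf_le_left)
    inf_le_right ((inf_le_inf_right _ (O_le _ _)).trans hN.norm) hf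

theorem tc_O : tc t (𝓞 M ⊓ St G c) = W := by
  obtain ⟨N, hN⟩ := S.exists_bot hM
  obtain ⟨x, hx, xc⟩ := S.bot_x hM hN
  have h1 : W ≤ tc t (𝓞 M ⊓ St G c) := S.tcW.ge.trans (tc_mono _ (le_inf (S.WO hM) S.Wc))
  have h2 := S.bot_fix hM hN hx.1
  refine le_antisymm ?_ h1
  rw [← tc_tc, ← S.canon xc (h1.trans h2)]
  exact tc_mono _ (le_inf (le_inf h2 (fix_smul (t_norm_tc _ _) h2)) ((tc_le _ _).trans inf_le_right))

theorem bot_W (hN : Bot c M N) (hf : f ∈ N) : W ≤ St G (f • c) := S.tc_O hM ▸ S.bot_fix hM hN hf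

theorem O_W_le (π : Set ℕ) : O[π](W) ≤ O[π](𝓞 M) := by
  rw [← S.tc_O hM]
  exact O_tc_le S.ht (odd_O M) (S.tO hM) inf_le_left (normI (zp_le (S.tO hM)) (normsG (zp_le S.hc)) (mem_zpowers t))
    (inf_le_inf_left _ (S.C1_le S.ht S.hc)) π

theorem Y_le (p : ℕ) : O[{p}](W) ≤ O[{p}](𝓕 M) := by rw [O_F]; exact S.O_W_le hM _

theorem X_cent (p : ℕ) : O[{p}ᶜ](𝓕 M) ≤ C[O[{p}](W)] := (O_cent_O' _ _).trans (centS (S.Y_le hM p))

theorem tc_le_W (h : X ≤ M ⊓ St G c) (hX : Odd #X) : tc t X ≤ W := by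
  rw [← S.tc_O hM, ← tc_tc]
  exact tc_mono _ (le_inf (rk1_tc (S.rk1 hM) S.ht hM.mem (h.trans inf_le_left) hX)
    ((tc_le _ _).trans (h.trans inf_le_right)))

theorem MD_le (ho : Orb M c a) (ha : a ≠ c) (h1 : W ≤ St G a) : M ⊓ 𝓓 a ≤ St G c := by
  obtain ⟨s, hs⟩ := S.exists_iv S.ht hM.mem S.hc ho
  have e := S.kc_eq_nI S.ht hM.mem (S.ne_smul S.ht S.hc ha) hs
  rw [← S.nI_orb ho] at e
  have le : nI M c ≤ kc t W := Set.ncard_le_ncard_of_injOn (fun u => t * u) (fun u hu => by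
    rw [← S.tc_O hM, inv_tc]
    refine ⟨⟨rk1_mul (S.rk1 hM) S.ht hM.mem hu.2.1 hu.1, mul_mem (S.hc : t ∈ St G c) hu.2.2⟩, ?_⟩
    rw [mul_inv_rev, inv_of_ord hu.2.1, ← mul_assoc, mul_self_of_ord S.ht, one_mul])
    (fun _ _ _ _ h => mul_left_cancel h)
  have e2 := inv_eq_of_kc_le (t := t) (le_inf hM.le (S.WD h1)) (e ▸ le)
  exact S.le_St_of_inv S.ht S.hc (odd_of_le (S.oD ha) inf_le_right)
    (normI (normsG (zp_le hM.mem)) (zp_le (norm_St2 S.ht a)) (mem_zpowers t)) fun k hk => S.Wc (e2 ▸ hk).1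

theorem le_F (h1 : U ≤ M) (h2 : M ≤ N[U]) (h3 : Nil U) (h4 : Odd #U) : U ≤ 𝓕 M :=
  BG.le_F (le_O h1 h2 (pig2_of_odd h4)) ((O_le _ _).trans h2) h3

theorem C_F : M ⊓ C[𝓕 M] ≤ 𝓕 M := by
  have n1 : M ≤ N[M ⊓ C[𝓕 M]] := normI (normG _) (normC (S.nF hM))
  have o1 : Odd #(M ⊓ C[𝓕 M]) := by
    by_contra hn
    obtain ⟨s, hs, os⟩ := exists_ord_two hn
    obtain ⟨m, hm, e⟩ := S.conj_in S.ht hM.mem S.hc hM.nle os hs.1
    have : t ∈ M ⊓ C[𝓕 M] := by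
      have := conj_mem' (n1 hm) hs
      rwa [← e, show m⁻¹ * (m * t * m⁻¹) * m = t by group] at this
    exact S.O_nle hM ((le_C1_of_F S.ht (odd_O M) (S.tO hM) (le_C1_iff.2 this.2)).trans (S.C1_le S.ht S.hc))
  exact (le_inf (le_O inf_le_left n1 (pig2_of_odd o1)) inf_le_right).trans (C_F_le (sol_of_odd (odd_O M)))

theorem N_le (h1 : U ≠ ⊥) (h2 : M ≤ N[U]) (h3 : Odd #U) : N[U] ≤ M :=
  ((hM.co.le_iff.1 h2).resolve_left (S.N_ne_top' h1 h3)).le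

theorem C_le (h1 : U ≠ ⊥) (h2 : M ≤ N[U]) (h3 : Odd #U) : C[U] ≤ M := (C_le_N _).trans (S.N_le hM h1 h2 h3)

theorem no_syl (hp : p.Prime) (hd : p ∣ kc t W) (hlt : pp p (kc t W) < pp p (nI (⊤ : Subgroup G) c))
    (h1 : P ≤ M) (tP : t ∈ N[P]) : ¬ Syl p P ⊤ := fun hP => by
  obtain ⟨a, ac, e⟩ := S.exW
  refine S.sc hp S.ht S.hc ac (by rw [← kc_tc, ← e]; exact hd) hP tP fun R hR tR => lt_of_le_of_lt ?_ hlt
  have pR := hP.pi.of_le (hR.trans inf_le_left)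
  rw [← kc_tc]
  exact kc_le_pp S.ht S.oW S.tW hp (S.tc_le_W hM (hR.trans (inf_le_inf_right _ h1))
    (odd_of_pig2 (pR.ne_compl (S.ne_two hp hd)))) (pR.of_le (tc_le _ _)) (t_norm_tc _ _)

theorem lt_of_A (hN : Bot c M N) (hp : p.Prime) (hd : p ∣ kc t W)
    (h : ∀ x ∈ invertedBy N t, x • c ≠ c → O[{p}ᶜ](𝓓 (x • c)) ≤ St G c) :
    pp p (kc t W) < pp p (nI (⊤ : Subgroup G) c) := by
  by_contra hn
  have p2 := S.ne_two hp hd
  have key : ∀ x ∈ invertedBy N t, x • c ≠ c → ∃ P, Syl p P (𝓓 (x • c)) ∧ P ≤ St G c ∧ P ≠ ⊥ := fun x hx xc => by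
    have Wx := S.bot_W hM hN hx.1
    obtain ⟨P₀, hP₀, tP₀, -⟩ := exists_syl_inv S.ht S.oW S.tW hp bot_le (pig_bot _) (norm_bot ⊤ (mem_top _))
    obtain ⟨P, hP, tP, le⟩ := exists_syl_inv S.ht (S.oD xc) (norm_St2 S.ht _) hp (hP₀.le.trans (S.WD Wx)) hP₀.pi tP₀
    have e0 := kc_syl S.ht S.oW S.tW hp hP₀ tP₀
    have e := inv_eq_of_kc_le (t := t) le (by
      rw [kc_syl S.ht (S.oD xc) (norm_St2 S.ht _) hp hP tP, S.kc_D S.ht (S.ne_smul S.ht S.hc xc) c, e0]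
      exact not_lt.1 hn)
    obtain ⟨k, hk, k1⟩ := exists_inv_of_lt (t := t) (X := P₀) (by
      rw [e0]; exact (one_lt_pp hp (kc_pos _ _).ne').2 hd)
    exact ⟨P, hP, S.le_St_of_inv S.ht S.hc (odd_of_le (S.oD xc) hP.le) tP fun k hk => S.Wc (hP₀.le (e ▸ hk).1),
      ne_bot_of_mem (le hk.1) k1⟩
  obtain ⟨x, hx, xc⟩ := S.bot_x hM hN
  refine S.cycle S.ht S.hc (ZZ hp) (fun g X => cj_ZZ hp p2 g) (fun X => sup_le (O_le _ _)
    ((ZJ_le _).trans (syl_exists hp X).choose_spec.le)) (odd_of_le (odd_O M) hN.le) (fun x hx xc => ?_) hx xc ?_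
  · obtain ⟨P, hP, Pc, -⟩ := key x hx xc
    have hP' : Syl p P (St2 G (x • c) c) := syl_of_card hp (le_inf (hP.le.trans inf_le_left) Pc) hP.pi
      (by rw [S.card_D S.ht S.hc xc, Syl.card_pp hP hp])
    rw [ZZ_eq hp p2 (S.oD xc) hP, ZZ_eq hp p2 (S.odd_St2 xc) hP']
    exact sup_le_sup_right (le_O_of_syl_norm' (sol_of_odd (S.odd_St2 xc)) hP'
      (le_inf ((O_le _ _).trans inf_le_left) (h x hx xc)) (O_pig _ _) (hP.le.trans (O_norm _ _))) _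
  · obtain ⟨P, hP, -, P1⟩ := key x hx xc
    rw [ZZ_eq hp p2 (S.oD xc) hP]
    exact fun e => ZJ_ne_bot hP.pi P1 (eq_bot_iff.2 (le_sup_right.trans e.le))

end M

end Ctx

end Cfsg.Agent.SE
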