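import Cfsg.Agent.SE.P1
import Cfsg.Agent.SE.Bt

/-!
# Part B: (G1) gives double transitivity and goodness (no induction hypothesis)

* (G1) gives `P1 p` for every prime `p ∣ n` (`not_P1` produces `1 ≠ k ∈ Y` inverted by `r` fixing `a, c`).
* `good_pgroup`, `p ∤ n`: `Y ≤ G_ab` permutes the `n` involutions swapping `a,b`, so fixes one.
  `p ∣ n`: by `Tr2` and `P1` a Sylow `p`-subgroup of any `G_ab` fixes exactly `a,b`.  Let `Y` be a maximal
  bad `p`-subgroup with three fixed points, `N = N(Y)`.  By (G1) an involution of `N` whose fixed point is in `Ω_Y`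
  centralizes `Y`.  For a pair `a,b` of `Ω_Y`, `R ∈ Syl_p(N_ab)` is `> Y`; type (b): `R` has a third fixed
  point, so is good and the pair is swapped in `C(Y)`; type (c): `Ω_R = {a,b}`, `R` is Sylow in `N`, so all
  type (c) pairs are `N`-conjugate as unordered pairs.
  - all pairs of type (c): they are swapped in `N` (otherwise orient the pairs by the `N`-orbit of `(a,b)`; `N` is
    transitive on `Ω_Y` since among three points two are of the same kind; `R` has exactly one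
    fixed point on out(a) and none on out(b), but `|out a| = |out b|`); then `EV` shows that the swapping involutions
    centralize `Y`.
  - some pair of type (b): `r ∈ C(Y)` an involution, `c = fix r ∈ Ω_Y`, `Δ = N c`.  All involutions of `N`
    are conjugate to `r` or fix `c`, so centralize `Y`; so there is `e ∈ Ω_Y - Δ`.  `(c,e)` is of type (c).
    `(e, re)` is not of type (c) (no point in `Δ`), and not of type (b): its Sylow `R'` is good, centralized by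
    an involution `r'` swapping `e, re` with fixed point `c' ∈ Δ`, and `C(R') ≤ N` swaps `c'` and `e`.
* general `Y` (odd, solvable): induction on `|Y|`, `Y₀ ⊴ Y` of prime index; `Y₀` is good; apply `good_pgroup` to
  `N(Y₀)/Y₀` acting on `Ω_{Y₀}` (again `Fix1`, transitive, (G1)); involutions of `N(Y₀)` centralize `Y₀`, and two
  involutions swapping `a,b` with the same image differ by an element of `K ∩ Y₀ = 1`.
* `nI_eq_one`: `M` without four-group, `O = O(M)`; take `N ≤ O` minimal `M`-invariant moving `c`; `tc_fix`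
  shows that `[O_c,t]` fixes a second point, so it is trivial by (G1).
-/

set_option autoImplicit false
set_option linter.unusedVariables false
set_option linter.unusedSectionVars false

namespace Cfsg.Agent.SE
open Cfsg Cfsg.Agent.BG Cfsg.Agent.Inv MulAction Subgroup

universe u v

variable {G Ω : Type*} [Group G] [Finite G] [MulAction G Ω] {p : ℕ}
variable {M N P R X Y : Subgroup G} {a b c d e x y : Ω} {t r s u w : G}

/-- any two fixed points of `Y` are swapped by an involution centralizing `Y` -/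
def GoodY (Ω : Type*) [MulAction G Ω] (Y : Subgroup G) : Prop :=
  ∀ x y : Ω, x ≠ y → Y ≤ St G x → Y ≤ St G y → ∃ u ∈ C[Y], orderOf u = 2 ∧ u • x = y

namespace Fix1
variable (S : Fix1 G Ω)
include S

theorem le_C1_of_g1 (h : G1 G Ω) (hu : orderOf u = 2) (ue : u • e = e) (de : d ≠ e) (h1 : u ∈ N[Y])
    (h2 : Y ≤ St G d) (h3 : Y ≤ St G e) : Y ≤ C1[u] := by
  by_contra hn
  obtain ⟨k, hk, k1⟩ := exists_inv_ne hu (S.odd_of_fix de h2 h3) h1 hn
  exact k1 (h u k d e hu ue hk.2 (h3 hk.1) (h2 hk.1) de)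

theorem pm_lift (hM : ¬ M ≤ St G a) {x : Pm M a} (hx : orderOf x = 2) :
    ∃ s ∈ M, orderOf s = 2 ∧ (pm M a).app s = x := by
  obtain ⟨g, hg, rfl⟩ := pm_surj x
  obtain ⟨s, hs, n, hn, e, ps, pn⟩ := exists_pi_part {2} g
  have sM := zp_le hg hs
  have nM := zp_le hg hn
  have e1 : (pm M a).app n = 1 := by
    have h1 : (pm M a).app n ∈ zpowers ((pm M a).app g) := by
      rw [← PHom.im_zpowers (φ := pm M a) hg]; exact PHom.app_mem_im hn nM
    exact (PiE.of_mem_zpowers (π := {2}) (by rw [PiE, hx]; exact pin_single_self Nat.prime_two) h1).eq_one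
      (pn.app nM)
  have e2 : (pm M a).app s = (pm M a).app g := by rw [e, PHom.app_mul sM nM, e1, mul_one]
  refine ⟨s, sM, ord2_iff.2 ⟨(ps.mul ps rfl).eq_one ((pig2_of_odd (S.odd_Ker hM)).elt
    ((pm_eq_one (mul_mem sM sM)).1 ?_)), fun e => ?_⟩, e2⟩
  · rw [PHom.app_mul sM sM, e2, mul_self_of_ord hx]
  · rw [e, PHom.app_one] at e2; rw [← e2] at hx; simp at hx

theorem pm_fix1 (hM : ¬ M ≤ St G a) (hs : s ∈ Iv M a) : Fix1 (Pm M a) (orbit M a) := by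
  refine ⟨fun x hx => ?_, fun {x b c} hx h1 h2 => ?_⟩ <;> obtain ⟨u, hu, ou, rfl⟩ := S.pm_lift hM hx
  · obtain ⟨d, hd⟩ := S.ex u ou
    exact ⟨pt (S.orb_of_inv hs.2.1 hs.1 hs.2.2 ou hu hd), (pm_smul_eq hu).2 hd⟩
  · exact Subtype.ext (S.uniq ou ((pm_smul_eq hu).1 h1) ((pm_smul_eq hu).1 h2))

omit S [Finite G] in
theorem pm_tr (b c : orbit M a) : ∃ g : Pm M a, g • b = c := by
  obtain ⟨m, hm, e⟩ := (orb_coe b).symm.trans (orb_coe c)
  exact ⟨_, (pm_smul_eq hm).2 e⟩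

theorem pm_g1 (hM : ¬ M ≤ St G a) (h : G1 G Ω) : G1 (Pm M a) (orbit M a) := by
  intro t k b c ht tc hi kc kb bc
  obtain ⟨t, htM, ot, rfl⟩ := S.pm_lift hM ht
  obtain ⟨k, hk, rfl⟩ := pm_surj k
  rw [pm_smul_eq htM] at tc
  rw [pm_smul_eq hk] at kc kb
  have bc' : (b : Ω) ≠ c := fun e => bc (Subtype.ext e)
  have nK := Ker_norm M a
  have m1 : t * k * t⁻¹ * k ∈ Ker M a := by
    have := mul_mem (mul_mem htM hk) (inv_mem htM)
    rw [← pm_eq_one (mul_mem this hk), PHom.app_mul this hk, PHom.app_conj htM hk, hi, inv_mul_cancel]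
  have tX : t ∈ N[Ker M a ⊔ zpowers k] := mem_N_of_cj_le (by
    rw [cj_sup, cj_of_mem_N (nK htM), cj_zpowers]
    refine sup_le le_sup_left (zp_le ?_)
    have := mul_mem (mem_sup_left m1 : _ ∈ Ker M a ⊔ zpowers k) (inv_mem (mem_sup_right (mem_zpowers k)))
    simpa using this)
  have := mem_C1.1 (S.le_C1_of_g1 h ot tc bc' tX (sup_le (Ker_le_St (orb_coe b)) (zp_le kb))
    (sup_le (Ker_le_St (orb_coe c)) (zp_le kc)) (mem_sup_right (mem_zpowers k)))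
  rw [← this, mul_inv_cancel_right] at m1
  exact (pm_eq_one hk).2 (mem_of_sq_mem (odd_ord_of_mem (S.odd_St2 bc') ⟨kb, kc⟩) m1)

variable (tr : ∀ a b : Ω, ∃ g : G, g • a = b)
include tr

theorem p1_of_g1 [Nontrivial Ω] (ht : orderOf t = 2) (h : G1 G Ω) (hp : p.Prime)
    (hd : p ∣ nI (⊤ : Subgroup G) a) : P1 G Ω p := by
  by_contra hn
  obtain ⟨Y, r, b, c, hY, hr, rY, rc, bc, Yb, Yc, e⟩ := S.not_P1 tr ht hp hd hn
  have h1 := (kc_eq_one hr (S.odd_of_fix bc Yb Yc) rY).2 (S.le_C1_of_g1 h hr rc bc rY Yb Yc)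
  have h2 : nI (⊤ : Subgroup G) a ≠ 0 := by
    rw [← S.kc_D' tr hr (S.ne_smul hr rc bc) a]; exact (kc_pos _ _).ne'
  exact ((one_lt_pp hp h2).2 hd).ne' (e ▸ h1)

theorem good_p (ht : orderOf t = 2) (h : G1 G Ω) (hp : p.Prime) (hY : PiG {p} Y) (h3 : Three Ω Y) :
    GoodY Ω Y := by
  obtain ⟨a₀, b₀, c₀, ab₀, -⟩ := id h3
  haveI : Nontrivial Ω := ⟨a₀, b₀, ab₀⟩
  by_cases hd : ¬ p ∣ nI (⊤ : Subgroup G) a₀
  · intro x y xy hx hy
    obtain ⟨w, ow, rfl⟩ := S.swap' tr ht xy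
    obtain ⟨P, hP, wP, -, e⟩ := S.exists_syl_D tr ow xy.symm hp a₀ (pig_bot _) (norm_bot ⊤ (mem_top _)) bot_le
    rw [pp, Nat.factorization_eq_zero_of_not_dvd hd, pow_zero,
      kc_eq_one ow (odd_of_le (S.odd_St2 xy) hP.le) wP] at e
    obtain ⟨g, hg, le⟩ := Syl.sub_cj hP hp (le_inf hx hy) hY
    refine ⟨g * w * g⁻¹, le_C1_iff.1 (le.trans (by rw [← cj_C1]; exact cj_mono g e)), ord_conj ow g, ?_⟩
    rw [mul_smul, mul_smul, inv_smul_eq_iff.2 hg.1.symm]; exact hg.2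
  rw [not_not] at hd
  have p2 := S.ne_two' tr ht ab₀ hp hd
  have hP1 := S.p1_of_g1 tr ht h hp hd
  have h2 := S.tr2_of_P1 tr ht hp hd hP1
  have f0 : ∀ (x y : Ω) (P : Subgroup G), x ≠ y → Syl p P (St2 G x y) → ¬ Three Ω P := fun x y P xy hP h3 => by
    obtain ⟨a₁, b₁, ab, P₀, hP₀, fx⟩ := hP1
    obtain ⟨g, g1, g2⟩ := h2 x y a₁ b₁ xy ab
    have s1 := hP.cj g
    rw [cj_St2, g1, g2] at s1
    obtain ⟨k, -, rfl⟩ := Syl.conj s1 hp hP₀
    refine (not_three ab (hP₀.le.trans inf_le_left) (hP₀.le.trans inf_le_right)).2 fx ?_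
    obtain ⟨x, y, z, xy, xz, yz, hx, hy, hz⟩ := h3
    have f : ∀ x : Ω, P ≤ St G x → cj k (cj g P) ≤ St G ((k * g) • x) := fun x hx => by
      rw [← cj_St, ← cj_mul]; exact cj_mono _ hx
    exact ⟨_, _, _, fun e => xy (smul_left_cancel _ e), fun e => xz (smul_left_cancel _ e),
      fun e => yz (smul_left_cancel _ e), f x hx, f y hy, f z hz⟩
  by_contra hn
  obtain ⟨Y, -, ⟨hY, h3, hn⟩, hm⟩ := exists_maximal
    (P := fun Y : Subgroup G => PiG {p} Y ∧ Three Ω Y ∧ ¬ GoodY Ω Y) ⟨hY, h3, hn⟩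
  have f1 : ∀ (u : G) (e : Ω), orderOf u = 2 → u ∈ N[Y] → u • e = e → Y ≤ St G e → u ∈ C[Y] :=
    fun u e ou uY ue Ye => by
      obtain ⟨d, de, Yd⟩ := h3.exists_ne e
      exact le_C1_iff.1 (S.le_C1_of_g1 h ou ue de uY Yd Ye)
  let ty : Ω → Ω → Prop := fun x y => ∃ R, Syl p R (N[Y] ⊓ St2 G x y) ∧ ¬ Three Ω R
  have fb : ∀ x y : Ω, x ≠ y → Y ≤ St G x → Y ≤ St G y → ¬ ty x y →
      ∃ R, C[R] ≤ C[Y] ∧ R ≤ St G x ∧ R ≤ St G y ∧ GoodY Ω R := fun x y xy hx hy hn' => by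
    obtain ⟨R, hR, YR⟩ := syl_superset hp (le_inf (normG Y) (le_inf hx hy)) hY
    refine ⟨R, centS YR, hR.le.trans (inf_le_right.trans inf_le_left),
      hR.le.trans (inf_le_right.trans inf_le_right), ?_⟩
    by_contra hg
    have := hm R ⟨hR.pi, not_not.1 fun e => hn' ⟨R, hR, e⟩, hg⟩ YR
    subst this
    exact f0 x y R xy (Syl.of_norm (by rwa [inf_comm]) hp) h3
  have fc : ∀ x y : Ω, x ≠ y → ty x y → ∃ R, Syl p R N[Y] ∧ R ≤ St G x ∧ R ≤ St G y ∧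
      ∀ c, R ≤ St G c → c = x ∨ c = y := fun x y xy ⟨R, hR, n3⟩ => by
    have hx : R ≤ St G x := hR.le.trans (inf_le_right.trans inf_le_left)
    have hy : R ≤ St G y := hR.le.trans (inf_le_right.trans inf_le_right)
    have fx := (not_three xy hx hy).1 n3
    exact ⟨R, S.syl_of_two hp p2 xy hR fx, hx, hy, fx⟩
  have cjC : ∀ x y x' y' : Ω, x ≠ y → x' ≠ y' → ty x y → ty x' y' →
      ∃ g ∈ N[Y], (g • x = x' ∧ g • y = y') ∨ (g • x = y' ∧ g • y = x') := fun x y x' y' n n' t1 t2 => by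
    obtain ⟨R, hR, hx, hy, -⟩ := fc x y n t1
    obtain ⟨R', hR', -, -, fx⟩ := fc x' y' n' t2
    obtain ⟨g, hg, rfl⟩ := Syl.conj hR hp hR'
    refine ⟨g, hg, ?_⟩
    rcases fx (g • x) (by rw [← cj_St]; exact cj_mono g hx) with e1 | e1 <;>
      rcases fx (g • y) (by rw [← cj_St]; exact cj_mono g hy) with e2 | e2
    · exact absurd (smul_left_cancel g (e1.trans e2.symm)) n
    · exact Or.inl ⟨e1, e2⟩
    · exact Or.inr ⟨e1, e2⟩
    · exact absurd (smul_left_cancel g (e1.trans e2.symm)) n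
  by_cases hall : ∀ x y : Ω, x ≠ y → Y ≤ St G x → Y ≤ St G y → ty x y
  · have sw : ∀ x y : Ω, x ≠ y → Y ≤ St G x → Y ≤ St G y → ∃ u ∈ N[Y], orderOf u = 2 ∧ u • x = y :=
      fun x y xy hx hy => by
        obtain ⟨z, Yz, zx, zy⟩ : ∃ z, Y ≤ St G z ∧ z ≠ x ∧ z ≠ y := by
          by_contra hn'
          exact (not_three xy hx hy).2 (fun c hc => by by_contra e; push Not at e; exact hn' ⟨c, hc, e⟩) h3
        have t0 := hall x y xy hx hy
        obtain ⟨g, hg, gx⟩ : ∃ g ∈ N[Y], g • x = y := by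
          obtain ⟨g₁, h1, ⟨-, e1⟩ | ⟨-, e1⟩⟩ := cjC x y x z xy zx.symm t0 (hall _ _ zx.symm hx Yz)
          · obtain ⟨g₂, h2, ⟨e2, -⟩ | ⟨e2, -⟩⟩ := cjC x y y z xy zy.symm t0 (hall _ _ zy.symm hy Yz)
            · exact ⟨g₂, h2, e2⟩
            · exact ⟨g₁⁻¹ * g₂, mul_mem (inv_mem h1) h2, by rw [mul_smul, e2, ← e1, inv_smul_smul]⟩
          · exact ⟨g₁⁻¹, inv_mem h1, by rw [← e1, inv_smul_smul]⟩
        obtain ⟨R, hR, Rx, Ry, fx⟩ := fc x y xy t0
        have s1 : Syl p (cj g R) (N[Y] ⊓ St G y) := (hR.cj_mem hg).sub (le_inf (hR.cj_mem hg).le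
          (by rw [← gx, ← cj_St]; exact cj_mono g Rx)) inf_le_left
        obtain ⟨k, hk, e⟩ := Syl.conj s1 hp (hR.sub (le_inf hR.le Ry) inf_le_left)
        have e1 : (k * g) • x = y := by rw [mul_smul, gx]; exact hk.2
        have e2 : (k * g) • y = x := (fx _ (by rw [← e, ← cj_St, ← cj_mul]; exact cj_mono _ Ry)).resolve_right
          fun e => xy (smul_left_cancel _ (e1.trans e.symm))
        obtain ⟨u, hu, h⟩ := S.inv_of_swap xy e1 e2
        exact ⟨u, zp_le (mul_mem hk.1 hg) hu, h⟩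
    refine hn fun x y xy hx hy => ?_
    obtain ⟨u, uY, ou, ux⟩ := sw x y xy hx hy
    obtain ⟨e, ue⟩ := S.ex u ou
    obtain ⟨x, y, z, xy, xz, yz, hx, hy, hz⟩ := h3
    exact ⟨u, f1 u e ou uY ue (S.EV le_rfl xy xz yz hx hy hz (sw _ _ xy hx hy) (sw _ _ yz hy hz)
      (sw _ _ xz.symm hz hx) ou uY ue), ou, ux⟩
  · push Not at hall
    obtain ⟨x, y, xy, hx, hy, hn'⟩ := hall
    obtain ⟨R, CR, Rx, Ry, gR⟩ := fb x y xy hx hy hn'
    obtain ⟨r, rR, hr, -⟩ := gR x y xy Rx Ry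
    have rY := C_le_N _ (CR rR)
    obtain ⟨c, rc⟩ := S.ex r hr
    have Yc : Y ≤ St G c := (le_C1_iff.2 (CR rR)).trans (S.C1_le hr rc)
    have Yo : ∀ d, Orb N[Y] c d → Y ≤ St G d := by rintro _ ⟨m, hm, rfl⟩; exact fix_smul hm Yc
    obtain ⟨e, Ye, ne⟩ : ∃ e, Y ≤ St G e ∧ ¬ Orb N[Y] c e := by
      by_contra hn'
      push Not at hn'
      refine hn fun x y xy hx hy => ?_
      obtain ⟨u, uY, ou, ux⟩ := S.swap_in hr rY rc (hn' x hx) (hn' y hy) xy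
      obtain ⟨d, ud⟩ := S.ex u ou
      exact ⟨u, f1 u d ou uY ud (Yo d (S.orb_of_inv hr rY rc ou uY ud)), ou, ux⟩
    have ec : e ≠ c := by rintro rfl; exact ne (Orb.refl _ _)
    have re := S.ne_smul hr rc ec
    by_cases t1 : ty e (r • e)
    · by_cases t2 : ty c e
      · obtain ⟨g, hg, ⟨e1, -⟩ | ⟨e1, -⟩⟩ := cjC c e e (r • e) ec.symm re.symm t2 t1
        · exact ne ⟨g, hg, e1⟩
        · exact ne ⟨r * g, mul_mem rY hg, by rw [mul_smul, e1, smul_smul_of_ord hr]⟩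
      · obtain ⟨R', CR', R1, R2, gR'⟩ := fb c e ec.symm Yc Ye t2
        obtain ⟨u, uR, -, e1⟩ := gR' c e ec.symm R1 R2
        exact ne ⟨u, C_le_N _ (CR' uR), e1⟩
    · obtain ⟨R', CR', R1, R2, gR'⟩ := fb e (r • e) re.symm Ye (fix_smul rY Ye) t1
      obtain ⟨r', r'R, hr', e1⟩ := gR' e (r • e) re.symm R1 R2
      obtain ⟨c', rc'⟩ := S.ex r' hr'
      have o := S.orb_of_inv hr rY rc hr' (C_le_N _ (CR' r'R)) rc'
      obtain ⟨u, uR, -, e2⟩ := gR' c' e (by rintro rfl; exact ne o) ((le_C1_iff.2 r'R).trans (S.C1_le hr' rc')) R1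
      exact ne (o.trans ⟨u, C_le_N _ (CR' uR), e2⟩)

theorem tr2_of_g1 [Nontrivial Ω] (h4 : FourIn (⊤ : Subgroup G)) (h : G1 G Ω) : Tr2 G Ω := by
  obtain ⟨t, -, -, -, ht, -⟩ := id h4
  obtain ⟨c, hc⟩ := S.ex t ht
  obtain ⟨b, bc⟩ := exists_ne c
  obtain ⟨g, rfl⟩ := tr c b
  obtain ⟨p, hp, hd⟩ := Nat.exists_prime_and_dvd (S.one_lt_nI
    (S.four_St ht (mem_top _) hc (fun e => bc (e (mem_top g))) h4 (Orb.refl _ _))).ne'
  exact S.tr2_of_P1 tr ht hp hd (S.p1_of_g1 tr ht h hp hd)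

theorem goodY_of_g1 (ht : orderOf t = 2) (h : G1 G Ω) (Y : Subgroup G) : Three Ω Y → GoodY Ω Y := by
  refine lt_wf_ind (P := fun Y => Three Ω Y → GoodY Ω Y) (fun Y ih h3 => ?_) Y
  by_cases Y1 : Y = ⊥
  · exact S.good_p tr ht h Nat.prime_two (Y1 ▸ pig_bot _) h3
  have sY := sol_of_odd (S.odd_of_three h3)
  obtain ⟨Y₀, le, ⟨h1, h2⟩, hm⟩ := exists_maximal (P := fun X : Subgroup G => X < Y ∧ Y ≤ N[X])
    ⟨bot_lt_iff_ne_bot.2 Y1, norm_bot _⟩
  obtain ⟨p, hp, ab⟩ := Chief.abelem (V := Y₀) (U := Y) (H := Y)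
    ⟨h1, h2, normG _, h2, fun B b1 b2 b3 => hm B ⟨b2, b3⟩ b1⟩ sY
  have g0 := ih Y₀ h1 (h3.mono h1.le)
  intro x y xy hx hy
  obtain ⟨z, zx, Yz⟩ : ∃ z, (z ≠ x ∧ z ≠ y) ∧ Y ≤ St G z := by
    by_contra hn'
    exact (not_three xy hx hy).2 (fun c hc => by by_contra e; push Not at e; exact hn' ⟨c, e, hc⟩) h3
  have orb : ∀ d, Y₀ ≤ St G d → Orb N[Y₀] x d := fun d hd => by
    by_cases e : x = d
    · exact e ▸ Orb.refl _ _
    · obtain ⟨u, hu, -, e⟩ := g0 x d e (h1.le.trans hx) hd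
      exact ⟨u, C_le_N _ hu, e⟩
  obtain ⟨r, rY, hr, rx⟩ := g0 x y xy (h1.le.trans hx) (h1.le.trans hy)
  obtain ⟨c, rc⟩ := S.ex r hr
  obtain ⟨s, hs⟩ := S.exists_iv hr (C_le_N _ rY) rc (orb c ((le_C1_iff.2 rY).trans (S.C1_le hr rc))).symm
  have hM : ¬ N[Y₀] ≤ St G x := fun e => xy ((e (C_le_N _ rY)).symm.trans rx)
  have YK : Y₀ ≤ (pm N[Y₀] x).ker := by rw [pm_ker]; exact le_Ker (normG _) le_rfl (h1.le.trans hx)
  have im : ∀ d (hd : Y ≤ St G d), (pm N[Y₀] x).im Y ≤ St _ (pt (orb d (h1.le.trans hd))) := fun d hd g hg => by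
    obtain ⟨g', hg', rfl⟩ := (PHom.mem_im' (φ := pm N[Y₀] x) h2).1 hg
    exact (pm_smul_eq (h2 hg')).2 (hd hg')
  have pY : PiG {p} ((pm N[Y₀] x).im Y) := (pig_im_iff (φ := pm N[Y₀] x) h2).2
    (Core.IsPiNum.of_dvd (by rw [← card_quo h2]; exact ab.pig hp) (relIndex_dvd_left YK Y))
  obtain ⟨u, hu, ou, ux⟩ := (S.pm_fix1 hM hs).good_p pm_tr (S.pm_ord hM hs.2.1 hs.1) (S.pm_g1 hM h) hp pY
    ⟨_, _, _, fun e => xy (congrArg Subtype.val e), fun e => zx.1.symm (congrArg Subtype.val e),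
      fun e => zx.2.symm (congrArg Subtype.val e), im x hx, im y hy, im z Yz⟩ _ _
    (fun e => xy (congrArg Subtype.val e)) (im x hx) (im y hy)
  obtain ⟨u, uM, ou', rfl⟩ := S.pm_lift hM ou
  have ux' : u • x = y := (pm_smul_eq uM).1 ux
  obtain ⟨d, ud⟩ := S.ex u ou'
  refine ⟨u, mem_C.2 fun g hg => ?_, ou', ux'⟩
  have gM := h2 hg
  have cM := conj_mem (normG _ gM) uM
  have kK : u * (g * u * g⁻¹) ∈ Ker N[Y₀] x := by
    rw [← pm_eq_one (mul_mem uM cM), PHom.app_mul uM cM, PHom.app_conj gM uM,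
      mem_C.1 hu _ (PHom.app_mem_im hg gM), mul_inv_cancel_right, mul_self_of_ord ou]
  have := h u _ x d ou' ud (by
    rw [mul_inv_rev, inv_of_ord (ord_conj ou' g), ← mul_assoc u u, mul_self_of_ord ou', one_mul])
    (kK.2 d (S.orb_of_inv hs.2.1 hs.1 hs.2.2 ou' uM ud)) (kK.2 x (Orb.refl _ _))
    (fun e => xy (by rw [← ux', e, ud]))
  rw [← mul_inv_eq_iff_eq_mul, ← inv_eq_of_mul_eq_one_right this, inv_of_ord ou']

theorem good_of_g1 (ht : orderOf t = 2) (h : G1 G Ω) : Good G Ω := fun Y a b c h1 h2 h3 h4 h5 h6 =>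
  S.goodY_of_g1 tr ht h Y ⟨a, b, c, h1, h2, h3, h4, h5, h6⟩ a b h1 h4 h5

omit tr

/-- under (G1) a subgroup of rank one moving `c` has only one involution fixing `c` -/
theorem nI_eq_one (h : G1 G Ω) {M : Subgroup G} {t : G} {c : Ω} (ht : orderOf t = 2) (htM : t ∈ M)
    (hc : t • c = c) (hM : ¬ M ≤ St G c) (h4 : ¬ FourIn M) : nI M c = 1 := by
  have nO := O_norm {2}ᶜ M
  have Oc : ¬ O[{2}ᶜ](M) ≤ St G c := fun e => hM fun m hm => by
    obtain ⟨o, ho, h⟩ := S.rk1_trans h4 ht htM hc (orb_smul hm c)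
    exact h.symm.trans (e ho)
  obtain ⟨N, -, ⟨h1, h2, h3⟩, hm⟩ := exists_minimal
    (P := fun N : Subgroup G => N ≤ O[{2}ᶜ](M) ∧ M ≤ N[N] ∧ ¬ N ≤ St G c) ⟨le_rfl, nO, Oc⟩
  have oN := odd_of_le (odd_O M) h1
  have nn : N ≤ N[N ⊓ St G c] := norm_of_der_le (le_inf (der_le _) (by
    by_contra hn
    exact ((sol_of_odd oN).der_lt (fun e => h3 (e ▸ bot_le))).ne
      (hm _ ⟨(der_le _).trans h1, normD h2, hn⟩ (der_le _)))) inf_le_left
  obtain ⟨f, hf, fc⟩ := SetLike.not_le_iff_exists.1 h3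
  have fx := S.tc_fix ht hc oN (h2 htM) nn (odd_of_le (odd_O M) inf_le_left) inf_le_right
    ((inf_le_left.trans (O_le _ _)).trans h2) hf
  rw [nI, Set.ncard_eq_one]
  refine ⟨t, Set.eq_singleton_iff_unique_mem.2 ⟨⟨htM, ht, hc⟩, fun u hu => ?_⟩⟩
  have i : t * (t * u) * t⁻¹ = (t * u)⁻¹ := by
    rw [mul_inv_rev, inv_of_ord hu.2.1, ← mul_assoc, mul_self_of_ord ht, one_mul]
  have c1 : t * u ∈ St G c := mul_mem (hc : t ∈ St G c) hu.2.2
  have := h t (t * u) (f • c) c ht hc i c1 (fx (mem_tc ⟨⟨rk1_mul h4 ht htM hu.2.1 hu.1, c1⟩, i⟩)) fc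
  rw [← inv_of_ord ht]; exact (inv_eq_of_mul_eq_one_right this).symm

end Fix1

end Cfsg.Agent.SE
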