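import Cfsg.Agent.SE.C2a

/-!
# C2: `T = [D,t]` is abelian

`K = invertedBy D t`, `V = C_D(t)`.  For a `⟨t,x⟩`-invariant subgroup `M ≤ D`: `C_M(x) ≤ C_M(t)` (`bad`, `kc_eq_one`/`exists_inv_ne`).
All elements of `KY D t Y` (cyclic, generated by inverted elements) are inverted.  A `p'`-element of `N_V(Y)` centralizes
`KY D t Y` if `x` normalizes `Y` (`gal`).

**C2a** `U` a `⟨t,x⟩`-invariant `q`-group, `q ≠ p`, `U = tc t U`.  Suppose `C₀ = C_U(t) ≠ 1`.
1. `Z(U) ⊓ C₀ = 1` (else `U ≤ KY` is inverted), so `t` inverts `Z = Z(U) ≠ 1`, `Z ≤ KY C₀` is cyclic, `Z₁ = Ω₁(Z)` has order `q`,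
   `p ∣ q - 1` (`idx_cent_prime`), and every `U`-invariant subgroup of `C₀` is trivial (`PiG.meet_C`).
2. `U` is not abelian.  `z ∈ Z₂ - Z`, `z = c k` (`decomp` in `Z₂`); `k ∈ Z`: for `k' ∈ K ∩ U`, `[k,k'] ∈ Z` is inverted and
   `[k,k']^t = [k⁻¹,k'⁻¹] = [k,k']`.  So `A₀ = C₀ ⊓ Z₂ ≠ 1`; `[A₀, C₀] ≤ Z ⊓ C₀ = 1`.  Take `a ∈ Ω₁(A₀)#` with `x a x⁻¹ = a^ν`
   (`Core.exists_eigenvector`, `x^q = x^(1 + jp)`).
3. `Z₀ = U ⊓ KY ⟨a⟩` is cyclic, centralized by `C₀` (`gal`), `B = C_U(a) = C₀ Z₀` has index `q` (`u ↦ [u,a] ∈ Z₁`), `B' = C₀'` is normal in `U`,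
   so `B` is abelian.  Take `w ∈ K ∩ U - B`, `u = w²`, `U = B⟨u⟩`, `U' = {[u,b]}`.
4. `C₀ ≤ U'` (`U/U'` is inverted).  `η(b) = (w b w⁻¹)(w⁻¹ b⁻¹ w)` is a homomorphism on `B` with image `U'`, `η(b)^t = η(b^t)⁻¹`.  Write `a = η(c) η(z)`:
   `η(c) ∈ K ∩ C₀ = 1`.  So `[u,z] = w a w⁻¹ ≡ a mod Z₁` with `z ∈ Z₀`.
5. `x u x⁻¹ ∈ u^μ B`, `x z x⁻¹ = z^λ` on `Z₀ ≥ Z₁`.  Conjugating `[u,a] = z₁` and `[u,z] ≡ a` by `x`: `λ ≡ μν`, `ν ≡ λμ` mod `q`, so `μ² ≡ 1`,
   `x²`, hence `x`, centralizes `U/B`, `U = B C_U(x) ≤ B`.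

**W** `U ⊆ K` an `x`-invariant subgroup, `M ≤ D` a `p'`-group normalized by `U, x, t`, coprime to `U`.  `frob_wielandt` for `U⟨xt⟩` and `U⟨x⟩`, with
`C_M(xt) = C_M(x)`: `d^(2p) m = c^(2p) u`, `d^p m = c^p u`, so `c = d`, `m = u`: `U` centralizes `M`.

**C2b** `F = F(T)`.  For a prime `q`, `L = OM {q} F T`, `R` an invariant Sylow `q`-subgroup of `L`, `U = tc t R ⊆ K` centralizes `O_{q'}(F)`;
`L ⊓ C(O_{q'}(F))` is nilpotent (`nil_of_im_cent`) and normal, so `U ≤ F`.  So `t` centralizes `F(T/F)`, hence `T/F` (`cop_cent_F`), `T = F`.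
`T ≤ U_q ⊔ O_{q'}(T)` with `U_q = tc t O_q(T)` (split inverted elements into their `q`- and `q'`-parts), so `O_q(T) = U_q` is abelian.
-/

set_option autoImplicit false
set_option linter.unusedVariables false
set_option linter.unusedSectionVars false

namespace Cfsg.Agent.SE
open Cfsg Cfsg.Agent.BG Cfsg.Agent.Inv MulAction Subgroup PHom

variable {G : Type*} [Group G] [Finite G] {D M U : Subgroup G} {t x : G} {p q : ℕ}

namespace LD
variable (L : LD D t x p)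
include L

theorem p_ne : p ≠ 2 := fun e => by have := L.p_odd; rw [e] at this; exact absurd this (by decide)

theorem cop : (orderOf x).Coprime (orderOf t) := by
  rw [L.xp, L.ord]; exact (Nat.coprime_primes L.prime Nat.prime_two).2 L.p_ne

theorem ord_xt : orderOf (x * t) = p * 2 := by
  rw [Commute.orderOf_mul_eq_mul_orderOf_of_coprime (mem_C1.1 L.xt) L.cop, L.xp, L.ord]

theorem x_mem : x ∈ zpowers (x * t) :=
  pi_part_mem (π := {p}) (pig_zpowers.1 L.pig_x)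
    (by rw [PiE, L.ord]; exact PiN.ne_compl (pin_single_self Nat.prime_two) L.p_ne.symm) (mem_C1.1 L.xt)

theorem t_mem : t ∈ zpowers (x * t) := by
  have := mul_mem (inv_mem L.x_mem) (mem_zpowers (x * t))
  rwa [inv_mul_cancel_left] at this

theorem cop_xt (h1 : Odd #M) (h2 : PiG {p}ᶜ M) : (#(zpowers (x * t))).Coprime #M := by
  rw [card_zpowers', L.ord_xt]
  exact Nat.Coprime.mul_left ((pin_compl_cop L.prime).1 h2).symm (Nat.coprime_two_left.2 h1)

/-- Wielandt's formula twice -/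
theorem W (hU : U ≤ D) (iU : ∀ k ∈ U, t * k * t⁻¹ = k⁻¹) (xU : x ∈ N[U]) (hM : M ≤ D) (pM : PiG {p}ᶜ M)
    (UM : U ≤ N[M]) (xM : x ∈ N[M]) (tM : t ∈ N[M]) (cop : (#U).Coprime #M) : U ≤ C[M] := by
  by_cases U1 : U = ⊥
  · rw [U1]; exact bot_le
  have oM := odd_of_le L.odd hM
  have tU : t ∈ N[U] := mem_N_of fun k hk => by rw [iU k hk]; exact inv_mem hk
  have E12 := zp_le L.x_mem
  have nE := zp_le (mul_mem xU tU)
  have nM := zp_le (mul_mem xM tM)
  have sr : Semireg U (zpowers (x * t)) := semireg_of_prime_sub fun X hX pX => eq_bot_iff.2 fun k hk => by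
    have h1 := cardS hX
    rw [card_zpowers', L.ord_xt, pX.dvd_mul, Nat.prime_dvd_prime_iff_eq pX L.prime,
      Nat.prime_dvd_prime_iff_eq pX Nat.prime_two] at h1
    obtain ⟨k1, k2⟩ := mem_inf.1 hk
    rcases h1 with h1 | h1
    · rw [(cyc_zpowers _).eq_of_card hX E12 (h1.trans L.card_x.symm), C_zpowers] at k2
      exact L.bad k ⟨hU k1, iU k k1⟩ k2
    · rw [(cyc_zpowers _).eq_of_card hX (zp_le L.t_mem) (by rw [h1, card_zpowers', L.ord]), C_zpowers] at k2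
      exact eq_one_of_inv (odd_ord_of_mem L.odd (hU k1)) (iU k k1) k2
  have key : ∀ E ≤ zpowers (x * t), x ∈ E →
      #(M ⊓ C[U] ⊓ C1[x]) ^ #E * #M = #(M ⊓ C1[x]) ^ #E * #(M ⊓ C[U]) := fun E hE xE => by
    have s := sr.mono le_rfl hE
    have e : M ⊓ C[E] = M ⊓ C1[x] := le_antisymm (inf_le_inf_left _ (C_le_C1 xE)) (le_inf inf_le_left
      (le_trans (fun g hg => ?_) (centS hE)))
    · have := frob_wielandt (M := M) ⟨sdprod_sup s.inf_bot (hE.trans nE), U1, ne_bot_of_mem xE L.x_ne, s⟩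
        (sup_le UM (hE.trans nM)) (Nat.Coprime.coprime_dvd_left (card_sup_dvd_l (hE.trans nE))
          (cop.mul_left (coprimeS (L.cop_xt oM pM) hE le_rfl))) (sol_of_odd oM)
      rwa [C_sup, inf_comm C[U], ← inf_assoc, e, inf_right_comm] at this
    · rw [C_zpowers]
      exact C1_symm (mul_mem (C1_symm (mem_inf.1 hg).2) (C1_symm (L.cx (inf_le_inf_right _ hM hg))))
  have k1 := key _ E12 (mem_zpowers x)
  have k2 := key _ le_rfl L.x_mem
  rw [L.card_x] at k1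
  rw [card_zpowers', L.ord_xt, pow_mul, pow_mul, sq, sq, mul_assoc, k1, mul_assoc,
    mul_left_inj' (mul_pos (pow_pos (card_pos _) _) (card_pos _)).ne'] at k2
  rw [k2, mul_right_inj' (pow_pos (card_pos _) _).ne'] at k1
  exact cent_symm ((eq_of_card_le inf_le_left k1.le).ge.trans inf_le_right)

theorem inv_q (hq : q.Prime) (h : PiG {p}ᶜ U) (hU : U ≤ D) (pU : PiG {q} U) (tU : t ∈ N[U]) (xU : x ∈ N[U]) :
    ∀ k ∈ tc t U, t * k * t⁻¹ = k⁻¹ := fun k hk => by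
  have le := tc_le t U
  by_cases e : q = p
  · subst e; rw [mem_bot.1 ((pU.eq_bot h).le (le hk))]; simp
  exact inv_of_fpf L.ord (odd_of_le L.odd (le.trans hU)) (t_norm_tc t U) (L.c2a hq e (le.trans hU) (pU.of_le le)
    (t_norm_tc t U) (cent_norm_tc xU L.xt) (tc_tc t U)) hk

theorem nil (h : PiG {p}ᶜ (tc t D)) : Nil (tc t D) := by
  set T := tc t D with hT
  have ht := L.ord
  have TD : T ≤ D := tc_le t D
  have oT := odd_of_le L.odd TD
  have tT : zpowers t ≤ N[T] := zp_le (t_norm_tc t D)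
  have xT : zpowers x ≤ N[T] := zp_le (tc_norm ht L.odd L.tD L.xD)
  have nF := F_norm T
  have key : F[T ÷ F[T]] ≤ C[zpowers t ÷ F[T]] := F_le_of_O fun q hq => by
    set K := OM {q} F[T] T
    have KT : K ≤ T := OM_le (F_le T) nF
    have tK : zpowers t ≤ N[K] := normOM (normF tT) tT
    have xK : zpowers x ≤ N[K] := normOM (normF xT) xT
    obtain ⟨R, hR, nR⟩ := cop_syl_exists (zp_le (mul_mem (xK (mem_zpowers x)) (tK (mem_zpowers t))))
      (L.cop_xt (odd_of_le oT KT) (h.of_le KT)) (Or.inl (cyc_zpowers _).sol) hq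
    have RT := hR.le.trans KT
    have tR := nR L.t_mem
    have xR := nR L.x_mem
    have UT := (tc_le t R).trans RT
    rw [← OM_quo, ← hR.im_eq (φ := quo F[T]) (KT.trans nF) (by rw [OM_quo]; exact O_pig _ _),
      quo_cent_iff (RT.trans nF) (normF tT), ← tc_eq_comm ht (odd_of_le oT RT) tR]
    set M := O[{q}ᶜ](F[T])
    have MF : M ≤ F[T] := O_le _ _
    have MT := MF.trans (F_le T)
    have nM : T ≤ N[M] := normO _ nF
    have UM : tc t R ≤ C[M] := L.W (UT.trans TD) (L.inv_q hq (h.of_le RT) (RT.trans TD) hR.pi tR xR)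
      (cent_norm_tc xR L.xt) (MT.trans TD) (h.of_le MT) (UT.trans nM)
      (normO _ (normF xT) (mem_zpowers x)) (normO _ (normF tT) (mem_zpowers t))
      ((hR.pi.of_le (tc_le t R)).coprime (O_pig _ _))
    refine (le_inf ((tc_le t R).trans hR.le) UM).trans (le_F (inf_le_left.trans KT)
      (normI (normOM nF (normG T)) (normC nM)) (nil_of_im_cent (φ := quo M) (inf_le_left.trans (KT.trans nM))
      (by rw [quo_ker]; exact inf_le_right.trans (cent_symm inf_le_right)) (PiG.nil (p := q) ?_)))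
    refine PiG.of_le ?_ (im_mono (inf_le_left : K ⊓ C[M] ≤ K))
    rw [PiG, card_quo (KT.trans nM), ← relIndex_mul_relIndex M F[T] K MF (le_OM_self _ _ _)]
    exact pin_mul.2 ⟨by simpa using ((F_nil T).hall_O {q}ᶜ).idx, OM_idx _ _ _⟩
  have := cop_cent_F (im_norm tT) (cop_im (cop_t ht oT) (quo F[T])) ((sol_of_odd oT).im _) (cent_symm key)
  rw [quo_cent_iff (normF tT) nF, commC, ← tc_eq_comm ht oT (tT (mem_zpowers t)), tc_tc] at this
  exact (F_nil T).of_le this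

end LD

theorem LD.abel (L : LD D t x p) (h : PiG {p}ᶜ (tc t D)) : Abel (tc t D) := by
  have nil := L.nil h
  set T := tc t D with hT
  have ht := L.ord
  have TD : T ≤ D := tc_le t D
  have oT := odd_of_le L.odd TD
  have tT : zpowers t ≤ N[T] := zp_le (t_norm_tc t D)
  have xT : zpowers x ≤ N[T] := zp_le (tc_norm ht L.odd L.tD L.xD)
  refine nil.abel_of_O fun q hq _ => ?_
  have dp := nil.dprod_O {q}
  have AT := O_le {q} T
  have tA := normO {q} tT (mem_zpowers t)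
  have oA := odd_of_le oT AT
  have nA := tc_norm ht oA tA
  have c : O[{q}ᶜ](T) ≤ N[tc t O[{q}](T)] := cents_norm (dp.cent.trans (centS (tc_le t _)))
  have e : T ≤ tc t O[{q}](T) ⊔ O[{q}ᶜ](T) := by
    have : T = ⁅O[{q}](T) ⊔ O[{q}ᶜ](T), zpowers t⁆ := by
      rw [dp.sup, ← tc_eq_comm ht oT (tT (mem_zpowers t)), tc_tc]
    refine this.le.trans (comm_sup_le ?_ ((commL (normO _ tT)).trans le_sup_right)
      (normY nA (AT.trans (O_norm _ _))) (normsG le_sup_right))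
    rw [← tc_eq_comm ht oA tA]; exact le_sup_left
  have e2 : O[{q}](T) ≤ tc t O[{q}](T) := by
    have := le_inf (AT.trans e) le_rfl
    rwa [modl_l c (tc_le t _), inf_comm, dp.inf, sup_bot_eq] at this
  exact (abel_of_inv (L.inv_q hq (h.of_le AT) (AT.trans TD) (O_pig _ _) tA
    (normO {q} xT (mem_zpowers x)))).of_le e2

end Cfsg.Agent.SE
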