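import Cfsg.Agent.SE.C2a

/-!
# C3: the subgroups `[K,u]`, `u ∈ U#`, have a common nontrivial subgroup

`K = tc t D` abelian, `KY D t Y = K ⊓ C(Y)`.  `U ≤ V`, `x ∈ P ∈ Syl_p(U)` cyclic, `P ≰ U'`, so `U = B ⋊ P`, `B = O_{p'}(U)` (`cyc_syl_der`, `burnside`).
A Sylow subgroup of `U` outside `U'` is fixed point free on `K` (*bad* prime).  `A₁ = [U,x] = [B,x]`.
1. If `K` is cyclic, `U` is abelian, `A₁ = 1`.  Otherwise some `Ω₁(K_q)` is not cyclic, so `C_V(Ω₁ K_q) = 1` (`cyc`); for an `x`-invariant Hall `q'`-subgroup `B₁`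
   of `B`, `[B₁,x]` centralizes it (`odd_prime_sdprod_abelem_cent`), so `B = R C_B(x)` for an invariant Sylow `q`-subgroup `R`, `A₁ ≤ R` is a `q`-group.
2. `A₁ = 1`: `U` is fixed point free on `K` (take `K₁ = K`).  Else let `y ∈ U#`, `K_y ≠ 1`, `Y = C_U(K_y)`.  For `1 ≠ Y₁ ≤ Y`, `K_{Y₁} = K_y` (`card`), so
   `N_U(Y₁) ≤ Y⟨x⟩` (`gal`), and `z, z^g ∈ Y#` gives `g ∈ N(K_y)`, `g ∈ N_U(Y) ≤ Y⟨x⟩`.  A Sylow `r`-subgroup `R ≰ Y'` of `Y` (`r ≠ p`) is Sylow in `U` and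
   `R ⊓ U' ≤ Y'` (`focal_le`), so `r` is bad, false.
3. `A₁ ≠ 1`: `K_{A₁} ≠ 1`, `U = U₀⟨x⟩` with `U₀ = C_U(K_{A₁})` a `p'`-group; `U' ≤ U₀' A₁`, so `U₀ = A₁` (no prime of `U₀` is bad).
   `K₁ = Ω₁(K_{A₁} ⊓ K_q)`.  For `u ∈ A₁#`, `[K_q,u] ≠ 1` meets the cyclic group `K_u ⊓ K_q`, so contains `K₁` (`Cyc.Om_le`).
   For `u ∉ A₁` a power of `u` has order `p`, so is fixed point free, `[K,u] = K`.
-/

set_option autoImplicit false
set_option linter.unusedVariables false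
set_option linter.unusedSectionVars false

namespace Cfsg.Agent.SE
open Cfsg Cfsg.Agent.BG Cfsg.Agent.Inv MulAction Subgroup PHom

variable {G : Type*} [Group G] [Finite G] {D U P : Subgroup G} {t x : G} {p : ℕ}

theorem KY_eq (hK : Abel (tc t D)) (Y : Subgroup G) : KY D t Y = tc t D ⊓ C[Y] :=
  le_antisymm (le_inf (tc_mono t inf_le_left) ((tc_le t _).trans inf_le_right)) fun k hk =>
    mem_tc ⟨inf_le_inf_right _ (tc_le t D) hk, inv_of_abel hK (mem_inf.1 hk).1⟩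

theorem comm_eq_of_fpf {K : Subgroup G} {u : G} (h1 : u ∈ N[K]) (h2 : (orderOf u).Coprime #K)
    (h : K ⊓ C1[u] = ⊥) : K ≤ ⁅K, zpowers u⁆ := by
  have := (cop_cent_prod (zp_le h1) (by rwa [card_zpowers']) (Or.inl (cyc_zpowers u).sol)).sup
  rw [C_zpowers, h, sup_bot_eq] at this
  exact this.ge

theorem LD.common (L : LD D t x p) (h : PiG {p}ᶜ (tc t D)) (hK : Abel (tc t D)) (h0 : tc t D ≠ ⊥)
    (hf : D ⊓ C1[t] ⊓ C[tc t D] = ⊥) (hU : U ≤ D ⊓ C1[t]) (hP : Syl p P U) (hx : x ∈ P) (hc : Cyc P)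
    (hd : ¬ P ≤ ⁅U, U⁆)
    (hb : ∀ q R, q.Prime → Syl q R U → ¬ R ≤ ⁅U, U⁆ → Semireg (tc t D) R) :
    ∃ K₁, K₁ ≠ ⊥ ∧ ∀ u ∈ U, u ≠ 1 → K₁ ≤ ⁅tc t D, zpowers u⁆ := by
  set K := tc t D with hKd
  have hp := L.prime
  have oU : Odd #U := odd_of_le L.odd (hU.trans inf_le_left)
  have sU := sol_of_odd oU
  have xU := hP.le hx
  have nK : U ≤ N[K] := (hU.trans inf_le_left).trans (tc_norm L.ord L.odd L.tD)
  have iK : ∀ k ∈ K, k ∈ invertedBy D t := fun k hk => ⟨tc_le t D hk, inv_of_abel hK hk⟩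
  have fp : ∀ z ∈ U, orderOf z = p → K ⊓ C1[z] = ⊥ := fun z hz oz => by
    obtain ⟨P', hP', zP⟩ := syl_superset hp (zp_le hz) (pig_of_card' hp (by rw [card_zpowers', oz]))
    obtain ⟨g, hg, e⟩ := Syl.conj hP' hp hP
    exact hb p P' hp hP' (fun h => hd (e ▸ cj_le_of_mem h (der_norm U hg))) z (zP (mem_zpowers z))
      fun e => hp.ne_one (by rw [← oz, e, orderOf_one])
  have pc : ∀ K₀ ≤ K, K₀ ≠ ⊥ → PiG {p}ᶜ (U ⊓ C[K₀]) := fun K₀ h1 h2 => (pin_compl hp).2 fun hd => by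
    obtain ⟨z, hz, oz⟩ := cauchy hp hd
    exact h2 (eq_bot_iff.2 ((le_inf h1 (le_C1_iff.2 (mem_inf.1 hz).2)).trans (fp z (mem_inf.1 hz).1 oz).le))
  -- no Sylow subgroup of a centralizer `C_U(K₀)` is bad
  have nb : ∀ K₀ ≤ K, K₀ ≠ ⊥ → ∀ Y', ¬ U ⊓ C[K₀] ≤ Y' → (∀ r R, r.Prime → r ≠ p → Syl r R (U ⊓ C[K₀]) → R ≠ ⊥ →
      Syl r R U ∧ R ⊓ ⁅U, U⁆ ≤ Y') → False := fun K₀ h1 h2 Y' h3 h4 => h3 <| le_of_syl fun r hr hd => by
    obtain ⟨R, hR⟩ := syl_exists hr (U ⊓ C[K₀])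
    refine ⟨R, hR, ?_⟩
    by_contra h5
    have R1 : R ≠ ⊥ := fun e => h5 (e ▸ bot_le)
    obtain ⟨h6, h7⟩ := h4 r R hr (fun e => (pin_compl hp).1 (pc K₀ h1 h2) (e ▸ hd)) hR R1
    exact h2 (eq_bot_iff.2 ((le_inf h1 (cent_symm (hR.le.trans inf_le_right))).trans
      ((hb r R hr h6 fun e => h5 ((le_inf le_rfl e).trans h7)).cent le_rfl R1).le))
  by_cases A1 : ⁅U, zpowers x⁆ = ⊥
  · have xC : ∀ Y ≤ U, x ∈ N[Y] := fun Y hY => C_le_N _ (centS hY (comm_eq_bot'.1 A1 (mem_zpowers x)))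
    have sr : Semireg K U := fun y hy y1 => by
      by_contra K0
      set K₀ := K ⊓ C1[y] with hK₀
      have yY : y ∈ U ⊓ C[K₀] := mem_inf.2 ⟨hy, le_C1_iff.1 inf_le_right⟩
      have cd : ∀ Y ≤ U ⊓ C[K₀], Y ≠ ⊥ → #(KY D t Y) + 1 = 2 ^ p ∧ K₀ ≤ KY D t Y := fun Y hY Y1 => by
        have : K₀ ≤ KY D t Y := by
          rw [KY_eq hK]; exact le_inf inf_le_left (cent_symm (hY.trans inf_le_right))
        exact ⟨L.card Y ((hY.trans inf_le_left).trans hU) Y1 (xC Y (hY.trans inf_le_left))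
          fun e => K0 (eq_bot_iff.2 (this.trans e.le)), this⟩
      have eq : ∀ Y ≤ U ⊓ C[K₀], Y ≠ ⊥ → KY D t Y = K₀ := fun Y hY Y1 => by
        have h1 := (cd _ (zp_le yY) (zpowers_ne_bot.2 y1)).1
        rw [KY_eq hK, C_zpowers, ← hK₀, ← (cd Y hY Y1).1] at h1
        exact (eq_of_card_le (cd Y hY Y1).2 (by omega)).symm
      refine nb K₀ inf_le_left K0 ⁅U ⊓ C[K₀], U ⊓ C[K₀]⁆
        ((sU.of_le inf_le_left).der_lt (ne_bot_of_mem yY y1)).not_ge fun r R hr rp hR R1 => ?_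
      have RU := hR.le.trans inf_le_left
      have hR' : Syl r R U := Syl.of_norm (syl_of_max hr (le_inf RU (normG R)) hR.pi fun Q q1 q2 q3 =>
        hR.max q1 (le_inf (q2.trans inf_le_left) fun w hw => eq R hR.le R1 ▸ L.cent_KY (RU.trans hU) R1 (xC R RU)
          (inf_le_inf_right _ hU (q2 hw)) (PiN.ne_compl (q1.elt hw) rp)) q3) hr
      refine ⟨hR', focal_le hr hR' fun z hz g hg hzg => ?_⟩
      by_cases z1 : z = 1
      · rw [z1]; simp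
      have gK : g ∈ N[K₀] := by
        have e1 := eq _ (zp_le (hR.le hz)) (zpowers_ne_bot.2 z1)
        have e2 := eq _ (zp_le (hR.le hzg)) (zpowers_ne_bot.2 (by simpa using z1))
        rw [KY_eq hK, C_zpowers] at e1 e2
        rw [mem_N_iff_cj]
        nth_rewrite 1 [← e1]
        rw [cj_inf, cj_C1, cj_of_mem_N (nK hg), e2]
      have Y1 := ne_bot_of_mem yY y1
      obtain ⟨w, hw, gw⟩ := L.gal _ (inf_le_left.trans hU) Y1 (xC _ inf_le_left) (by rw [eq _ le_rfl Y1]; exact K0)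
        g (mem_inf.2 ⟨hU hg, normI (zp_le (normG U hg)) (normC (zp_le gK)) (mem_zpowers g)⟩)
      rw [eq _ le_rfl Y1] at gw
      have := comm_mem (inv_mem (hR.le hz)) (mem_inf.2 ⟨mul_mem hg (zp_le xU hw), gw⟩)
      have c := mem_C_comm (comm_eq_bot'.1 A1) hw (RU hz)
      convert this using 1
      calc _ = z⁻¹ * g * (z * w) * w⁻¹ * g⁻¹ := by group
        _ = _ := by rw [← c]; group
    exact ⟨K, h0, fun u hu u1 => comm_eq_of_fpf (nK hu)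
      ((sr.coprime nK).coprime_dvd_left (orderOf_dvd hu)) (sr u hu u1)⟩
  set A := ⁅U, zpowers x⁆ with hA
  have AU : A ≤ U := comm_le le_rfl (zp_le xU)
  have nA : U ≤ N[A] := comm_norml _ _
  have nc : ¬ Cyc K := fun c => A1 (eq_bot_iff.2 (le_trans (le_inf (AU.trans hU)
    ((commS le_rfl (zp_le xU)).trans (c.der_cent nK))) hf.le))
  obtain ⟨q, hq, E₀, hE₀⟩ := exists_pnElem_rank (H := K) (n := 0 + 2) (by
    by_contra e; exact nc (hK.cyc_of_rank (by omega)))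
  set E := Ω[q](K) with hE
  have EK : E ≤ K := Om_le _ _
  have aE : Abelem q E := hK.Om_abelem q
  have nE : U ≤ N[E] := normOm q nK
  have ncE : ¬ Cyc E := fun c => hE₀.not_cyc hq (c.of_le (hE₀.ab.le_Om hE₀.le))
  have E1 : E ≠ ⊥ := fun e => ncE (e ▸ cyc_bot)
  have fE : U ⊓ C[E] = ⊥ := by
    by_contra e
    exact ncE ((L.cyc _ (inf_le_left.trans hU) e).of_le (by
      rw [KY_eq hK]; exact le_inf EK (cent_symm inf_le_right)))
  have qp : q ≠ p := fun e => E1 ((aE.pig hq).eq_bot (e ▸ h.of_le EK))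
  have pA : PiG {q} A := by
    have sd := (burnside hp hP (cent_symm (comm_eq_bot.1 (eq_bot_iff.2 ((le_inf (commL inf_le_right)
      (commS hP.le inf_le_left)).trans ((cyc_syl_der hp hP hc).resolve_right hd).le))))).sdprod hP
    set B := O[{p}ᶜ](U)
    have xB : zpowers x ≤ N[B] := (zp_le xU).trans (O_norm _ _)
    have cB : (#(zpowers x)).Coprime #B := L.pig_x.coprime (O_pig _ _)
    obtain ⟨B₁, hB₁, x1⟩ := cop_hall_exists {q}ᶜ xB cB (sU.of_le sd.left)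
    have c1 := coprimeS cB le_rfl hB₁.le
    have MU := sup_le (hB₁.le.trans sd.left) (zp_le xU)
    have k := odd_prime_sdprod_abelem_cent (sU.of_le MU) (odd_of_le oU MU)
      (sdprod_sup (inf_bot_of_coprime c1.symm) x1) c1 (L.card_x ▸ hp) hq aE (MU.trans nE)
      (hB₁.pi.sup_l (PiN.ne_compl L.pig_x qp.symm) x1)
      (by rw [C_zpowers]; exact eq_bot_iff.2 ((inf_le_inf_right _ EK).trans (fp x xU L.xp).le))
    have := cop_comm_le_O xB cB (sU.of_le sd.left) hB₁ (comm_eq_bot.1 (eq_bot_iff.2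
      ((le_inf (comm_le (hB₁.le.trans sd.left) (zp_le xU)) k).trans fE.le)))
    rw [hA, ← sd.sup, comm_sup_cent (hc.abel.trans (centS (zp_le hx))) sd.norm]
    exact (O_pig _ _).of_le this
  have K1 : E ⊓ C[A] ≠ ⊥ := (aE.pig hq).meet_C pA (AU.trans nE) E1
  have K0 : K ⊓ C[A] ≠ ⊥ := fun e => K1 (eq_bot_iff.2 ((inf_le_inf_right _ EK).trans e.le))
  have cw : ∀ w ∈ U, PiE {p}ᶜ w → w ∈ U ⊓ C[K ⊓ C[A]] := fun w hw pw => mem_inf.2
    ⟨hw, KY_eq hK A ▸ L.cent_KY (AU.trans hU) A1 (nA xU) (mem_inf.2 ⟨hU hw, nA hw⟩) pw⟩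
  have UA : U ⊓ C[K ⊓ C[A]] ≤ A := by
    set U₀ := U ⊓ C[K ⊓ C[A]] with hU₀
    have n0 : U ≤ N[U₀] := normI (normG U) (normC (normI nK (normC nA)))
    have e : U ≤ U₀ ⊔ zpowers x := fun w hw => by
      obtain ⟨y, hy, wy⟩ := L.gal A (AU.trans hU) A1 (nA xU) (by rw [KY_eq hK]; exact K0) w
        (mem_inf.2 ⟨hU hw, nA hw⟩)
      rw [KY_eq hK] at wy
      have := mul_mem_sup' (mem_inf.2 ⟨mul_mem hw (zp_le xU hy), wy⟩) (inv_mem hy)
      rwa [mul_inv_cancel_right] at this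
    have nY : U ≤ N[⁅U₀, U₀⁆ ⊔ A] := normY (normD n0) nA
    by_contra h1
    refine nb _ inf_le_left K0 (⁅U₀, U₀⁆ ⊔ A) (fun h2 => h1 ?_) fun r R hr rp hR R1 =>
      ⟨syl_of_max hr (hR.le.trans inf_le_left) hR.pi fun Q q1 q2 q3 => hR.max q1
        (fun w hw => cw w (q2 hw) (PiN.ne_compl (q1.elt hw) rp)) q3, inf_le_right.trans ((derS e).trans
        (der_sup_le le_sup_left (by rw [abel_iff_der.1 (abel_zpowers x)]; exact bot_le)
          ((commS inf_le_left le_rfl).trans le_sup_right) (inf_le_left.trans nY) ((zp_le xU).trans nY)))⟩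
    have n1 : U₀ ≤ N[A] := inf_le_left.trans nA
    rw [← quo_bot_iff n1]
    by_contra h3
    refine (((sU.of_le inf_le_left).im _).der_lt h3).not_ge ?_
    rw [← im_der (φ := quo A) n1]
    exact (quo_le_iff n1 ((der_le _).trans n1)).2 h2
  refine ⟨E ⊓ C[A], K1, fun u hu u1 => ?_⟩
  by_cases uA : u ∈ A
  · have cu := L.cyc _ (zp_le (hU hu)) (zpowers_ne_bot.2 u1)
    rw [KY_eq hK] at cu
    have h1 : ⁅E, zpowers u⁆ ≤ E := commL (zp_le (nE hu))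
    have h2 := ((aE.pig hq).of_le h1).meet_C (pA.of_le (zp_le uA)) (comm_normr _ _) fun e =>
      u1 (mem_bot.1 (fE.le (mem_inf.2 ⟨hu, comm_eq_bot'.1 e (mem_zpowers u)⟩)))
    have h3 : E ⊓ C[A] ≤ K ⊓ C[zpowers u] := inf_le_inf EK (centS (zp_le uA))
    exact (cu.le_of_dvd h3 (inf_le_inf_right _ (h1.trans EK)) (((aE.of_le inf_le_left).cyc_card hq
      (cu.of_le h3)).trans (((aE.pig hq).of_le (inf_le_left.trans h1)).dvd h2))).trans
      (inf_le_left.trans (commS EK le_rfl))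
  · obtain ⟨z, hz, oz⟩ := cauchy (A := zpowers u) hp (by
      by_contra e; exact uA (UA (cw u hu (pig_zpowers.1 ((pin_compl hp).2 e)))))
    have zU := zp_le hu hz
    exact ((inf_le_left.trans EK).trans (comm_eq_of_fpf (nK zU)
      (oz ▸ ((pin_compl_cop hp).1 h).symm) (fp z zU oz))).trans (commS le_rfl (zp_le hz))

end Cfsg.Agent.SE
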