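import Cfsg.Agent.SE.C7b

/-!
# C7: the last case

`K = tc t D` is a group, `V ≠ 1` of order `v` is fixed point free on `K`, the involutions of `H` commute and `H` is doubly transitive on them.
`J = I ∪ 1` has order `2^v` (`frob_wielandt_card` for `K V`), `n = 2^v - 1`, `v ≥ 3` odd.

`Π` = permutation character of `G` on all involutions: generously transitive, so multiplicity free (S0717), rank `3 + 2m₀`,
`m₀ = (n-1)/(2v)`; `Φ = Π - π_Ω` has `1 + 2m₀` constituents `ζ`.  Counting gives `Σ_u Π(ug) = n Π(g) + n(|Ω| - π_Ω(g))`, `Σ_u π_Ω(ug) = n|Ω|`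
(`u` over all involutions), so `Σ_u Φ(ug) = n Φ(g)`, and (`sum_mul_apply_mul`, linear independence) `ζ(1) = |Ω| ζ(s)`, `a_ζ = ζ(s) > 0`,
`Σ a_ζ = n - 1`, `|Ω| ≡ 2 mod n`.  `K` is TI in `G`, `N(K) = K ⋊ (V × ⟨t⟩)` is Frobenius; by `exists_exceptional(_TI)` at most `m₀` irreducible
characters of `G` are nonconstant on `K#`.  A constant one has value `c_ζ = ⟨(1_K - λ)^G, ζ⟩ ≡ 2 a_ζ mod n`, `c_ζ ≠ 0`;
`‖(1_K - λ)^G‖² = 2v + 1` minus `1_G, χ₀ = π_Ω - 1` gives `Σ c² ≤ 2v - 1` over at least `m₀ + 1` characters.  Odd `c` forces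
`a = (n + c)/2`, at most two of these; so `Σ c² ≥ 4m₀ - 2 > 2v - 1` for `v ≥ 5`.  `v = 3`, `n = 7`: three `a`'s with sum 6, `a = 1: c² ≥ 4`,
`a = 2: c² ≥ 9`, `Σ c² ≤ 5`: false.
-/

set_option autoImplicit false
set_option linter.unusedVariables false
set_option linter.unusedSectionVars false

namespace Cfsg.Agent.SE
open Cfsg Cfsg.Agent.BG Cfsg.Agent.Inv Cfsg.Agent.Char Cfsg.Agent.Perm MulAction Subgroup

variable {G Ω : Type*} [Group G] [Finite G] [MulAction G Ω] {a : Ω} {t : G}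

namespace CS
variable (S : CS G Ω a t)
include S
local notation "𝓓" => St2 G a (t • a)
local notation "𝓥" => St2 G a (t • a) ⊓ centralizer (Singleton.singleton t : Set G)

theorem c7_card (hK : Abel (tc t 𝓓)) : #(tc t 𝓓) = nI (⊤ : Subgroup G) a := by
  rw [← S.kc_D S.ord S.ne a, ← kc_tc, kc, ← Nat.card_coe_set_eq]
  exact Nat.card_congr (Equiv.subtypeEquivRight fun k => ⟨fun h => ⟨h, inv_of_abel hK h⟩, fun h => h.1⟩)

theorem c7_sd (hV : Semireg (tc t 𝓓) 𝓥) : Sdprod (tc t 𝓓) 𝓥 𝓓 :=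
  ⟨le_antisymm (sup_le (tc_le t _) inf_le_left) fun g hg => by
    obtain ⟨v, hv, k, hk, rfl⟩ := decomp S.ord S.odd S.tD hg
    rw [sup_comm]; exact mul_mem_sup' hv (mem_tc hk), hV.inf_bot, inf_le_left.trans (tc_norm S.ord S.odd S.tD)⟩

theorem c7_pow (hK : Abel (tc t 𝓓)) (hV : Semireg (tc t 𝓓) 𝓥) (h1 : 𝓥 ≠ ⊥)
    (hc : ∀ s ∈ Iv (⊤ : Subgroup G) a, ∀ u ∈ Iv (⊤ : Subgroup G) a, s * u = u * s) :
    nI (⊤ : Subgroup G) a + 1 = 2 ^ #𝓥 := by
  have o : ∀ g : G, g • a = a → g * g = 1 → g ≠ 1 → g ∈ Iv (⊤ : Subgroup G) a := fun g h1 h2 h3 =>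
    ⟨trivial, orderOf_of_pow Nat.prime_two (by rwa [sq]) h3, h1⟩
  let J : Subgroup G :=
    { carrier := {g | g • a = a ∧ g * g = 1}
      one_mem' := ⟨one_smul _ _, one_mul _⟩
      mul_mem' := fun {x y} hx hy => ⟨by rw [mul_smul, hy.1, hx.1], by
        by_cases e : x = 1
        · rw [e, one_mul]; exact hy.2
        by_cases e' : y = 1
        · rw [e', mul_one]; exact hx.2
        rw [mul_assoc, ← mul_assoc y, ← hc x (o x hx.1 hx.2 e) y (o y hy.1 hy.2 e'), mul_assoc, hy.2, mul_one, hx.2]⟩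
      inv_mem' := fun {x} hx => ⟨by rw [inv_smul_eq_iff, hx.1], by rw [← mul_inv_rev, hx.2, inv_one]⟩ }
  have cJ : #J = nI (⊤ : Subgroup G) a + 1 := by
    rw [nI, ← Set.ncard_insert_of_notMem (a := 1) fun h => by simpa using h.2.1, ← Nat.card_coe_set_eq]
    exact Nat.card_congr (Equiv.subtypeEquivRight fun g => ⟨fun h => by
      by_cases e : g = 1
      · exact Or.inl e
      · exact Or.inr (o g h.1 h.2 e), fun h => h.elim (fun e => e ▸ one_mem J) fun h => ⟨h.2.2, mul_self_of_ord h.2.1⟩⟩)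
  have pJ : PiG {2} J := pig_of_elts fun g hg => pie_of_pow Nat.prime_two (by rw [sq, hg.2])
  obtain ⟨s, hs, hsV⟩ := S.exists_s
  rw [← cJ, frob_wielandt_card (M := J) ⟨S.c7_sd hV, S.K_ne, h1, hV⟩
    (le_N_iff.2 fun g hg x hx => ⟨by rw [mul_smul, mul_smul, (inv_mem hg).1, hx.1, hg.1],
      by rw [conj_mul, hx.2]; simp⟩) ((pig2_of_odd S.odd).coprime' pJ) pJ.sol (eq_bot_iff.2 fun u hu => ?_)]
  · congr 1
    rw [← hs.2.1, ← card_zpowers']
    congr 2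
    refine le_antisymm (fun u hu => ?_) (zp_le (mem_inf.2 ⟨⟨hs.2.2, mul_self_of_ord hs.2.1⟩, le_C1_iff.1 hsV⟩))
    obtain ⟨hu, hu'⟩ := mem_inf.1 hu
    by_cases e : u = 1
    · rw [e]; exact one_mem _
    obtain ⟨k, hk, rfl⟩ := S.K_trans hs (o u hu.1 hu.2 e)
    obtain ⟨y, hy, y1⟩ := exists_mem_ne_one h1
    have kK := mem_tc hk
    have m := mul_mem (inv_mem kK) (conj_mem ((S.c7_sd hV).norm hy) kK)
    have := S.F.K_free S.ord S.ne hs.2.1 hs.2.2 ⟨tc_le t _ m, inv_of_abel hK m⟩ (by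
      have e1 := mem_C1.1 (hsV (inv_mem hy))
      have e2 := mem_C.1 hu' y hy
      calc _ = k⁻¹ * (y * (k * s * k⁻¹)) * k * s⁻¹ * (y⁻¹ * s) := by group
        _ = _ := by rw [e1, e2]; group)
    rw [mem_bot.1 ((hV y hy y1).le (mem_inf.2 ⟨kK, mem_C1'.2 (by
      rw [inv_mul_eq_one, eq_mul_inv_iff_mul_eq] at this; exact this.symm)⟩))]
    simp
  · by_contra e
    obtain ⟨k, hk, k1⟩ := S.exists_K
    obtain ⟨hu, hu'⟩ := mem_inf.1 hu
    exact k1 (S.F.K_free S.ord S.ne (o u hu.1 hu.2 e).2.1 hu.1 hk (mem_C.1 hu' k (mem_tc hk)))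

theorem c7_ti (hK : Abel (tc t 𝓓)) (g : G) (hg : g ∉ 𝓓 ⊔ zpowers t) (k : G) (hk : k ∈ tc t 𝓓)
    (h : g * k * g⁻¹ ∈ tc t 𝓓) : k = 1 := by
  by_contra k1
  have f : ∀ c, (g * k * g⁻¹) • c = c → c = g • a ∨ c = g • t • a := fun c hc => by
    rw [← inv_smul_eq_iff, ← inv_smul_eq_iff, or_iff_not_imp_left]
    exact S.fix_K ⟨tc_le t _ hk, inv_of_abel hK hk⟩ k1 (by rwa [mul_smul, mul_smul, smul_eq_iff_eq_inv_smul] at hc)
  rcases f a (tc_le t _ h).1 with e | e <;> rcases f _ (tc_le t _ h).2 with e' | e'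
  · exact S.ne (e'.trans e.symm)
  · exact hg (mem_sup_left ⟨e.symm, e'.symm⟩)
  · have := mul_mem_sup' (A := 𝓓) (x := g * t) (mem_St2.2 ⟨by rw [mul_smul]; exact e.symm, by
      rw [mul_smul, smul_smul_of_ord S.ord]; exact e'.symm⟩) (inv_mem (mem_zpowers t))
    exact hg (by rwa [mul_inv_cancel_right] at this)
  · exact S.ne (e'.trans e.symm)

theorem c7_cent (hK : Abel (tc t 𝓓)) (hV : Semireg (tc t 𝓓) 𝓥) (k : G) (hk : k ∈ tc t 𝓓) (k1 : k ≠ 1) :
    (𝓓 ⊔ zpowers t) ⊓ C1[k] ≤ tc t 𝓓 := fun g hg => by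
  obtain ⟨hg, gk⟩ := mem_inf.1 hg
  obtain ⟨d, hd, z, hz, rfl⟩ := (mem_sup_l (zp_le S.tD)).1 hg
  obtain ⟨k', hk', v, hv, rfl⟩ := (S.c7_sd hV).prod.ex d hd
  have h1 : v * z ∈ C1[k] := by
    have := mul_mem (inv_mem (C_le_C1 hk (hK hk'))) gk
    rwa [mul_assoc, inv_mul_cancel_left] at this
  have h2 : ∀ y ∈ 𝓥, y ∈ C1[k] → y = 1 := fun y hy h => by
    by_contra e; exact k1 (mem_bot.1 ((hV y hy e).le (mem_inf.2 ⟨hk, C1_symm h⟩)))
  rcases mem_zp_two (by rw [sq, mul_self_of_ord S.ord]) hz with rfl | rfl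
  · rw [mul_one] at h1 ⊢; rw [h2 v hv h1, mul_one]; exact hk'
  · have := mul_mem h1 h1
    rw [mul_assoc, ← mul_assoc z, ← mem_C1.1 (mem_inf.1 hv).2, mul_assoc, mul_self_of_ord S.ord, mul_one] at this
    rw [eq_one_of_sq (odd_ord_of_mem S.odd (mem_inf.1 hv).1) (h2 _ (mul_mem hv hv) this), one_mul] at h1
    exact (k1 (eq_one_of_inv (odd_ord_of_mem S.odd (tc_le _ _ hk)) (inv_of_abel hK hk) (C1_symm h1))).elim

theorem c7_idx (hV : Semireg (tc t 𝓓) 𝓥) : (tc t 𝓓).relIndex (𝓓 ⊔ zpowers t) = 2 * #𝓥 := by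
  rw [← relIndex_mul_relIndex _ 𝓓 _ (tc_le t _) le_sup_left, (S.c7_sd hV).relIndex_l,
    (sdprod_sup (inf_bot_of_coprime (cop_t S.ord S.odd).symm) (zp_le S.tD)).relIndex_l, card_zpowers', S.ord, mul_comm]

theorem c7_C1 [Fintype Ω] {s : G} (hs : s ∈ Iv (⊤ : Subgroup G) a) (h : 𝓥 ≤ C1[s]) :
    #C1[s] ≤ #𝓥 * (Fintype.card Ω - 1) := by
  rw [← card_inf_mul_relIndex (St G (t • a))]
  have le := S.C1_le hs.2.1 hs.2.2
  refine Nat.mul_le_mul (BG.card_le fun g hg => ?_) ?_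
  · obtain ⟨v, hv, k, hk, rfl⟩ := decomp S.ord S.odd S.tD (g := g) ⟨le (mem_inf.1 hg).2, (mem_inf.1 hg).1⟩
    have := mul_mem (inv_mem (h hv)) (mem_inf.1 hg).2
    rw [inv_mul_cancel_left] at this
    rw [S.F.K_free S.ord S.ne hs.2.1 hs.2.2 hk (mem_C1.1 this), mul_one]; exact hv
  · change (stabilizer C1[s] (t • a)).index ≤ _
    rw [index_stabilizer, ← Nat.card_eq_fintype_card, ← Set.ncard_univ,
      ← Set.ncard_diff_singleton_of_mem (Set.mem_univ a)]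
    refine Set.ncard_le_ncard ?_
    rintro _ ⟨g, rfl⟩
    exact ⟨trivial, fun e => S.ne (smul_left_cancel (g : G) (Eq.trans e (le g.2).symm))⟩

end CS

theorem CS.c7 (S : CS G Ω a t) (hK : Abel (tc t (St2 G a (t • a))))
    (hV : Semireg (tc t (St2 G a (t • a))) (St2 G a (t • a) ⊓ C1[t]))
    (h1 : St2 G a (t • a) ⊓ C1[t] ≠ ⊥)
    (hc : ∀ s ∈ Iv (⊤ : Subgroup G) a, ∀ u ∈ Iv (⊤ : Subgroup G) a, s * u = u * s)
    (h2 : ∀ s ∈ Iv (⊤ : Subgroup G) a, ∀ u ∈ Iv (⊤ : Subgroup G) a, ∀ u' ∈ Iv (⊤ : Subgroup G) a,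
      u ≠ s → u' ≠ s → ∃ g ∈ C1[s], g * u * g⁻¹ = u') : False := by
  classical
  haveI := Fintype.ofFinite G
  haveI : IsPretransitive G Ω := ⟨S.tr⟩
  haveI : Finite Ω := Finite.of_surjective _ (surjective_smul G a)
  haveI := Fintype.ofFinite Ω
  have mv : ∀ c, ∃ g : G, ∀ s ∈ Iv (⊤ : Subgroup G) c, g * s * g⁻¹ ∈ Iv (⊤ : Subgroup G) a := fun c => by
    obtain ⟨g, e⟩ := S.tr c a
    exact ⟨g, fun s hs => ⟨trivial, ord_conj hs.2.1 g, e ▸ conj_smul_fix hs.2.2 g⟩⟩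
  have T : CI G Ω := ⟨S.toMC, fun c s hs u hu => by
    obtain ⟨g, hg⟩ := mv c
    have := hc _ (hg s hs) _ (hg u hu)
    rwa [conj_mul, conj_mul, mul_left_inj, mul_right_inj] at this⟩
  have gen : ∀ w w' : Ivs G, ∃ g : G, g • w = w' ∧ g • w' = w := fun w w' => by
    by_cases e : w = w'
    · exact ⟨1, by rw [one_smul, e], by rw [one_smul, e]⟩
    by_cases h : T.fx w = T.fx w'
    · obtain ⟨g, hg⟩ := mv (T.fx w)
      have i1 := hg _ (T.fx_iv.1 rfl)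
      have i2 := hg _ (T.fx_iv.1 h.symm)
      obtain ⟨k, hk, ek⟩ := S.K_trans i1 i2
      have ek' : k • g • w = g • w' := Subtype.ext ek
      have n : g • w ≠ g • w' := fun h => e (smul_left_cancel g h)
      obtain ⟨y, hy, ey⟩ := h2 _ i2 _ (Iv_conj i2 hk.1.1) _ i1
        (fun h => n (smul_left_cancel k (ek'.trans (Subtype.ext h : k • g • w' = g • w').symm)))
        fun h => n (Subtype.ext h)
      refine ⟨g⁻¹ * y * k * g, ?_, ?_⟩ <;> rw [mul_smul, mul_smul, mul_smul, inv_smul_eq_iff]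
      · rw [ek']; exact Ivs.smul_self.2 hy
      · exact Subtype.ext ey
    · obtain ⟨u, hu, -⟩ := T.uniq_swap h
      exact ⟨u.1, hu, by rw [← hu, smul_smul_of_ord u.2]⟩
  obtain ⟨s, hs, hsV⟩ := S.exists_s
  set s' : Ivs G := ⟨s, hs.2.1⟩ with hs'
  have fs : T.fx s' = a := T.fx_iv.2 hs
  obtain ⟨i0, n0, A, α, hA, sA, rA⟩ := T.consts S.tr2 s' gen
  rw [fs] at sA
  set n := nI (⊤ : Subgroup G) a with hn
  set K := tc t (St2 G a (t • a)) with hKd
  have cK : #K = n := S.c7_card hK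
  obtain ⟨m, E, θ, cm, cE, E1, gθ, nθ, cst, inn⟩ := ti_abel ((tc_le t _).trans le_sup_left)
    (sup_le (tc_norm S.ord S.odd S.tD) (zp_le (t_norm_tc t _))) (S.c7_ti hK) (S.c7_cent hK hV) hK S.K_ne
  rw [S.c7_idx hV] at cm nθ
  obtain ⟨γ, g1, -, g2⟩ := gθ.exists_mult_norm
  haveI := (nontrivial_iff_ne_bot K).2 S.K_ne
  have key : ∀ f : G → ℂ, IsGeneralizedCharacter G f → ∀ c, (∀ k ∈ K, k ≠ 1 → f k = c) →
      classInner θ f = c ∧ ∃ j : ℤ, f 1 = c + j * n := fun f hf c h => by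
    obtain ⟨i, j, e1, e2⟩ := exists_int_of_const (hf.restrict K) (c := c) fun k k1 =>
      h k k.2 fun e => k1 (Subtype.ext e)
    exact ⟨(gθ.classInner_comm hf).trans (inn f hf.isClassFunction c h), j, by rw [e1, ← cK]; exact e2⟩
  have π2 : ∀ k ∈ K, k ≠ 1 → pch G Ω k = 2 := fun k hk k1 => by
    rw [pch, Nat.card_coe_set_eq, show fixedBy Ω k = {a, t • a} from Set.ext fun c => ⟨fun h =>
      or_iff_not_imp_left.2 (S.fix_K ⟨tc_le t _ hk, inv_of_abel hK hk⟩ k1 h), fun h => h.elim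
        (fun e => e ▸ (tc_le t _ hk).1) fun e => e ▸ (tc_le t _ hk).2⟩, Set.ncard_pair S.ne.symm, Nat.cast_ofNat]
  obtain ⟨M, hM⟩ := (key _ (isCharacter_perm Ω).isGen 2 π2).2
  rw [show (Nat.card (fixedBy Ω (1 : G)) : ℂ) = Fintype.card Ω by simp] at hM
  refine c7_arith A E α γ (one_lt_card h1) (S.c7_pow hK hV h1 hc) (cm.trans cK) cE E1 (fun ζ h => (hA ζ h).2.2.1) sA
    (fun ζ h hE => ?_) ?_ ?_
  · obtain ⟨c, hc⟩ := cst ζ hE
    obtain ⟨e, j, e'⟩ := key _ ζ.2.isGen c hc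
    rw [(hA ζ h).2.2.2, hM, ← e, g1] at e'
    refine ⟨M * α ζ - j, Int.cast_injective (α := ℂ) ?_⟩
    push_cast; linear_combination -e'
  · have e1 : γ (irrOne G) = 1 := Int.cast_injective (α := ℂ) (by
      rw [← g1, Int.cast_one]; exact (key _ isGen_one 1 fun _ _ _ => rfl).1)
    have e2 : γ ⟨_, i0⟩ = 1 := Int.cast_injective (α := ℂ) (by
      rw [← g1, Int.cast_one]; exact (key _ i0.isGen 1 fun k hk k1 => by rw [π2 k hk k1]; norm_num).1)
    have e3 := Finset.sum_le_sum_of_subset_of_nonneg (f := fun ζ => γ ζ ^ 2)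
      (Finset.subset_univ (insert (irrOne G) (insert ⟨_, i0⟩ A))) fun _ _ _ => sq_nonneg _
    rw [Finset.sum_insert, Finset.sum_insert fun h => (hA _ h).2.1 rfl, e1, e2] at e3
    · have : ∑ ζ, γ ζ ^ 2 = 2 * #(St2 G a (t • a) ⊓ C1[t]) + 1 := Int.cast_injective (α := ℂ) (by
        rw [← g2, nθ]; push_cast; rfl)
      omega
    · rw [Finset.mem_insert, not_or]
      exact ⟨fun e => n0 (congrArg Subtype.val e).symm, fun h => (hA _ h).1 rfl⟩
  · obtain ⟨k, hk, k1⟩ := S.exists_K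
    have fk : T.fx (k • s') = a := by rw [T.fx_smul, fs]; exact hk.1.1
    let Q := orbitRel.Quotient (stabilizer G s') (Ivs G)
    haveI := Fintype.ofFinite Q
    have fq : ∀ w w' : Ivs G, (⟦w⟧ : Q) = ⟦w'⟧ → T.fx w' = a → T.fx w = a := fun w w' e h => by
      obtain ⟨g, rfl⟩ := Quotient.exact e
      exact (T.fx_smul g w').trans (h ▸ S.C1_le hs.2.1 hs.2.2 (Ivs.smul_self.1 g.2))
    have b1 := Finset.card_le_mul_card_image_of_maps_to (f := fun w : Ivs G => (⟦w⟧ : Q))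
      (s := Finset.univ.filter fun w => ¬ T.fx w = a) (t := Finset.univ \ {⟦s'⟧, ⟦k • s'⟧}) (fun w hw => by
        simp only [Finset.mem_sdiff, Finset.mem_univ, Finset.mem_insert, Finset.mem_singleton, not_or, true_and]
        exact ⟨fun e => (Finset.mem_filter.1 hw).2 (fq _ _ e fs), fun e => (Finset.mem_filter.1 hw).2 (fq _ _ e fk)⟩)
      (Fintype.card (stabilizer G s')) fun q _ => by
        refine (Finset.card_le_card (t := Finset.univ.image fun g : stabilizer G s' => g • q.out) fun w hw => ?_).trans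
          Finset.card_image_le
        obtain ⟨g, e⟩ := Quotient.exact ((Finset.mem_filter.1 hw).2.trans q.out_eq.symm)
        exact Finset.mem_image.2 ⟨g, Finset.mem_univ _, e⟩
    rw [Finset.card_univ_diff, Finset.card_pair fun e => ?_, ← Nat.card_eq_fintype_card (α := Q), ← rA,
      Nat.add_sub_cancel, ← Nat.card_eq_fintype_card,
      show stabilizer G s' = C1[s] from Subgroup.ext fun g => Ivs.smul_self] at b1
    · have b2 := Finset.card_filter_add_card_filter_not (s := Finset.univ) fun w => T.fx w = a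
      rw [T.card_fib a, Finset.card_univ, show Fintype.card (Ivs G) = n * Fintype.card Ω by
        exact_mod_cast T.card_Ivs a] at b2
      have b3 := b1.trans (Nat.mul_le_mul_right _ (S.c7_C1 hs hsV))
      haveI := S.nt
      obtain ⟨r, hr⟩ := Nat.exists_eq_add_of_lt (Fintype.one_lt_card (α := Ω))
      rw [hr] at b2 b3
      refine Nat.le_of_mul_le_mul_left (?_ : (1 + r) * _ ≤ (1 + r) * _) (by omega)
      rw [Nat.add_sub_cancel] at b3
      nlinarith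
    · obtain ⟨g, e⟩ := Quotient.exact e.symm
      exact k1 (S.F.K_free S.ord S.ne hs.2.1 hs.2.2 hk (mem_C1.1 (Ivs.smul_self.1 (Eq.trans e.symm g.2))))

end Cfsg.Agent.SE
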