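import Cfsg.Agent.Char.TI
import Cfsg.Agent.Char.Norm
import Cfsg.Agent.Char.Galois
import Cfsg.Agent.Char.Brauer

/-!
# CH: a permutation group with a regular abelian TI subgroup

`K` is abelian, regular on `L / S`, TI with normalizer `K U`, `U ≤ S`.  The constituents of the permutation character
`π` partition `Irr K`.  If the characters of `K` that are nontrivial on `K₁` are moved by `U#`, and `K₁` lies in
no proper normal subgroup, then `L` is doubly transitive or the kernel of the action has order `|L : K U|`.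
-/

set_option autoImplicit false
set_option linter.unusedSectionVars false

namespace Cfsg.Agent.SE
open Cfsg Cfsg.Agent.Char MulAction Subgroup
open scoped ComplexConjugate

variable {L : Type*} [Group L] {K U S K₁ : Subgroup L}

/-- the hypotheses -/
structure CH (K U S K₁ : Subgroup L) : Prop where
  comm : ∀ a ∈ K, ∀ b ∈ K, a * b = b * a
  norm : ∀ u ∈ U, ∀ k ∈ K, u * k * u⁻¹ ∈ K
  le : U ≤ S
  free : ∀ k ∈ K, k ∈ S → k = 1
  prod : ∀ g, ∃ k ∈ K, ∃ s ∈ S, g = k * s
  ti : ∀ g, ∀ k ∈ K, k ≠ 1 → g * k * g⁻¹ ∈ K → ∃ k' ∈ K, ∃ u ∈ U, g = k' * u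
  le1 : ∀ u ∈ U, u ≠ 1 → K₁ ≤ ⁅K, zpowers u⁆
  ns : ∀ N : Subgroup L, N.Normal → K₁ ≤ N → N = ⊤

namespace CH
variable (h : CH K U S K₁)
include h

/-- conjugation by an element of `U` -/
def cu (u : U) : K ≃* K where
  toFun k := ⟨u * k * u⁻¹, h.norm u u.2 k k.2⟩
  invFun k := ⟨(u⁻¹ : U) * k * (u⁻¹ : U)⁻¹, h.norm _ (u⁻¹).2 k k.2⟩
  left_inv k := Subtype.ext (by simp [mul_assoc])
  right_inv k := Subtype.ext (by simp [mul_assoc])
  map_mul' a b := Subtype.ext (by simp [mul_assoc])

theorem cu_coe (u : U) (k : K) : (h.cu u k : L) = u * k * (u : L)⁻¹ := rfl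

theorem comm' (a b : K) : a * b = b * a := Subtype.ext (h.comm a a.2 b b.2)

theorem fix_eq {k : L} (hk : k ∈ K) (k1 : k ≠ 1) : fixedBy (L ⧸ S) k = ∅ := by
  refine Set.eq_empty_of_forall_notMem fun x => QuotientGroup.induction_on x fun g hg => k1 ?_
  obtain ⟨k', hk', s, hs, rfl⟩ := h.prod g
  have := mul_mem (mul_mem hs (inv_mem (QuotientGroup.eq.1 hg))) (inv_mem hs)
  refine h.free k hk ?_
  rwa [show s * ((k • (k' * s))⁻¹ * (k' * s))⁻¹ * s⁻¹ = k'⁻¹ * (k * k') by rw [smul_eq_mul]; group,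
    h.comm k hk k' hk', inv_mul_cancel_left] at this

theorem card_quot : Nat.card (L ⧸ S) = Nat.card K :=
  (Nat.card_eq_of_bijective (fun k : K => ((k : L) : L ⧸ S)) ⟨fun a b e => Subtype.ext (by
    have := h.free _ (mul_mem (inv_mem a.2) b.2) (QuotientGroup.eq.1 e)
    exact inv_mul_eq_one.1 this), fun x => QuotientGroup.induction_on x fun g => by
      obtain ⟨k, hk, s, hs, rfl⟩ := h.prod g
      exact ⟨⟨k, hk⟩, QuotientGroup.eq.2 (by simpa using hs)⟩⟩).symm

variable [Fintype L] [Fintype K] [Fintype U]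

theorem ind_apply {φ : K → ℂ} (h1 : φ 1 = 0) (k : K) : indFun K φ k = ∑ u : U, φ (h.cu u k) := by
  by_cases k1 : k = 1
  · rw [k1, OneMemClass.coe_one, indFun_one, h1]; simp [h1]
  rw [indFun_apply', ← Fintype.sum_of_injective (fun p : K × U => (p.1 : L) * p.2) ?_
    (fun p => φ (h.cu p.2 k)) _ ?_ ?_, Fintype.sum_prod_type]
  · dsimp only
    rw [Finset.sum_const, nsmul_eq_mul, Finset.card_univ, ← Nat.card_eq_fintype_card,
      inv_mul_cancel_left₀ (card_ne_zero K)]
  · rintro ⟨a, u⟩ ⟨b, v⟩ (e : (a : L) * u = b * v)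
    have e1 : (b : L)⁻¹ * a = v * (u : L)⁻¹ := by rw [inv_mul_eq_iff_eq_mul, ← mul_assoc, ← e]; simp
    have e2 := h.free _ (mul_mem (inv_mem b.2) a.2) (e1 ▸ h.le (mul_mem v.2 (inv_mem u.2)))
    rw [e2] at e1
    exact Prod.ext (Subtype.ext (inv_mul_eq_one.1 e2).symm) (Subtype.ext (mul_inv_eq_one.1 e1.symm).symm)
  · intro g hg
    refine extendByZero_of_not_mem _ _ fun m => hg ?_
    obtain ⟨k', hk', u, hu, rfl⟩ := h.ti g k k.2 (fun e => k1 (Subtype.ext e)) m
    exact ⟨(⟨k', hk'⟩, ⟨u, hu⟩), rfl⟩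
  · rintro ⟨a, u⟩
    rw [show (a : L) * u * k * ((a : L) * u)⁻¹ = a * h.cu u k * (a : L)⁻¹ by rw [cu_coe]; group,
      h.comm _ a.2 _ (h.cu u k).2, mul_inv_cancel_right, extendByZero_coe]

omit h in
theorem ind_off {φ : K → ℂ} (h1 : φ 1 = 0) {g : L} (hg : ¬ (g ≠ 1 ∧ ∃ x, x⁻¹ * g * x ∈ K)) :
    indFun K φ g = 0 := by
  by_cases g1 : g = 1
  · rw [g1, indFun_one, h1, mul_zero]
  · exact indFun_eq_zero_of_not_conj _ _ fun x hx => hg ⟨g1, x, hx⟩

open Classical in
theorem card_A : Nat.card U * Nat.card K *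
    (Finset.univ.filter fun g : L => g ≠ 1 ∧ ∃ x, x⁻¹ * g * x ∈ K).card + Nat.card L = Nat.card K * Nat.card L := by
  have e := classInner_indFun_left K (fun k : K => if k = 1 then (0 : ℂ) else 1) (isClassFunction_const (G := L) 1)
  rw [classInner_one_right, classInner_one_right, Finset.sum_congr rfl
    (g := fun g : L => if g ≠ 1 ∧ ∃ x, x⁻¹ * g * x ∈ K then (Nat.card U : ℂ) else 0) fun g _ => by
      split_ifs with hg
      · obtain ⟨g1, x, hx⟩ := hg
        rw [← (isClassFunction_indFun K _).conj' g x, h.ind_apply (if_pos rfl) ⟨_, hx⟩,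
          Finset.sum_congr rfl (g := fun _ => 1) fun u _ => if_neg fun e => g1 (by
            simpa [mul_assoc, mul_eq_one_iff_eq_inv] using congrArg Subtype.val ((h.cu u).map_eq_one_iff.1 e))]
        simp
      · exact ind_off (if_pos rfl) hg, ← Finset.sum_filter, Finset.sum_const, nsmul_eq_mul,
    show ∑ k : K, (if k = 1 then (0 : ℂ) else 1) = Nat.card K - 1 by
      rw [eq_sub_iff_add_eq, Nat.card_eq_fintype_card, Fintype.card, Finset.card_eq_sum_ones, Nat.cast_sum,
        ← Finset.sum_ite_eq_of_mem' Finset.univ (1 : K) (fun _ => (1 : ℂ)) (Finset.mem_univ _),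
        ← Finset.sum_add_distrib]
      exact Finset.sum_congr rfl fun k _ => by split_ifs <;> simp] at e
  have h1 := card_ne_zero K
  have h2 := card_ne_zero L
  field_simp at e
  exact_mod_cast (by linear_combination e : (Nat.card U : ℂ) * Nat.card K *
    (Finset.univ.filter fun g : L => g ≠ 1 ∧ ∃ x, x⁻¹ * g * x ∈ K).card + Nat.card L = Nat.card K * Nat.card L)

/-- the permutation character -/
noncomputable abbrev pc (S : Subgroup L) : L → ℂ := fun g => (Nat.card (fixedBy (L ⧸ S) g) : ℂ)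

/-- restriction to `K` -/
abbrev rs (K : Subgroup L) (χ : L → ℂ) : K → ℂ := fun k => χ k

theorem pc_one : pc S 1 = Nat.card K := by simp [pc, h.card_quot]

theorem inner_pc (l : IrrCharacter K) : classInner (rs K (pc S)) l = 1 := by
  classical
  have : rs K (pc S) = fun k => if k = 1 then (Nat.card K : ℂ) else 0 := funext fun k => by
    split_ifs with e
    · rw [e]; exact h.pc_one
    · simp [rs, pc, h.fix_eq k.2 fun e' => e (Subtype.ext e')]
  rw [this, ← conj_classInner, classInner_regular, l.2.one_eq_one_of_comm h.comm', map_one]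

/-- the constituent of the permutation character over `l` -/
theorem exists_over (l : IrrCharacter K) : ∃ ψ : IrrCharacter L, classInner (pc S) ψ = 1 ∧
    classInner (rs K ψ) l = 1 ∧
    ∀ χ : IrrCharacter L, classInner (pc S) χ ≠ 0 → χ ≠ ψ → classInner (rs K χ) l = 0 := by
  classical
  obtain ⟨m, h1, h2⟩ := (isCharacter_perm (G := L) (L ⧸ S)).exists_mult
  choose a ha using fun χ : IrrCharacter L => (χ.2.isCharacter.restrict K).classInner_nat l.2.isCharacter
  have e := h.inner_pc l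
  rw [show rs K (pc S) = ∑ χ : IrrCharacter L, (m χ : ℂ) • rs K χ from funext fun k =>
    (congrFun h2 k).trans (by simp [rs]), classInner_sum_left] at e
  simp only [classInner_smul_left, rs, ha] at e
  have e' : ∑ χ, m χ * a χ = 1 := by exact_mod_cast e
  obtain ⟨ψ, -, hψ⟩ := Finset.exists_ne_zero_of_sum_ne_zero (e' ▸ one_ne_zero)
  rw [← Finset.add_sum_erase _ _ (Finset.mem_univ ψ)] at e'
  have e1 : m ψ * a ψ = 1 := by omega
  have e2 := Finset.sum_eq_zero_iff.1 (show ∑ χ ∈ Finset.univ.erase ψ, m χ * a χ = 0 by omega)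
  refine ⟨ψ, by rw [h1, Nat.eq_one_of_mul_eq_one_right e1, Nat.cast_one],
    by rw [ha, Nat.eq_one_of_mul_eq_one_left e1, Nat.cast_one], fun χ n1 n2 => ?_⟩
  rw [ha, (mul_eq_zero.1 (e2 χ (by simpa using n2))).resolve_left fun e => n1 (by rw [h1, e, Nat.cast_zero]),
    Nat.cast_zero]

/-- the constituent over `l` -/
noncomputable def ov (l : IrrCharacter K) : IrrCharacter L := (h.exists_over l).choose

theorem ov_mult (l : IrrCharacter K) : classInner (pc S) (h.ov l) = 1 := (h.exists_over l).choose_spec.1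

open Classical in
theorem inner_rs {χ : IrrCharacter L} (hχ : classInner (pc S) χ ≠ 0) (l : IrrCharacter K) :
    classInner (rs K χ) l = if h.ov l = χ then 1 else 0 := by
  split_ifs with e
  · exact e ▸ (h.exists_over l).choose_spec.2.1
  · exact (h.exists_over l).choose_spec.2.2 χ hχ (Ne.symm e)

open Classical in
theorem inner_rs' {χ : IrrCharacter L} (hχ : classInner (pc S) χ ≠ 0) (l : IrrCharacter K) :
    classInner (l : K → ℂ) (rs K χ) = if h.ov l = χ then 1 else 0 := by
  rw [← conj_classInner, h.inner_rs hχ]; split_ifs <;> simp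

open Classical in
theorem rs_eq {χ : IrrCharacter L} (hχ : classInner (pc S) χ ≠ 0) :
    rs K χ = ∑ l ∈ Finset.univ.filter fun l => h.ov l = χ, (l : K → ℂ) := by
  refine ((χ.2.isClassFunction.restrict K).eq_sum_irr).trans ?_
  rw [Finset.sum_filter]
  refine Finset.sum_congr rfl fun l _ => ?_
  rw [show (fun x : K => (χ : L → ℂ) x) = rs K χ from rfl, h.inner_rs hχ]; split_ifs <;> simp

/-- the conjugate of a character of `K` -/
def ac (u : U) (l : IrrCharacter K) : IrrCharacter K := ⟨fun k => (l : K → ℂ) (h.cu u k), l.2.comp_equiv _⟩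

theorem ov_ac (u : U) (l : IrrCharacter K) : h.ov (h.ac u l) = h.ov l := by
  have n : classInner (pc S) (h.ov l) ≠ 0 := by rw [h.ov_mult]; exact one_ne_zero
  have e := h.inner_rs n l
  rw [if_pos rfl, ← classInner_comp_equiv (h.cu u).toEquiv] at e
  have e' := h.inner_rs n (h.ac u l)
  rw [show rs K (h.ov l) = fun k => rs K (h.ov l) ((h.cu u).toEquiv k) from funext fun k =>
    ((h.ov l).2.isClassFunction k u).symm] at e'
  by_contra ne
  rw [if_neg ne] at e'
  exact one_ne_zero (e.symm.trans e')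

theorem ac_ne {l : IrrCharacter K} (hl : ∃ k : K, (k : L) ∈ K₁ ∧ (l : K → ℂ) k ≠ 1) {u : U} (u1 : u ≠ 1) :
    h.ac u l ≠ l := fun e => by
  obtain ⟨k, hk, n⟩ := hl
  obtain ⟨f, hf⟩ := l.2.exists_hom_of_comm h.comm'
  have e1 : ∀ k, f (h.cu u k) = f k := fun k => Units.ext (by
    simpa [ac, hf] using congrFun (congrArg Subtype.val e) k)
  have e2 : ∀ (m : ℕ) k, f (h.cu (u ^ m) k) = f k := by
    intro m
    induction m with
    | zero => exact fun k => congrArg f (Subtype.ext (by simp [cu_coe]))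
    | succ m ih =>
      intro k
      rw [← ih k, ← e1 (h.cu (u ^ m) k)]
      exact congrArg f (Subtype.ext (by simp [cu_coe, pow_succ', mul_assoc]))
  have : ⁅K, zpowers (u : L)⁆ ≤ f.ker.map K.subtype := commutator_le.2 fun a ha b hb => by
    obtain ⟨m, rfl⟩ := (mem_powers_iff_mem_zpowers.2 hb : ∃ m : ℕ, (u : L) ^ m = b)
    refine ⟨⟨a, ha⟩ * (h.cu (u ^ m) ⟨a, ha⟩)⁻¹, ?_, by simp [cu_coe, commutatorElement_def, mul_assoc]⟩
    rw [SetLike.mem_coe, MonoidHom.mem_ker, map_mul, map_inv, e2, mul_inv_cancel]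
  obtain ⟨k', h1, h2⟩ := this (h.le1 u u.2 (fun e => u1 (Subtype.ext e)) hk)
  rw [hf, ← Subtype.ext (show (k' : L) = k from h2)] at n
  exact n (by simp [MonoidHom.mem_ker.1 h1])

theorem exists_reg {χ : IrrCharacter L} (hχ : classInner (pc S) χ ≠ 0) (h1 : χ ≠ irrOne L)
    (hK : K₁ ≤ K) : ∃ l : IrrCharacter K, (∃ k : K, (k : L) ∈ K₁ ∧ (l : K → ℂ) k ≠ 1) ∧ h.ov l = χ := by
  classical
  by_contra n
  have := h.ns _ χ.2.isClassFunction.charKer_normal fun k hk => χ.2.isCharacter.mem_charKer.2 (by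
    have e := h.rs_eq hχ
    refine (congrFun e ⟨k, hK hk⟩).trans (Eq.trans ?_ (congrFun e 1).symm)
    rw [Finset.sum_apply, Finset.sum_apply]
    refine Finset.sum_congr rfl fun l hl => ?_
    rw [l.2.one_eq_one_of_comm h.comm']
    by_contra e
    exact n ⟨l, ⟨⟨k, hK hk⟩, hk, e⟩, (Finset.mem_filter.1 hl).2⟩)
  exact h1 (Subtype.ext (χ.2.eq_one_of_forall_eq fun g => χ.2.isCharacter.mem_charKer.1 (this ▸ mem_top g)))

theorem pair {l l' : IrrCharacter K} (hl : ∃ k : K, (k : L) ∈ K₁ ∧ (l : K → ℂ) k ≠ 1)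
    (hl' : ∃ k : K, (k : L) ∈ K₁ ∧ (l' : K → ℂ) k ≠ 1) (n : h.ov l ≠ h.ov l') :
    indFun K (l - l' : K → ℂ) = h.ov l - h.ov l' ∧ (h.ov l : L → ℂ) 1 = Nat.card U := by
  classical
  have n1 : classInner (pc S) (h.ov l) ≠ 0 := by rw [h.ov_mult]; exact one_ne_zero
  have n2 : classInner (pc S) (h.ov l') ≠ 0 := by rw [h.ov_mult]; exact one_ne_zero
  have r : rs K (indFun K (l - l' : K → ℂ)) = ∑ u : U, ((h.ac u l : K → ℂ) - h.ac u l') := funext fun k => by
    rw [Finset.sum_apply]
    exact h.ind_apply (by simp [l.2.one_eq_one_of_comm h.comm', l'.2.one_eq_one_of_comm h.comm']) k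
  have a : ∀ {l : IrrCharacter K}, (∃ k : K, (k : L) ∈ K₁ ∧ (l : K → ℂ) k ≠ 1) →
      ∑ u : U, classInner (l : K → ℂ) (h.ac u l) = 1 := fun {l} hl => by
    rw [Finset.sum_eq_single 1 (fun u _ u1 => by rw [irr_classInner, if_neg (h.ac_ne hl u1).symm]) (by simp),
      irr_classInner, if_pos (show l = h.ac 1 l from
        Subtype.ext (funext fun k => congrArg l.1 (Subtype.ext (by simp [cu_coe]))))]
  have b : ∀ {l l' : IrrCharacter K}, h.ov l ≠ h.ov l' → ∑ u : U, classInner (l : K → ℂ) (h.ac u l') = 0 :=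
    fun n => Finset.sum_eq_zero fun u _ => by rw [irr_classInner, if_neg fun e => n (by rw [e, h.ov_ac])]
  have c1 : classInner (indFun K (l - l' : K → ℂ)) (indFun K (l - l' : K → ℂ)) = 2 := by
    rw [classInner_indFun_left K _ (isClassFunction_indFun K _), show (fun k : K => indFun K (l - l' : K → ℂ) k) = _
      from r, classInner_sum_right]
    simp only [classInner_sub_left, classInner_sub_right, Finset.sum_sub_distrib, a hl, a hl', b n, b n.symm]
    norm_num
  have c2 : classInner (indFun K (l - l' : K → ℂ)) (h.ov l - h.ov l' : L → ℂ) = 2 := by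
    rw [classInner_sub_right, classInner_indFun_left K _ (h.ov l).2.isClassFunction,
      classInner_indFun_left K _ (h.ov l').2.isClassFunction, classInner_sub_left, classInner_sub_left,
      h.inner_rs' n1, h.inner_rs' n1, h.inner_rs' n2, h.inner_rs' n2, if_pos rfl, if_pos rfl, if_neg n, if_neg n.symm]
    norm_num
  have e : indFun K (l - l' : K → ℂ) = h.ov l - h.ov l' := sub_eq_zero.1 (nrm_eq_zero.1 (by
    rw [nrm_sub, nrm_sub_of_orth ((irr_classInner _ _).trans (if_neg n)), nrm_def, c1, c2, (h.ov l).2.nrm_eq,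
      (h.ov l').2.nrm_eq]; norm_num))
  refine ⟨e, ?_⟩
  have d := congrArg (classInner · (rs K (h.ov l))) r
  beta_reduce at d
  rw [e, show rs K (h.ov l - h.ov l' : L → ℂ) = rs K (h.ov l) - rs K (h.ov l') from rfl] at d
  rw [classInner_sub_left, classInner_sum_left] at d
  nth_rw 1 [h.rs_eq n1] at d
  rw [h.rs_eq n2, classInner_sum_left, classInner_sum_left, Finset.sum_congr rfl fun l hl => by
    rw [h.inner_rs' n1, if_pos (Finset.mem_filter.1 hl).2],
    Finset.sum_eq_zero (s := Finset.univ.filter fun l => h.ov l = h.ov l') fun l hl => by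
    rw [h.inner_rs' n1, if_neg ((Finset.mem_filter.1 hl).2 ▸ n.symm)]] at d
  simp only [classInner_sub_left, h.inner_rs' n1, h.ov_ac, if_neg n.symm, if_pos] at d
  have e1 := congrFun (h.rs_eq n1) 1
  rw [Finset.sum_apply, Finset.sum_congr rfl fun l _ => l.2.one_eq_one_of_comm h.comm'] at e1
  exact e1.trans (by simpa using d)

omit h in
/-- the counting argument -/
theorem count {ι : Type*} [Fintype ι] (f : ι → ℤ) (A : ι → Prop) [DecidablePred A] {n m v : ℤ} (hm : 0 < m)
    (hv : 0 < v) (hn : n = 1 + m * v) (h0 : ∀ g, A g → f g = 0) (h1 : ∀ g, ¬ A g → 1 ≤ f g) (h2 : ∀ g, f g ≤ n)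
    (s1 : ∑ g, f g = Fintype.card ι) (s2 : ∑ g, f g ^ 2 = (1 + m) * Fintype.card ι)
    (hA : v * n * (Finset.univ.filter A).card + Fintype.card ι = n * Fintype.card ι) :
    ((Finset.univ.filter fun g => f g = n).card : ℤ) * (n * v) = Fintype.card ι := by
  have a : n * (Finset.univ.filter A).card = m * Fintype.card ι :=
    mul_left_cancel₀ hv.ne' (by rw [hn] at hA ⊢; linear_combination hA)
  have b : ∑ g, (if A g then 0 else (f g - 1) * (n - f g)) = 0 := by
    rw [Finset.sum_congr rfl (g := fun g => (n + 1) * f g - f g ^ 2 - n + if A g then n else 0) fun g _ => by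
      split_ifs with e
      · rw [h0 g e]; ring
      · ring, Finset.sum_add_distrib, Finset.sum_sub_distrib, Finset.sum_sub_distrib, ← Finset.mul_sum, s1, s2,
      ← Finset.sum_filter, Finset.sum_const, Finset.sum_const, nsmul_eq_mul, nsmul_eq_mul, Finset.card_univ]
    linear_combination a
  have c := (Finset.sum_eq_zero_iff_of_nonneg fun g _ => by
    split_ifs with e
    · exact le_rfl
    · exact mul_nonneg (sub_nonneg.2 (h1 g e)) (sub_nonneg.2 (h2 g))).1 b
  have p := mul_pos hm hv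
  rw [Finset.sum_congr rfl (g := fun g => 1 + (if f g = n then n - 1 else 0) - if A g then 1 else 0) fun g hg => by
    have := c g hg
    by_cases e : A g
    · rw [if_pos e, h0 g e, if_neg (by omega)]; ring
    · rw [if_neg e] at this ⊢
      rcases mul_eq_zero.1 this with e' | e'
      · rw [if_neg (by omega)]; omega
      · rw [if_pos (by omega)]; omega, Finset.sum_sub_distrib, Finset.sum_add_distrib, ← Finset.sum_filter,
    ← Finset.sum_filter, Finset.sum_const, Finset.sum_const, Finset.sum_const, nsmul_eq_mul, nsmul_eq_mul,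
    nsmul_eq_mul, Finset.card_univ] at s1
  exact mul_left_cancel₀ hm.ne' (by rw [hn] at s1 a ⊢; linear_combination (1 + m * v) * s1 + a)

omit [Fintype L] [Fintype K] [Fintype U] in
theorem main [Finite L] (hK : K₁ ≤ K) : (∀ g g', g ∉ S → g' ∉ S → ∃ s ∈ S, g'⁻¹ * s * g ∈ S) ∨
    Nat.card S.normalCore * (Nat.card K * Nat.card U) = Nat.card L := by
  classical
  let := Fintype.ofFinite L
  let := Fintype.ofFinite K
  let := Fintype.ofFinite U
  let := Fintype.ofFinite S
  obtain ⟨C, hC⟩ : ∃ C : Finset (IrrCharacter L), ∀ χ, χ ∈ C ↔ classInner (pc S) χ ≠ 0 ∧ χ ≠ irrOne L :=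
    ⟨Finset.univ.filter fun χ => classInner (pc S) χ ≠ 0 ∧ χ ≠ irrOne L, by simp⟩
  have hc : IsCharacter L (pc S) := isCharacter_perm _
  have m1 : classInner (pc S) (irrOne L) = 1 := by
    rw [irrOne_coe, classInner_perm_one, Nat.card_eq_one_iff_unique.2 ⟨(pretransitive_iff_subsingleton_quotient L _).1
      inferInstance, ⟨Quotient.mk _ ((1 : L) : L ⧸ S)⟩⟩, Nat.cast_one]
  have r := fun χ hχ => h.exists_reg ((hC χ).1 hχ).1 ((hC χ).1 hχ).2 hK
  have m2 : ∀ χ ∈ C, classInner (pc S) χ = 1 := fun χ hχ => by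
    obtain ⟨l, -, rfl⟩ := r χ hχ
    exact h.ov_mult l
  have e : pc S = irrOne L + ∑ χ ∈ C, (χ : L → ℂ) := by
    refine hc.isClassFunction.eq_sum_irr.trans ?_
    rw [← Finset.sum_subset (Finset.subset_univ (insert (irrOne L) C)) fun χ _ n => by
      rw [Finset.mem_insert, not_or, hC, not_and_or, not_not, not_not] at n
      rw [n.2.resolve_right n.1, zero_smul], Finset.sum_insert fun n => ((hC _).1 n).2 rfl, m1, one_smul,
      Finset.sum_congr rfl fun χ hχ => by rw [m2 χ hχ, one_smul]]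
  have e2 : classInner (pc S) (pc S) = 1 + C.card := by
    nth_rw 2 [e]
    rw [classInner_add_right, m1, classInner_sum_right, Finset.sum_congr rfl m2]; simp
  rcases le_or_gt C.card 1 with hm | hm
  · refine Or.inl fun g g' hg hg' => ?_
    have e3 : classInner (pc S) (pc S) = Nat.card (Quotient (orbitRel S (L ⧸ S))) := by
      rw [← classInner_perm_one, ← conj_classInner]
      nth_rw 1 [show pc S = _ from (indFun_one_eq_perm S).symm]
      rw [classInner_indFun_left S _ hc.isClassFunction, conj_classInner]; rfl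
    have e4 : Nat.card (Quotient (orbitRel S (L ⧸ S))) = 1 + C.card := by exact_mod_cast e3.symm.trans e2
    have ne : ∀ g ∉ S, Quotient.mk (orbitRel S (L ⧸ S)) (g : L ⧸ S) ≠ Quotient.mk _ ((1 : L) : L ⧸ S) :=
      fun g hg e => by
        obtain ⟨s, hs⟩ := Quotient.exact e
        exact hg (by simpa using mul_mem s.2 (QuotientGroup.eq.1 hs))
    let := Fintype.ofFinite (Quotient (orbitRel S (L ⧸ S)))
    rw [Nat.card_eq_fintype_card] at e4
    by_contra n
    refine absurd (Fintype.two_lt_card_iff.2 ⟨_, _, _, fun e => n ?_, ne g' hg', ne g hg⟩) (by omega)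
    obtain ⟨s, hs⟩ := Quotient.exact e
    exact ⟨s, s.2, by simpa [mul_assoc] using inv_mem (QuotientGroup.eq.1 hs)⟩
  refine Or.inr ?_
  have pr : ∀ χ ∈ C, ∀ ψ ∈ C, χ ≠ ψ → (χ : L → ℂ) 1 = Nat.card U ∧
      ∀ g, ¬ (g ≠ 1 ∧ ∃ x, x⁻¹ * g * x ∈ K) → (χ : L → ℂ) g = (ψ : L → ℂ) g := fun χ hχ ψ hψ n => by
    obtain ⟨l, hl, rfl⟩ := r χ hχ
    obtain ⟨l', hl', rfl⟩ := r ψ hψ
    refine ⟨(h.pair hl hl' n).2, fun g hg => sub_eq_zero.1 ((congrFun (h.pair hl hl' n).1 g).symm.trans
      (ind_off (by simp [l.2.one_eq_one_of_comm h.comm', l'.2.one_eq_one_of_comm h.comm']) hg))⟩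
  obtain ⟨ψ, hψ, ψ', hψ', n⟩ := Finset.one_lt_card.1 hm
  have off : ∀ g, ¬ (g ≠ 1 ∧ ∃ x, x⁻¹ * g * x ∈ K) → pc S g = 1 + C.card * (ψ : L → ℂ) g := fun g hg => by
    rw [e, Pi.add_apply, Finset.sum_apply, Finset.sum_congr rfl (g := fun _ => (ψ : L → ℂ) g) fun χ hχ => by
      by_cases e' : χ = ψ
      · rw [e']
      · exact (pr χ hχ ψ hψ e').2 g hg, Finset.sum_const, nsmul_eq_mul, irrOne_coe]
  have n1 := off 1 (by simp)
  rw [h.pc_one, (pr ψ hψ ψ' hψ' n).1] at n1
  have le : ∀ g : L, Nat.card (fixedBy (L ⧸ S) g) ≤ Nat.card K := fun g =>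
    h.card_quot ▸ Nat.card_le_card_of_injective _ Subtype.val_injective
  have c := count (fun g : L => (Nat.card (fixedBy (L ⧸ S) g) : ℤ)) (fun g => g ≠ 1 ∧ ∃ x, x⁻¹ * g * x ∈ K)
    (n := Nat.card K) (m := C.card) (v := Nat.card U) (by omega) (Nat.cast_pos.2 Nat.card_pos)
    (by exact_mod_cast n1) (fun g ⟨g1, x, hx⟩ => by
      have := hc.isClassFunction.conj' g x
      rw [pc, h.fix_eq hx fun e => g1 (by simpa [mul_assoc, mul_eq_one_iff_eq_inv] using e)] at this
      exact_mod_cast (by simpa using this.symm : (Nat.card (fixedBy (L ⧸ S) g) : ℂ) = 0)) (fun g hg => by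
      have d := int_dvd_of_isIntegral_div (a := Nat.card (fixedBy (L ⧸ S) g) - 1) (b := C.card) (by omega) (by
        have := off g hg
        rw [pc] at this
        push_cast
        rw [this, add_sub_cancel_left, mul_div_cancel_left₀ _ (by exact_mod_cast (by omega : C.card ≠ 0))]
        exact ψ.2.isCharacter.isIntegral g)
      by_contra n
      rw [show ((Nat.card (fixedBy (L ⧸ S) g) : ℤ) - 1) = -1 by omega, dvd_neg] at d
      have := Int.le_of_dvd one_pos d
      omega) (fun g => by exact_mod_cast le g) (by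
      rw [irrOne_coe, classInner_one_right, inv_mul_eq_one₀ (card_ne_zero L), Nat.card_eq_fintype_card] at m1
      exact_mod_cast m1.symm) (by
      rw [classInner, inv_mul_eq_iff_eq_mul₀ (card_ne_zero L), Nat.card_eq_fintype_card, mul_comm] at e2
      simp only [pc, map_natCast, ← sq] at e2
      exact_mod_cast e2) (by rw [← Nat.card_eq_fintype_card]; exact_mod_cast h.card_A)
  rw [← Nat.card_eq_fintype_card] at c
  rw [show Nat.card S.normalCore = (Finset.univ.filter fun g : L =>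
    (Nat.card (fixedBy (L ⧸ S) g) : ℤ) = Nat.card K).card from ?_]
  · exact_mod_cast c
  rw [← Fintype.card_subtype, ← Nat.card_eq_fintype_card]
  refine Nat.card_congr (Equiv.subtypeEquivRight fun g => ?_)
  rw [normalCore_eq_ker, MonoidHom.mem_ker, Nat.cast_inj, ← h.card_quot, Nat.card_coe_set_eq,
    ← Set.eq_univ_iff_ncard, Set.eq_univ_iff_forall]
  exact Equiv.ext_iff

end CH

end Cfsg.Agent.SE
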