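import Cfsg.Agent.SE.C1
import Cfsg.Agent.SE.C2
import Cfsg.Agent.SE.C3
import Cfsg.Agent.SE.C7
import Cfsg.Agent.SE.CH

/-!
# Part C: the normal complement

Setting: `MC G Ω`, `G1`, `Tr2`, `Good`.  `H = G_α`, `t` swaps `α, β`, `D = G_αβ` (odd, solvable), `K = invertedBy D t`,
`V = C_D(t)`, `I = Iv ⊤ α`, `n = |I| = |K| ≥ 3`, `J = ⟨I⟩`, `K` acts regularly on `I` by conjugation.
Goal: `Q ⊴ H`, `Q D = H`, `Q ⊓ D = 1`.

**C0 (easy facts).**  (a) A subgroup `X ≤ D` with a third fixed point is centralized by a swapping involution `t^d`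
(`Good`, `swap_conj`), so `X ≤ V^d`.  Elements of `K#` fix only `α, β`.  (b) `V = C_D(s)` for some `s ∈ I`
(`V` fixes `fix t`; `C(V)` is transitive on `Ω_V`; compare indices), and `k ↦ k s k⁻¹` is a `V`-equivariant
bijection `K → I`.  So a subgroup of `D` that fixes no point of `I` fixes only `α, β`.
(c) *local information*: `1 ≠ Y ≤ V`, `K_Y = C_K(Y) ≠ 1`.  `M = N(Y)` is proper, transitive on `Ω_Y`, its
involutions centralize `Y`, `n_M = |K_Y| > 1`, so it has a four-group (`nI_eq_one`), and `ih` applies.  The kernel `M₀` lies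
in `V`, so is centralized by all involutions of `M`.  Hence `K_Y` is a cyclic group regular on `J_Y#`
(`J_Y = I_Y ∪ 1` elementary abelian), and `S_Y = O₂(C_H(Y))` is transitive on `Ω_Y - α`
(`L = ⟨I(M)⟩` centralizes `M₀`, `Q_M = (L ⊓ Q_M) M₀`, `L ⊓ Q_M` nilpotent).
If `x ∈ V` of prime order `p` with `C_K(x) = 1` (*bad* `x`) normalizes `Y` then `|J_Y| = 2^p` (Wielandt for
`K_Y ⋊ ⟨x⟩`) and `N_V(Y) = C(K_Y)⟨x⟩` (Galois group, `R1.gal`/`s1133'`).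
(d) `X ≤ D` is *nice* if `S_X = O₂(C_H(X))` is transitive on `Ω_X - α`.  If `X ⊴ X' ≤ D` and `X` is nice so is `X'`
(`C_{S_X}(X')`); so overgroups of nice subgroups in a `p`-group are nice.  A non-nice `p`-group `X ≠ 1` is (conjugate in `D` to) a
subgroup of `V` with `C_K(y) = 1` for all `y ∈ X#`; then `p ∤ n` (count fixed points on `K`) and `X` is cyclic
(`Z_p × Z_p` acting on a `t`-invariant Sylow `q`-subgroup of `D`, `q ∣ n`).
(e) (NS') `L ⊴ H` not centralizing `I` gives `H = L D`: the `L`-orbits on `I` have equal size `m > 1`; for `r ∣ m` a Sylow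
`r`-subgroup of `H` lies in `D` (it contains an element of `K#`), its intersection `R_L` with `L` fixes no point of `I`, so
`N_H(R_L) ≤ D`; Frattini.  Same argument: `N₀ ⊴ H°` with `N₀ ∩ K ≠ 1` gives `N₀ = H°` (NS).

**Lemma T.**  `L ⊴ H` containing all `2`-elements needed (`S_X ≤ L` for nice `1 ≠ X ≤ P`), `P ∈ Syl_p(L ⊓ D)` nice, non-nice
subgroups of `P` cyclic.  Then `P` is Sylow in `L` (`N_L(P) = S_P N_{L⊓D}(P)`), and for `X, X^g ≤ P`, `g ∈ L`: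
`g ∈ C_L(X)(L ⊓ D)`.  (Nice `X`: use `S_X`.  Non-nice: downward induction; move to a fully normalized conjugate `U`;
`N_L(U)/C_L(U)` is abelian, so `N_L(U) = C_L(U) N_L(U, N_P(U))` by Frattini.)  So `P ⊓ L' = P ⊓ (L ⊓ D)'` (`focal_le`), and
`p ∣ |D_L : D_L'|` gives `O^p(L) < L`.

**C1.** `W₀ = C_D(J) ≠ 1`: `K_{W₀} = K`, so `J` is elementary abelian.  All `1 ≠ X ≤ W₀` are nice.  Take `L ⊴ H` minimal
with `L W₀ = C_H(J)` containing all 2-elements of `C_H(J)`: Lemma T gives `L ⊓ D = 1`, `L` a normal Hall subgroup of `C_H(J)`,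
Frattini `H = L N_H(W₀) = L S_{W₀} D = L D`.  `Q = L`.
**C1'.** `W₀ = 1`, `H° = O^{2'}(H) ≤ C = C_H(J)`: `H/C` odd; a minimal normal `A/C` gives `H = A D = C D` by (e) and its proof.  `Q = C`.
So `W₀ = 1` (hence `C_V(K) = 1`), `H = H° D`, `D° = H° ⊓ D ⊴ D`; if `D° = 1`, `Q = H°`.  Otherwise for every prime
`p ∣ |D°/D°'|` a Sylow `P` of `D°` is non-nice (Lemma T): cyclic, wlog in `V`, fixed point free on `K`, `p ∤ n`,
`D° = B ⋊ P` (`cyc_syl_der`, Burnside), `x ∈ P` of order `p` is bad.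

**C2.** `K` is an abelian normal subgroup of `D`.  `D°`-orbits on `I` have equal size prime to `p` and `x` has a fixed point in each,
so `D°`, hence `B`, is transitive on `I`: `D = B V`, `T = [D,t] ≤ O_{p'}(D)`, `C_T(x) ≤ C_T(t)`.
C2a: a `⟨t,x⟩`-invariant `q`-group `U = [U,t]` is abelian.  If `Y = C_{Z(U)}(t) ≠ 1`, `K ∩ U ⊆ K_Y` cyclic: done.  So `t` inverts `Z(U)`,
and `U/Φ(U)`, so centralizes `Z₂/Z`; `Z(U) ≤ K_a` cyclic for `a ∈ C_{Z₂}(t)#`; `p ∣ q - 1`; choose `⟨a⟩` of order `q`, `x`-invariant.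
`M = C_U(a)` has index `q`, `Y₁ = K ∩ M` is cyclic, `C₀ = C_U(t) ≤ Φ(U) ≤ M` centralizes `Y₁` (by (c), `q ≠ p`),
`M = C₀ × Y₁`, `U = ⟨u, y⟩` with `Y₁ = ⟨y⟩`, `u` inverted; `M` is abelian (`U/Z(M)` cyclic), `C₀` is cyclic generated by `[u,y]`.
Eigenvalues of `x`: `μ ≠ 1` on `U/M`, `λ` on `Y₁ ⊇ Ω₁(Z U)`, `ν` on `C₀ ∋ a`: `[a,u]` gives `λ = νμ`, `[u,y]` gives `ν = μλ`, so `μ² = 1`, false.
(Any other proof is fine.)
C2b: if `T` is not nilpotent, `t` acts nontrivially on some `O_q(T/F(T))`; `R` an invariant Sylow of its preimage, `U = [R,t] ≰ F(T)` acts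
nontrivially on some `O_r(T)`, `r ≠ q`; `U ⋊ ⟨x t⟩` is Frobenius; Wielandt for `⟨xt⟩` and `⟨x⟩` on `W = [O_r(T),U]` (mod Frattini):
`|W| = |C(xt)|^{2p} = |C(x)|^p` and `C(x) = C(xt)`, so `W = 1`.  So `T` is nilpotent, `T = ∏ [O_q T, t]` is abelian and inverted, `T = K`,
`K = [K,x] ≤ D°'`, `D° = K ⋊ V°`, `V° = V_B ⋊ P`, and the bad primes are those of `|V°/V°'|`.

**C3.** Either `V°` is fixed point free on `K`, or (E): `V° = R ⋊ ⟨x⟩`, `|R| = q`, `K_q` not cyclic.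
BG 3.4 (`odd_prime_sdprod_abelem_cent`): an `x`-invariant `r`-subgroup `R₁` of `V_B` has `[R₁,x] ≤ C(K_{r'})`.  Two different primes with `[R₁,x] ≠ 1`
are impossible (`K_{r₂} ≤ K_Y` cyclic, `Aut` abelian, `C_V(K) = 1`).  So `A₁ = [V_B,x]` is a `q`-group.
`A₁ = 1`: `x` is central in `V°`; if some `y ∈ V°#` has `K_y ≠ 1` let `Y = C_{V°}(K_y)`; by (c) `N_{V°}(Y₁) ≤ Y × ⟨x⟩` for all `1 ≠ Y₁ ≤ Y`, so
a prime of `|Y/Y'|` divides `|V°/V°'|` (transfer) and is bad, false.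
`A₁ ≠ 1`: `Y = A₁ ⊴ V°`, `V° = C(K_Y)⟨x⟩`, all `y ∈ V_B#` have `K_y` cyclic `≠ 1`; `C = Ω₁(K_q) ⊓ C(V_B)` has order `q`, a Sylow `q`-subgroup `R` of `V_B` embeds in
`Hom(K₂/C, C)`, so `|R| = q`; an element `y ∈ V_B` of prime order `≠ q` would act nontrivially on `R`, but `V_B = V°'` centralizes `R`.

**CH.** `ℂI` restricted to `K` is the regular module; the constituents `ψ_j` of the permutation character `π_I` of `H°` are multiplicity free and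
correspond to a partition `S_j` of `Irr K` into unions of `V°`-orbits, `S₀ = {1}`.  For an orbit `O` let `φ_O` be the corresponding constituent for `D°`.
`X` = elements of `D°` fixing no point of `I` is a TI set in `H°` with normalizer `D°`.  If `O ≠ O'` have conjugate stabilizers then `φ_O - φ_O'` is supported
on `X`, its induced class function has norm 2; so `O, O'` lie in the same `S_j`, or `S_j = O`, `S_k = O'` and `ψ_j - ψ_k` vanishes off `X^{H°}`.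
* fixed point free case, `m ≥ 2` singleton orbits, `v = |V°|`: off `X^{H°}` all `ψ_j = τ = (π - 1)/m` is an integer, `0 ≤ τ ≤ v`; orthogonality gives
  `Σ'τ² = |H°:D°| v²`, `Σ'τ = |H°:D°| v`, so `τ ∈ {0,v}`, `|C_{H°}(I)| = |H°:D°|`, `Q = C_{H°}(I)`.
* (E): stabilizers are `1` or `R`; if some `S_j` has only orbits with stabilizer `R` then `1 ≠ [K,R] ≤ ker ψ_j`, against (NS).  So there is a single `S_1`.
* otherwise `π_I = 1 + ψ`: `H` is 2-transitive on `I`; then all involutions of `H` commute, `K` is faithful irreducible on `J`, so cyclic: (E) is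
  impossible; `|J| = 2^p` (Wielandt), `V = ⟨x⟩` has order `p` and is fixed point free on `K`, `n = 2^p - 1`.

**C7.** Last case.  `Π` = permutation character of `G` on all involutions: generously transitive, so multiplicity free (S0717), rank `3 + 2m₀`,
`m₀ = (n-1)/(2p)`; `Π = 1 + χ₀ + Φ`, `Φ = (π_I - 1)^G` has `1 + 2m₀` constituents `ζ`.  The class sum of involutions acts on the `Φ`-part as the scalar `n`
(it maps `s` to `n s + Σ_{δ ≠ α} Î_δ`), so `ζ(1) = |Ω| ζ(s)`, `a_ζ = ζ(s) > 0`, `Σ a_ζ = n - 1`, `|Ω| ≡ 2 mod n`.  `K` is TI in `G`, `N(K) = K⟨xt⟩`, `C(k) = K`; the `(λ₁ - λ_i)^G`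
(`m₀` orbits) have norm 2 and pairwise inner product 1, so at most `m₀` irreducible characters of `G` are nonconstant on `K#`.  A constant one has value
`c_ζ = ⟨(1_K - λ)^G, ζ⟩ ≡ 2 a_ζ mod n`, `c_ζ ≠ 0`; `‖(1_K - λ)^G‖² = 2p + 1` minus `1_G, χ₀` gives `Σ c² ≤ 2p - 1` over at least `m₀ + 1` characters.  Odd `c` forces
`a = (n + c)/2`, at most two of these; so `Σ c² ≥ 4m₀ - 2 > 2p - 1` for `p ≥ 5`.  `p = 3`, `n = 7`: three `a`'s with sum 6, `a = 1: c² ≥ 4`, `a = 2: c² ≥ 9`, `Σ c² ≤ 5`: false.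
-/

set_option autoImplicit false
set_option linter.unusedVariables false
set_option linter.unusedSectionVars false

namespace Cfsg.Agent.SE
open Cfsg Cfsg.Agent.BG Cfsg.Agent.Inv MulAction Subgroup

variable {G Ω : Type*} [Group G] [Finite G] [MulAction G Ω]
variable {K K₁ U W Q P : Subgroup G} {a : Ω} {t s u k g x : G} {p : ℕ}

/-- `CH.main` inside a subgroup `Q` -/
theorem ch_ambient (hK : K ≤ Q) (hU : U ≤ Q) (h1 : K₁ ≤ K) (ab : Abel K) (n : U ≤ N[K]) (le : U ≤ W)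
    (free : ∀ k ∈ K, k ∈ W → k = 1) (prod : ∀ g ∈ Q, ∃ k ∈ K, k⁻¹ * g ∈ W)
    (ti : ∀ g ∈ Q, ∀ k ∈ K, k ≠ 1 → g * k * g⁻¹ ∈ K → ∃ k' ∈ K, ∃ u ∈ U, g = k' * u)
    (le1 : ∀ u ∈ U, u ≠ 1 → K₁ ≤ ⁅K, zpowers u⁆) (ns : ∀ N ≤ Q, Q ≤ N[N] → K₁ ≤ N → Q ≤ N) :
    (∀ g ∈ Q, ∀ g' ∈ Q, g ∉ W → g' ∉ W → ∃ s ∈ W, g'⁻¹ * s * g ∈ W) ∨
      ∃ N ≤ Q ⊓ W, Q ≤ N[N] ∧ #N * (#K * #U) = #Q := by
  have nm : ∀ N : Subgroup Q, N.Normal → Q ≤ N[N.map Q.subtype] := fun N hN => le_N_iff.2 fun g hg _ ⟨y, hy, e⟩ =>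
    ⟨⟨g, hg⟩ * y * (⟨g, hg⟩ : Q)⁻¹, hN.conj_mem y hy _, by rw [← e]; rfl⟩
  have h : CH (K.subgroupOf Q) (U.subgroupOf Q) (W.subgroupOf Q) (K₁.subgroupOf Q) :=
    ⟨fun a ha b hb => Subtype.ext (mem_C_comm ab ha hb), fun u hu k hk => conj_mem (A := K) (n hu) hk,
      fun u hu => le hu,
      fun k hk h => Subtype.ext (free k hk h), fun g => by
        obtain ⟨k, hk, h⟩ := prod g g.2
        exact ⟨⟨k, hK hk⟩, hk, (⟨k, hK hk⟩ : Q)⁻¹ * g, h, by simp⟩,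
      fun g k hk k1 h => by
        obtain ⟨k', hk', u, hu, e⟩ := ti g g.2 k hk (fun e => k1 (Subtype.ext e)) h
        exact ⟨⟨k', hK hk'⟩, hk', ⟨u, hU hu⟩, hu, Subtype.ext e⟩,
      fun u hu u1 k hk => (mem_map_iff_mem (f := Q.subtype) Q.subtype_injective).1 (by
        rw [map_commutator, subgroupOf_map_subtype, inf_eq_left.2 hK, MonoidHom.map_zpowers]
        exact le1 u hu (fun e => u1 (Subtype.ext e)) hk),
      fun N hN l => eq_top_iff.2 fun g _ => (mem_map_iff_mem (f := Q.subtype) Q.subtype_injective).1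
        (ns _ (map_subtype_le N) (nm N hN) (fun k hk => ⟨⟨k, hK (h1 hk)⟩, l hk, rfl⟩) g.2)⟩
  refine (h.main fun k hk => h1 hk).imp (fun h g hg g' hg' n n' => ?_) fun h => ⟨_, le_inf (map_subtype_le _)
    (map_le_iff_le_comap.2 (normalCore_le (W.subgroupOf Q))), nm _ inferInstance, ?_⟩
  · obtain ⟨s, hs, e⟩ := h ⟨g, hg⟩ ⟨g', hg'⟩ n n'
    exact ⟨s, hs, e⟩
  · rwa [card_map_of_injective Q.subtype_injective, ← Nat.card_congr (subgroupOfEquivOfLe hK).toEquiv,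
      ← Nat.card_congr (subgroupOfEquivOfLe hU).toEquiv]

theorem JJ_cases (hc : ∀ s ∈ Iv (⊤ : Subgroup G) a, ∀ u ∈ Iv (⊤ : Subgroup G) a, s * u = u * s)
    (h : g ∈ JJ G a) : g = 1 ∨ g ∈ Iv (⊤ : Subgroup G) a := by
  induction h using closure_induction with
  | mem x hx => exact Or.inr hx
  | one => exact Or.inl rfl
  | inv x _ h => exact h.imp inv_eq_one.2 fun h => by rwa [inv_of_ord h.2.1]
  | mul x y _ _ h h' =>
    rcases h with rfl | h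
    · rwa [one_mul]
    rcases h' with rfl | h'
    · exact Or.inr (by rwa [mul_one])
    refine or_iff_not_imp_left.2 fun n => ⟨trivial, orderOf_eq_prime ?_ n, by rw [mul_smul, h'.2.2, h.2.2]⟩
    rw [sq, mul_assoc, ← mul_assoc y, hc y h' x h, mul_assoc, mul_self_of_ord h'.2.1, mul_one, mul_self_of_ord h.2.1]

namespace CS
variable (S : CS G Ω a t)
include S

local notation "𝓗" => St G a
local notation "𝓓" => St2 G a (t • a)
local notation "𝓥" => St2 G a (t • a) ⊓ centralizer (Singleton.singleton t : Set G)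
local notation "𝓣" => tc t (St2 G a (t • a))
local notation "𝓘" => Iv (⊤ : Subgroup G) a

theorem free (hK : Abel 𝓣) (hs : s ∈ 𝓘) (hk : k ∈ 𝓣) (h : k ∈ C1[s]) : k = 1 :=
  S.F.K_free S.ord S.ne hs.2.1 hs.2.2 ⟨tc_le _ _ hk, inv_of_abel hK hk⟩ (mem_C1.1 h)

theorem sd (hK : Abel 𝓣) : Sdprod 𝓣 𝓥 𝓓 := by
  obtain ⟨s, hs, h⟩ := S.exists_s
  refine ⟨IsProd.sup (IsProd.symm ⟨inf_le_left, tc_le _ _, fun g hg => ?_⟩),
    eq_bot_iff.2 fun k hk => S.free hK hs hk.1 (h hk.2), inf_le_left.trans (tc_norm S.ord S.odd S.tD)⟩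
  obtain ⟨v, hv, k, hk, e⟩ := decomp S.ord S.odd S.tD hg
  exact ⟨v, hv, k, mem_tc hk, e⟩

/-- the doubly transitive case -/
theorem caseA (L : LD 𝓓 t x p) (hT : 𝓣 ⊓ C[zpowers x] = ⊥) (hK : Abel 𝓣) (hf : 𝓥 ⊓ C[𝓣] = ⊥) (hs : s ∈ 𝓘)
    (hV : 𝓥 ≤ C1[s]) (h : ∀ g ∈ 𝓣, ∀ g' ∈ 𝓣, g ∉ C1[s] → g' ∉ C1[s] → ∃ w ∈ C1[s], g'⁻¹ * w * g ∈ C1[s]) :
    False := by
  have h1 : ∀ u ∈ 𝓘, ∀ u' ∈ 𝓘, u ≠ s → u' ≠ s → ∃ g ∈ C1[s], g * u * g⁻¹ = u' := fun u hu u' hu' n n' => by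
    obtain ⟨k, hk, rfl⟩ := S.K_trans hs hu
    obtain ⟨k', hk', rfl⟩ := S.K_trans hs hu'
    obtain ⟨w, hw, e⟩ := h k (mem_tc hk) k' (mem_tc hk') (fun e => n (by rw [mem_C1.1 e]; group))
      fun e => n' (by rw [mem_C1.1 e]; group)
    refine ⟨w, hw, ?_⟩
    calc w * (k * s * k⁻¹) * w⁻¹ = k' * (k'⁻¹ * w * k * s) * (k⁻¹ * w⁻¹) := by group
      _ = _ := by rw [mem_C1.1 e]; group
  have h2 : ∀ s' ∈ 𝓘, ∀ u ∈ 𝓘, ∀ u' ∈ 𝓘, u ≠ s' → u' ≠ s' → ∃ g ∈ C1[s'], g * u * g⁻¹ = u' :=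
    fun s' hs' u hu u' hu' n n' => by
      obtain ⟨k, hk, rfl⟩ := S.K_trans hs hs'
      obtain ⟨g, hg, e⟩ := h1 _ (Iv_conj hu (inv_mem hk.1).1) _ (Iv_conj hu' (inv_mem hk.1).1)
        (fun e => n (by rw [← e]; group)) fun e => n' (by rw [← e]; group)
      refine ⟨k * g * k⁻¹, by rw [← cj_C1]; exact mem_cj_conj.2 hg, ?_⟩
      calc k * g * k⁻¹ * u * (k * g * k⁻¹)⁻¹ = k * (g * (k⁻¹ * u * k⁻¹⁻¹) * g⁻¹) * k⁻¹ := by group
        _ = _ := by rw [e]; group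
  have hc : ∀ s ∈ 𝓘, ∀ u ∈ 𝓘, s * u = u * s := fun s hs u hu => by
    obtain ⟨y, hy, z, hz, y2, z2, n, c⟩ := S.toMC.four' a
    by_cases e : u = s
    · rw [e]
    obtain ⟨k, hk, rfl⟩ := S.K_trans ⟨trivial, y2, hy.2⟩ hs
    obtain ⟨g, hg, rfl⟩ := h2 _ hs _ (Iv_conj ⟨trivial, z2, hz.2⟩ hk.1.1) u hu (fun e => n (by simpa using e.symm)) e
    have : k * z * k⁻¹ ∈ C1[k * y * k⁻¹] := by rw [← cj_C1]; exact mem_cj_conj.2 (mem_C1'.2 c)
    exact mem_C1'.1 (mul_mem (mul_mem hg this) (inv_mem hg))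
  have TD : 𝓣 ≤ 𝓓 := tc_le _ _
  have nJ : 𝓓 ≤ N[JJ G a] := inf_le_left.trans (JJ_norm a)
  have nT : 𝓓 ≤ N[𝓣] := tc_norm S.ord S.odd S.tD
  have s1 : s ≠ 1 := fun e => by simpa [e] using hs.2.1
  have aJ : Abelem 2 (JJ G a) := ⟨le_C_iff.2 fun y hy z hz => by
    rcases JJ_cases hc hy with rfl | hy
    · simp
    rcases JJ_cases hc hz with rfl | hz
    · simp
    exact hc y hy z hz, fun y hy => by
      rcases JJ_cases hc hy with rfl | hy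
      · simp
      rw [← hy.2.1, pow_orderOf_eq_one]⟩
  have sr : Semireg (JJ G a) 𝓣 := fun k hk k1 => eq_bot_iff.2 fun y hy =>
    (JJ_cases hc hy.1).resolve_right fun h => k1 (S.free hK h hk (C1_symm hy.2))
  have aV : Abel 𝓥 := abel_iff_der.2 (eq_bot_iff.2 (hf ▸ le_inf (der_le _)
    (((sr.zg (odd_of_le S.odd TD) (ne_bot_of_mem (mem_JJ hs) s1) (TD.trans nJ)).cyc hK.nil).der_cent
      (inf_le_left.trans nT))))
  have reg := semireg_of_prime (L.card_x ▸ L.prime) hT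
  have l : 𝓣 ⊔ zpowers x ≤ 𝓓 := sup_le TD (zp_le L.xD)
  have w := frob_wielandt_card ⟨sdprod_sup reg.inf_bot (zp_le (nT L.xD)), S.K_ne,
    ne_bot_of_mem (mem_zpowers x) L.x_ne, reg⟩ (l.trans nJ)
    (PiN.coprime' (pig2_of_odd (odd_of_le S.odd l)) (aJ.pig Nat.prime_two)) aJ.abel.sol
    (sr.cent le_rfl S.K_ne)
  have e1 : JJ G a ⊓ C[zpowers x] = zpowers s := le_antisymm (fun y hy => by
    rcases JJ_cases hc hy.1 with rfl | h
    · exact one_mem _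
    obtain ⟨k, hk, rfl⟩ := S.K_trans hs h
    have c := mem_C1.1 (C_zpowers x ▸ hy.2)
    have e := S.free hK hs (mul_mem (inv_mem (mem_tc hk)) (conj_mem (nT L.xD) (mem_tc hk))) (mul_mem (by
      rw [mem_C1]
      calc k⁻¹ * (x * k) * s = k⁻¹ * (x * (k * s * k⁻¹)) * k := by group
        _ = _ := by rw [← c]; group : k⁻¹ * (x * k) ∈ C1[s]) (inv_mem (hV L.xV)) |> (by rwa [mul_assoc] at ·))
    rw [L.bad k hk (mem_C1.2 (by rw [inv_mul_eq_one, eq_mul_inv_iff_mul_eq] at e; exact e))]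
    simp) (zp_le ⟨mem_JJ hs, C_zpowers x ▸ C1_symm (hV L.xV)⟩)
  have e2 : #(JJ G a) = #𝓣 + 1 := by
    change (JJ G a : Set G).ncard = (𝓣 : Set G).ncard + 1
    rw [show (JJ G a : Set G) = insert 1 𝓘 from Set.ext fun y =>
      ⟨JJ_cases hc, fun h => h.elim (fun e => e ▸ one_mem _) mem_JJ⟩, Set.ncard_insert_of_notMem fun h => by
        simpa using h.2.1, ← nI, ← S.toMC.kc_D S.ord S.ne, kc,
      show (𝓣 : Set G) = invertedBy 𝓓 t from Set.ext fun y =>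
        ⟨fun h => ⟨TD h, inv_of_abel hK h⟩, mem_tc⟩]
  rw [e1, e2, card_zpowers', hs.2.1, L.card_x] at w
  refine S.c7 hK (fun y hy y1 => by_contra fun n => y1 ?_) (ne_bot_of_mem L.xV L.x_ne) hc h2
  obtain ⟨k, hk, k1⟩ := exists_ne_one n
  have := L.card (zpowers y) (zp_le hy) (ne_bot_of_mem (mem_zpowers y) y1) (C_le_N _ (centS (zp_le hy) (aV L.xV)))
    (ne_bot_of_mem (mem_tc ⟨⟨TD hk.1, C_zpowers y ▸ hk.2⟩, inv_of_abel hK hk.1⟩) k1)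
  have e := eq_of_card_le (tc_mono t (inf_le_left : 𝓓 ⊓ C[zpowers y] ≤ 𝓓)) (by rw [KY] at this; omega)
  exact mem_bot.1 (hf ▸ ⟨hy, cent_symm (e ▸ (tc_le _ _).trans inf_le_right) (mem_zpowers y)⟩)

theorem false_of_min (hQ : MinQ a (t • a) Q) (hW : 𝓓 ⊓ C[JJ G a] ≠ ⊥ → Q ≤ C[JJ G a]) (hp : p.Prime)
    (hP : Syl p P (Q ⊓ 𝓓)) (hd : ¬ P ≤ ⁅Q ⊓ 𝓓, Q ⊓ 𝓓⁆) (hV : P ≤ 𝓥) : False := by
  have nn := S.not_nice hQ hp hP hd
  obtain ⟨x, hx, xp⟩ := cauchy hp (hP.pi.dvd fun e => hd (e ▸ bot_le))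
  have x1 : x ≠ 1 := fun e => hp.one_lt.ne' (by rw [← xp, e, orderOf_one])
  have hb := S.bad hV hP.pi.nil nn hx x1
  have L := S.ld hp xp (hV hx) hb
  have hT := tc_pig S.ord S.odd S.tD hp xp (hV hx) hb
  have hK := L.abel hT
  have TD : 𝓣 ≤ 𝓓 := tc_le _ _
  have nT : 𝓓 ≤ N[𝓣] := tc_norm S.ord S.odd S.tD
  have iv : ∀ k ∈ 𝓣, k ∈ invertedBy 𝓓 t := fun k hk => ⟨TD hk, inv_of_abel hK hk⟩
  have cx : 𝓣 ⊓ C[zpowers x] = ⊥ := eq_bot_iff.2 fun k hk => hb k (iv k hk.1) (C_zpowers x ▸ hk.2)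
  have W0 : 𝓓 ⊓ C[JJ G a] = ⊥ := by_contra fun n => S.K_ne (eq_bot_iff.2 (cx ▸ le_inf le_rfl
    (cent_symm (zp_le (S.W_le ⟨(hP.le hx).2, hW n (hP.le hx).1⟩).2))))
  have hf : 𝓥 ⊓ C[𝓣] = ⊥ := eq_bot_iff.2 (W0 ▸ S.le_W)
  have TQ : 𝓣 ≤ Q := by
    have := (cop_cent_prod (zp_le (nT L.xD)) (PiN.coprime' hT L.pig_x).symm (Or.inr hK.sol)).sup
    rw [cx, sup_bot_eq] at this
    exact this ▸ (commS le_rfl (zp_le (hP.le hx).1)).trans (commR ((TD.trans inf_le_left).trans hQ.norm))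
  have sd := (S.sd hK).modl TQ
  rw [inf_comm 𝓓 Q] at sd
  have PU : P ≤ 𝓥 ⊓ Q := le_inf hV (hP.le.trans inf_le_left)
  obtain ⟨K₁, K1, hK₁⟩ := L.common hT hK S.K_ne hf inf_le_left (hP.sub PU sd.right) hx
    (S.cyc_aux hp hV hP.pi nn) (fun h => hd (h.trans (derS sd.right))) fun q R hq hR h y hy y1 => by
      obtain ⟨R₁, hR₁, l⟩ := syl_superset hq (hR.le.trans sd.right) hR.pi
      refine eq_bot_iff.2 fun k hk => S.bad (hR.le.trans inf_le_left) hR.pi.nil (fun n => S.not_nice hQ hq hR₁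
        (fun e => h ?_) (n.pgroup S.F S.ne (hR₁.le.trans inf_le_right) hR₁.pi.nil l)) hy y1 k (iv k hk.1) hk.2
      have e2 : ⁅Q ⊓ 𝓓, Q ⊓ 𝓓⁆ ≤ 𝓣 ⊔ ⁅𝓥 ⊓ Q, 𝓥 ⊓ Q⁆ := by
        rw [← sd.sup, der_sup sd.norm]
        exact sup_le_sup_right (sup_le (der_le _) (commL sd.norm)) _
      have := le_inf ((l.trans e).trans e2) hR.le
      rwa [modr_l ((der_le _).trans sd.norm) (der_le _), sd.inf, bot_sup_eq] at this
  obtain ⟨K₂, hK₂⟩ : ∃ K₂ : Subgroup G, ∀ k, k ∈ K₂ ↔ k ∈ 𝓣 ∧ ∀ u ∈ 𝓥 ⊓ Q, u ≠ 1 → k ∈ ⁅𝓣, zpowers u⁆ :=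
    ⟨𝓣 ⊓ ⨅ u ∈ 𝓥 ⊓ Q, ⨅ _ : u ≠ 1, ⁅𝓣, zpowers u⁆, fun k => by simp only [mem_inf, mem_iInf]⟩
  have n2 : 𝓓 ≤ N[K₂] := (S.sd hK).sup ▸ sup_le (cents_norm (hK.trans (centS fun k hk => ((hK₂ k).1 hk).1)))
    (le_N_iff.2 fun v hv k hk => (hK₂ _).2 ⟨conj_mem (nT hv.1) ((hK₂ k).1 hk).1, fun u hu u1 => by
      have := (mem_cj_conj (g := v)).2 (((hK₂ k).1 hk).2 _ (conj_mem' (normI (normG _)
        ((inf_le_left.trans inf_le_left).trans hQ.norm) hv) hu) fun e => u1 (by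
          simpa [mul_assoc, inv_mul_eq_one] using e))
      rwa [cj_comm, cj_of_mem_N (nT hv.1), cj_zpowers, show v * (v⁻¹ * u * v) * v⁻¹ = u by group] at this⟩)
  obtain ⟨s, hs, sV⟩ := S.exists_s
  rcases ch_ambient (W := C1[s]) (K₁ := K₂) TQ inf_le_right (fun k hk => ((hK₂ k).1 hk).1) hK sd.norm
    (inf_le_left.trans sV) (fun k hk => S.free hK hs hk) (fun g hg => by
      obtain ⟨k, hk, e⟩ := S.K_trans hs (Iv_conj hs (hQ.prod.left hg))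
      refine ⟨k, mem_tc hk, mem_C1.2 ?_⟩
      calc k⁻¹ * g * s = k⁻¹ * (g * s * g⁻¹) * g := by group
        _ = _ := by rw [← e]; group) (fun g hg k hk k1 h => by
      have gH := hQ.prod.left (inv_mem hg)
      refine sd.prod.ex g ⟨hg, (inv_mem_iff (H := 𝓓)).1 ⟨gH, S.fix_K (iv k hk) k1 ?_ fun e => S.ne
        (smul_left_cancel g⁻¹ (e.trans gH.symm))⟩⟩
      rw [← mul_smul, eq_inv_smul_iff, ← mul_smul, ← mul_assoc]
      exact (TD h).2) (fun u hu u1 k hk => ((hK₂ k).1 hk).2 u hu u1) (fun N NQ nN l => by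
      obtain ⟨k, hk, k1⟩ := exists_ne_one K1
      have kT := commL (zp_le (nT L.xD)) (hK₁ x (PU hx) x1 hk)
      have l1 : ⨅ h ∈ 𝓗, cj h N ≤ N := (iInf₂_le 1 (one_mem _)).trans (cj_one N).le
      refine (S.eq_of_mem hQ (l1.trans NQ) (le_N_iff.2 fun g hg y hy => ?_) (iv k kT) k1 ?_).ge.trans l1
      · simp only [mem_iInf, mem_cj] at hy ⊢
        exact fun h hh => by simpa [mul_assoc] using hy (g⁻¹ * h) (mul_mem (inv_mem hg) hh)
      · simp only [mem_iInf, mem_cj]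
        intro h hh
        obtain ⟨d, hd, q, hq, rfl⟩ := hQ.prod.symm.ex h hh
        simpa [mul_assoc] using conj_mem' (nN hq) (l (conj_mem' (n2 hd) ((hK₂ k).2 ⟨kT, fun u hu u1 =>
          hK₁ u hu u1 hk⟩)))) with h | ⟨N, l, nN, c⟩
  · exact S.caseA L cx hK hf hs sV fun g hg g' hg' => h g (TQ hg) g' (TQ hg')
  have l2 : N ≤ Q ⊓ C[JJ G a] := fun y hy => ⟨(l hy).1, mem_C_JJ.2 fun u hu => by
    obtain ⟨k, hk, rfl⟩ := S.K_trans hs hu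
    exact mem_C1'.1 (by rw [← cj_C1]; exact mem_cj.2 (l (conj_mem' (nN (TQ (mem_tc hk))) hy)).2)⟩
  have pr := isProd_of_card (M := Q) (inf_le_left : Q ⊓ C[JJ G a] ≤ Q) (inf_le_left : Q ⊓ 𝓓 ≤ Q) (by
    rw [show Q ⊓ C[JJ G a] ⊓ (Q ⊓ 𝓓) = ⊥ from eq_bot_iff.2 (W0 ▸ fun y hy => ⟨hy.2.2, hy.1.2⟩), card_bot', mul_one,
      ← c, sd.card]
    exact Nat.mul_le_mul_right _ (card_le l2))
  have e := hQ.min _ inf_le_left (normI hQ.norm (normC (JJ_norm a))) ⟨inf_le_left.trans hQ.prod.left, inf_le_left,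
    fun g hg => by
      obtain ⟨q, hq, d, hd, rfl⟩ := hQ.prod.ex g hg
      obtain ⟨y, hy, z, hz, rfl⟩ := pr.ex q hq
      exact ⟨y, hy, z * d, mul_mem hz.2 hd, mul_assoc _ _ _⟩⟩
  exact x1 (mem_bot.1 (W0 ▸ ⟨L.xD, (e.ge (hP.le hx).1).2⟩))

theorem inf_bot (hQ : MinQ a (t • a) Q) (hW : 𝓓 ⊓ C[JJ G a] ≠ ⊥ → Q ≤ C[JJ G a]) : Q ⊓ 𝓓 = ⊥ := by
  by_contra n
  refine ((sol_of_odd (odd_of_le S.odd inf_le_right)).der_lt n).not_ge (le_of_syl fun p hp _ => ?_)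
  obtain ⟨P, hP⟩ := syl_exists hp (Q ⊓ 𝓓)
  refine ⟨P, hP, by_contra fun hd => ?_⟩
  have PD := hP.le.trans inf_le_right
  obtain ⟨u, hu, u2, e⟩ := S.exists_cent (S.not_nice hQ hp hP hd) PD
  exact (S.swap u2 e).false_of_min (e ▸ hQ) (e ▸ hW) hp (e ▸ hP) (e ▸ hd) (le_inf (e ▸ PD) (le_C1_iff.2 hu))

end CS

theorem MC.concl_of_good (S : MC G Ω) (h1 : G1 G Ω) (h2 : Tr2 G Ω) (h3 : Good G Ω) (a : Ω) :
    ∃ Q, Concl (⊤ : Subgroup G) a Q := by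
  have := S.nt
  obtain ⟨b, hb⟩ := exists_ne a
  obtain ⟨t, ht, rfl⟩ := S.swap hb.symm
  have S' : CS G Ω a t := ⟨S, h1, h2, h3, ht, hb⟩
  obtain ⟨Q, hQ, hW⟩ : ∃ Q, MinQ a (t • a) Q ∧ (St2 G a (t • a) ⊓ C[JJ G a] ≠ ⊥ → Q ≤ C[JJ G a]) := by
    by_cases h : St2 G a (t • a) ⊓ C[JJ G a] = ⊥
    · obtain ⟨Q, -, hQ⟩ := exists_minQ (b := t • a) (normG (St G a))
        ⟨le_rfl, inf_le_left, fun g hg => ⟨g, hg, 1, one_mem _, by simp⟩⟩
      exact ⟨Q, hQ, fun n => absurd h n⟩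
    · obtain ⟨Q, l, hQ⟩ := exists_minQ (normI (normG _) (normC (JJ_norm a))) (S'.prod_W h)
      exact ⟨Q, hQ, fun _ => l.trans inf_le_right⟩
  have tr : ∀ b, b ≠ a → ∃ q ∈ Q, q • t • a = b := fun b n => by
    obtain ⟨g, e1, e2⟩ := h2 a (t • a) a b hb.symm n.symm
    obtain ⟨q, hq, d, hd, rfl⟩ := hQ.prod.ex g e1
    exact ⟨q, hq, by rwa [mul_smul, hd.2] at e2⟩
  refine ⟨Q, le_inf le_top hQ.prod.left, inf_le_right.trans hQ.norm, fun b c _ _ n n' => ?_, fun q hq b _ n e => ?_⟩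
  · obtain ⟨q, hq, rfl⟩ := tr b n
    obtain ⟨q', hq', rfl⟩ := tr c n'
    exact ⟨q' * q⁻¹, mul_mem hq' (inv_mem hq), by rw [mul_smul, inv_smul_smul]⟩
  · obtain ⟨r, hr, rfl⟩ := tr b n
    have m := conj_mem' (normG Q hr) hq
    have : r⁻¹ * q * r ∈ (⊥ : Subgroup G) := S'.inf_bot hQ hW ▸ ⟨m, hQ.prod.left m,
      mem_St.2 (by rw [mul_smul, mul_smul, e, inv_smul_smul])⟩
    rw [show q = 1 by simpa [mul_assoc, inv_mul_eq_one] using this]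
    exact one_mem _

end Cfsg.Agent.SE
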