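import Cfsg.Agent.SE.CD

/-!
# C0: nice subgroups and the local information

`X ≤ D = G_ab` is *nice* if `O₂(C_H(X))` is transitive on the fixed points of `X` other than `a`.
A subgroup `1 ≠ Y ≤ V` centralizing an inverted element is nice (induction hypothesis for `N(Y)`), and then
`N(Y)` satisfies `R1`.
-/

set_option autoImplicit false
set_option linter.unusedVariables false
set_option linter.unusedSectionVars false

namespace Cfsg.Agent.SE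
open Cfsg Cfsg.Agent.BG Cfsg.Agent.Inv MulAction Subgroup

variable {G Ω : Type*} [Group G] [Finite G] [MulAction G Ω]
variable {M Q X X' Y P L : Subgroup G} {a b c d : Ω} {t s u k g x : G} {p : ℕ}

theorem _root_.Cfsg.Agent.Inv.R1.loc (S : R1 G Ω a t Q) (h2 : Four G) (hx : x ∈ V1 G a t) (hp : p.Prime)
    (xp : orderOf x = p) (hK : S.K h2 ⊓ C1[x] = ⊥) :
    #(S.K h2) + 1 = 2 ^ p ∧ ∀ w ∈ V1 G a t, ∃ y ∈ zpowers x, S.K h2 ≤ C1[w * y] := by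
  have c2 : #(S.Q0 h2 ⊓ C1[x]) = 2 := by rw [← S.card_K_cent h2 hx, hK, card_bot']
  have hW : x ∉ C[S.Q0 h2] := fun h =>
    S.K_ne h2 (by rw [← hK, inf_eq_left.2 (S.K_cent h2 hx.1 h).2])
  obtain ⟨g1, g2⟩ := S.gal h2 hx hp xp hW
  refine ⟨by rw [S.card_K' h2, g1, c2], fun w hw => ?_⟩
  obtain ⟨s, s1, r, s3, s4⟩ := S.struct'
  have s2 := S.ord_s s4
  have Vs : ∀ v ∈ V1 G a t, s ∈ C1[v] := fun v hv =>
    mem_C1'.2 (mul_inv_eq_iff_eq_mul.1 ((S.cent_s s1 s3 s4 hv.1).1 hv))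
  have e : zpowers s = S.Q0 h2 ⊓ C1[x] := eq_of_card_le
    (zpowers_le.2 (mem_inf.2 ⟨⟨S.fix s1, mul_self_of_ord s2⟩, Vs x hx⟩)) (by rw [c2, card_zpowers', s2])
  obtain ⟨y, hy, h⟩ := g2 w hw (e ▸ zpowers_le.2 (Vs w hw))
  exact ⟨y, hy, (S.K_cent h2 (mul_mem hw.1 (zpowers_le.2 hx.1 hy)) h).2⟩

theorem Fix1.two_eq_one (S : Fix1 G Ω) (hb : b ≠ a) (h : PiE {2} u) (h1 : u • a = a) (h2 : u • b = b) :
    u = 1 := by
  by_contra n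
  have := odd_ord_of_mem (S.odd_St2 hb) (mem_St2.2 ⟨h2, h1⟩)
  exact (Nat.not_even_iff_odd.2 this) (even_iff_two_dvd.2 (h.dvd n))

/-- the rank one setup in a subgroup -/
theorem Fix1.r1_sub (S : Fix1 G Ω) (hQ : Q ≤ M ⊓ St G a) (hn : M ⊓ St G a ≤ N[Q]) (h2 : PiG {2} Q)
    (h1 : Q ≠ ⊥) (ht : orderOf t = 2) (htM : t ∈ M) (ha : t • a ≠ a)
    (h : ∀ c, Orb M a c → c ≠ a → ∃ u ∈ Q, u • t • a = c) :
    R1 M (orbit M a) (pt (Orb.refl M a)) ⟨t, htM⟩ (Q.subgroupOf M) := by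
  have QM : Q ≤ M := hQ.trans inf_le_left
  have C : Concl M a Q := ⟨hQ, hn, fun b c hb hc n1 n2 => by
    obtain ⟨u, hu, rfl⟩ := h b hb n1
    obtain ⟨v, hv, rfl⟩ := h c hc n2
    exact ⟨v * u⁻¹, mul_mem hv (inv_mem hu), by rw [mul_smul, inv_smul_smul]⟩,
    fun q hq b hb n e => by rw [S.two_eq_one n (h2.elt hq) (hQ hq).2 e]; exact one_mem _⟩
  have e2 : ∀ g : M, g ∈ stabilizer M (pt (Orb.refl M a)) ↔ (g : G) • a = a := fun g => Subtype.ext_iff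
  have e3 : ∀ g : M, g ∈ stabilizer M ((⟨t, htM⟩ : M) • pt (Orb.refl M a)) ↔ (g : G) • t • a = t • a :=
    fun g => Subtype.ext_iff
  refine ⟨mp_of_tr2 fun b c d e n1 n2 => ?_, Subtype.ext (mul_self_of_ord ht),
    mt (congrArg Subtype.val) (ord2_iff.1 ht).2, mt (e2 _).1 ha, fun u hu => (e2 u).2 (hQ hu).2,
    fun g hg u hu => conj_mem (A := Q) (g := (g : G)) (x := (u : G)) (hn ⟨g.2, (e2 g).1 hg⟩) hu,
    (eq_bot_iff_forall _).2 fun u hu => Subtype.ext (S.two_eq_one ha (h2.elt hu.1) (hQ hu.1).2 ((e3 u).1 hu.2)),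
    le_antisymm (sup_le (fun u hu => (e2 u).2 (hQ hu).2) inf_le_left) fun g hg => ?_, ?_, ?_⟩
  · obtain ⟨m, hm, e1, e2⟩ := C.tr2 (orb_coe b) (orb_coe c) (orb_coe d) (orb_coe e)
      (fun e => n1 (Subtype.ext e)) (fun e => n2 (Subtype.ext e))
    exact ⟨⟨m, hm⟩, Subtype.ext e1, Subtype.ext e2⟩
  · obtain ⟨u, hu, e⟩ := h _ ((orb_smul htM a).smul g.2)
      fun e => ha (smul_left_cancel (g : G) (e.trans ((e2 g).1 hg).symm))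
    rw [show g = ⟨u, QM hu⟩ * (⟨u, QM hu⟩⁻¹ * g) by simp]
    refine mul_mem_sup hu ⟨(e2 _).2 ?_, (e3 _).2 ?_⟩
    · change (u⁻¹ * g) • a = a
      rw [mul_smul, (e2 g).1 hg, inv_smul_eq_iff, (hQ hu).2]
    · change (u⁻¹ * g) • t • a = t • a
      rw [mul_smul, ← e, inv_smul_smul]
  · rw [Nat.card_congr (subgroupOfEquivOfLe QM).toEquiv]; exact even_iff_two_dvd.2 (h2.dvd h1)
  · have : stabilizer M (pt (Orb.refl M a)) ⊓ stabilizer M ((⟨t, htM⟩ : M) • pt (Orb.refl M a)) =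
        (St2 G a (t • a)).subgroupOf M := by
      ext g; rw [mem_inf, e2, e3]; rfl
    rw [this]
    exact (S.odd_St2 ha.symm).of_dvd_nat (card_comap_dvd_of_injective _ _ M.subtype_injective)

/-- `O₂(C_H(X))` is transitive on the fixed points of `X` other than `a` -/
def Nice (a b : Ω) (X : Subgroup G) : Prop :=
  ∀ c, c ≠ a → X ≤ St G c → ∃ u ∈ O[{2}](St G a ⊓ C[X]), u • b = c

theorem norm_SX (a : Ω) (X : Subgroup G) : St G a ⊓ N[X] ≤ N[O[{2}](St G a ⊓ C[X])] :=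
  normO _ (normI (normsG inf_le_left) (normC inf_le_right))

theorem Nice.norm (h : Nice a b X) (S : Fix1 G Ω) (hb : b ≠ a) (h1 : X ≤ X') (h2 : X' ≤ St2 G a b)
    (h3 : X' ≤ N[X]) : Nice a b X' := by
  intro c hc hX
  obtain ⟨u, hu, e⟩ := h c hc (h1.trans hX)
  refine ⟨u, O_inf_le {2} (inf_le_inf_left _ (centS h1)) (mem_inf.2 ⟨hu, (O_le _ _ hu).1, ?_⟩), e⟩
  refine mem_C.2 fun y hy => ?_
  have m := mul_mem (inv_mem hu) (conj_mem (norm_SX a X ⟨(h2 hy).1, h3 hy⟩) hu)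
  have := S.two_eq_one hb ((O_pig _ _).elt m) (O_le _ _ m).1 (by
    rw [mul_smul, mul_smul, mul_smul, inv_smul_eq_iff.2 (h2 hy).2.symm, e, hX hy, ← e, inv_smul_smul])
  rw [inv_mul_eq_one, eq_mul_inv_iff_mul_eq] at this
  exact this.symm

theorem Nice.pgroup (h : Nice a b X) (S : Fix1 G Ω) (hb : b ≠ a) (h2 : P ≤ St2 G a b) (hP : Nil P)
    (h1 : X ≤ P) : Nice a b P := by
  induction X using gt_wf_ind with
  | h X ih =>
  rcases h1.eq_or_lt with rfl | l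
  · exact h
  · have := hP.lt_norm l
    exact ih _ this (h.norm S hb this.le (inf_le_left.trans h2) inf_le_right) inf_le_left

theorem exists_third (h : ¬ Nice a b X) : ∃ c, c ≠ a ∧ c ≠ b ∧ X ≤ St G c := by
  by_contra n
  refine h fun c hc hX => ⟨1, one_mem _, ?_⟩
  by_contra e
  exact n ⟨c, hc, fun e' => e (by rw [one_smul, e']), hX⟩

namespace CS
variable (S : CS G Ω a t)
include S

local notation "𝓗" => St G a
local notation "𝓓" => St2 G a (t • a)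
local notation "𝓥" => St2 G a (t • a) ⊓ centralizer (Singleton.singleton t : Set G)

theorem F : Fix1 G Ω := S.toMC.toFix1
theorem odd : Odd #𝓓 := S.F.odd_St2 S.ne.symm
theorem tD : t ∈ N[𝓓] := norm_St2 S.ord a
theorem sol : Sol 𝓓 := sol_of_odd S.odd
theorem swap (hu : orderOf u = 2) (h : u • a = t • a) : CS G Ω a u :=
  { S with ord := hu, ne := h ▸ S.ne }

theorem exists_cent (h : ¬ Nice a (t • a) X) (hX : X ≤ 𝓓) : ∃ u ∈ C[X], orderOf u = 2 ∧ u • a = t • a := by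
  obtain ⟨c, h1, h2, h3⟩ := exists_third h
  exact S.good X a _ c S.ne.symm h1.symm h2.symm (hX.trans inf_le_left) (hX.trans inf_le_right) h3

/-- the fixed point of `t` -/
theorem exists_fix : ∃ c, t • c = c ∧ c ≠ a ∧ c ≠ t • a ∧ C1[t] ≤ St G c := by
  obtain ⟨c, hc⟩ := S.ex t S.ord
  have n : a ≠ c := fun e => S.ne (e ▸ hc)
  exact ⟨c, hc, n.symm, (S.F.smul_ne S.ord hc n).symm, S.F.C1_le S.ord hc⟩

theorem orb_of_fix (hY : Y ≤ 𝓥) (hc : Y ≤ St G c) : Orb C[Y] a c := by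
  obtain ⟨d, -, d1, d2, d3⟩ := S.exists_fix
  have Ya : Y ≤ 𝓗 := hY.trans (inf_le_left.trans inf_le_left)
  have Yb : Y ≤ St G (t • a) := hY.trans (inf_le_left.trans inf_le_right)
  by_cases e : a = c
  · exact e ▸ Orb.refl _ _
  by_cases e' : c = t • a
  · exact ⟨t, le_C1_iff.1 (hY.trans inf_le_right), e'.symm⟩
  obtain ⟨u, hu, -, h⟩ := S.good Y a c _ e S.ne.symm e' Ya hc Yb
  exact ⟨u, hu, h⟩

theorem exists_iv (hY : Y ≤ 𝓥) (hM : C[Y] ≤ M) : ∃ s, s ∈ Iv M a := by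
  obtain ⟨c, hc, -, -, h⟩ := S.exists_fix
  exact S.F.exists_iv S.ord (hM (le_C1_iff.1 (hY.trans inf_le_right))) hc
    ((S.orb_of_fix hY ((hY.trans inf_le_right).trans h)).symm.mono hM)

theorem four_of (hY : Y ≤ 𝓥) (hM : C[Y] ≤ M) (hk : k ∈ invertedBy 𝓓 t) (kY : k ∈ C[Y]) (k1 : k ≠ 1) :
    FourIn (M ⊓ 𝓗) := by
  obtain ⟨c, hc, ca, -, h⟩ := S.exists_fix
  obtain ⟨s, hs⟩ := S.exists_iv hY hM
  have tM : t ∈ M := hM (le_C1_iff.1 (hY.trans inf_le_right))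
  have o : Orb M a c := (S.orb_of_fix hY ((hY.trans inf_le_right).trans h)).mono hM
  have nM : ¬ M ≤ St G c := not_le_St_orb (fun e => S.ne (e tM)) o
  refine S.F.four_St S.ord tM hc nM (by_contra fun n => ?_) o.symm
  have := S.F.nI_eq_one S.g1 S.ord tM hc nM n
  rw [← S.F.nI_orb o, ← S.F.kc_eq_nI S.ord tM S.ne hs, kc, Set.ncard_eq_one] at this
  obtain ⟨z, hz⟩ := this
  have h1 : k ∈ invertedBy (M ⊓ 𝓓) t := ⟨⟨hM kY, hk.1⟩, hk.2⟩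
  have h2 : (1 : G) ∈ invertedBy (M ⊓ 𝓓) t := ⟨one_mem _, by simp⟩
  rw [hz] at h1 h2
  exact k1 (h1.trans h2.symm)

/-- (c1) -/
theorem nice (hY : Y ≤ 𝓥) (Y1 : Y ≠ ⊥) (hk : k ∈ invertedBy 𝓓 t) (kY : k ∈ C[Y]) (k1 : k ≠ 1) :
    Nice a (t • a) Y := by
  obtain ⟨c, hc, ca, cb, h⟩ := S.exists_fix
  have YD : Y ≤ 𝓓 := hY.trans inf_le_left
  have tM : t ∈ N[Y] := C_le_N Y (le_C1_iff.1 (hY.trans inf_le_right))
  have nM : ¬ N[Y] ≤ 𝓗 := fun e => S.ne (e tM)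
  have h4 := S.four_of hY (C_le_N Y) hk kY k1
  obtain ⟨s, hs⟩ := S.exists_iv hY (C_le_N Y)
  obtain ⟨Q, hQ⟩ := S.ih N[Y] (S.toMC.N_ne_top' Y1 (odd_of_le S.odd YD)) a h4 nM
  have R := hQ.r1 S.F hs S.ord tM S.ne
  have h4' := S.F.pm_four nM (h4.mono inf_le_left)
  have QM : Q ≤ N[Y] := hQ.le.trans inf_le_left
  have o : Orb N[Y] a c := (S.orb_of_fix hY ((hY.trans inf_le_right).trans h)).mono (C_le_N Y)
  have Y0 : Y ≤ Ker N[Y] a := le_Ker (normG Y) le_rfl (YD.trans inf_le_left)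
  obtain ⟨u, hu, u2, ua⟩ := S.good (Ker N[Y] a) a _ c S.ne.symm ca.symm cb.symm
    (Ker_le_St (Orb.refl _ a)) (Ker_le_St (orb_smul tM a)) (Ker_le_St o)
  have uM : u ∈ N[Y] := C_le_N Y (centS Y0 hu)
  set L := N[Y] ⊓ C[Ker N[Y] a] with hL
  have nL : N[Y] ≤ N[L] := normI (normG _) (normC (Ker_norm _ _))
  have : ((pm N[Y] a).im L).Normal := normal_iff.2 (pm_im N[Y] a ▸ PHom.im_norm nL)
  have QL := (R.le_of_normal h4' (N := (pm N[Y] a).im L) (ne_bot_of_mem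
    (PHom.app_mem_im (φ := pm N[Y] a) (mem_inf.2 ⟨uM, hu⟩) uM) (ord2_iff.1 (S.F.pm_ord nM u2 uM)).2)).2.1
  have Q2 : PiG {2} ((pm N[Y] a).im Q) := pig_of_pg Nat.prime_two (R.isTT h4').two
  set Q₁ := L ⊓ (pm N[Y] a).pre ((pm N[Y] a).im Q) with hQ₁
  have l1 : Q₁ ≤ N[Y] := inf_le_left.trans inf_le_left
  have i1 : (pm N[Y] a).im Q₁ = (pm N[Y] a).im Q := by rw [PHom.im_inf_pre, inf_eq_right.2 QL]
  have n1 : Nil Q₁ := nil_of_im_cent (φ := pm N[Y] a) l1 (by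
    rw [pm_ker]; exact cent_symm ((inf_le_left.trans inf_le_right).trans (centS inf_le_right))) (i1 ▸ Q2.nil)
  have i2 : (pm N[Y] a).im O[{2}](Q₁) = (pm N[Y] a).im Q := by
    rw [(n1.hall_O {2}).im_eq (φ := pm N[Y] a) l1 (i1 ▸ Q2), i1]
  have l2 : Q₁ ≤ 𝓗 := inf_le_right.trans (by
    rw [PHom.pre_im (φ := pm N[Y] a) QM, pm_ker]
    exact sup_le (hQ.le.trans inf_le_right) (Ker_le_St (Orb.refl _ a)))
  have n2 : N[Y] ⊓ 𝓗 ≤ N[Q₁] := normI (inf_le_left.trans nL)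
    (PHom.norm_pre (φ := pm N[Y] a) inf_le_left (PHom.im_norm hQ.norm))
  have l3 : O[{2}](Q₁) ≤ O[{2}](𝓗 ⊓ C[Y]) := le_O ((O_le _ _).trans (le_inf l2
    ((inf_le_left.trans inf_le_right).trans (centS Y0))))
    ((le_inf (inf_le_right.trans (C_le_N Y)) inf_le_left).trans (normO _ n2)) (O_pig _ _)
  intro d da hd
  obtain ⟨q, hq, e⟩ := hQ.trans _ d (orb_smul tM a) ((S.orb_of_fix hY hd).mono (C_le_N Y)) S.ne da
  obtain ⟨v, hv, e'⟩ := (PHom.mem_im' ((O_le _ _).trans l1)).1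
    (i2.ge (PHom.app_mem_im (φ := pm N[Y] a) hq (QM hq)))
  refine ⟨v, l3 hv, ?_⟩
  have := pm_smul (QM hq) (pt (orb_smul tM a))
  rw [← e', pm_smul (l1 (O_le _ _ hv))] at this
  exact this.trans e

theorem mem_C_of_inv (hY : Y ≤ 𝓥) (hk : k ∈ invertedBy 𝓓 t) (h : k ∈ N[Y]) : k ∈ C[Y] := by
  have tC : t ∈ C[Y] := le_C1_iff.1 (hY.trans inf_le_right)
  refine mem_of_sq_mem (odd_ord_of_mem S.odd hk.1) ?_
  have := mul_mem (conj_mem (normC le_rfl h) tC) (inv_mem tC)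
  rwa [show k * t * k⁻¹ * t⁻¹ = k * (t * k * t⁻¹)⁻¹ by group, hk.2, inv_inv] at this

theorem exists_ne (h : KY 𝓓 t Y ≠ ⊥) : ∃ k ∈ invertedBy 𝓓 t, k ∈ C[Y] ∧ k ≠ 1 := by
  by_contra n
  refine h (eq_bot_iff.2 (tc_le_of fun k hk => by_contra fun e => n ⟨k, ⟨hk.1.1, hk.2⟩, hk.1.2, e⟩))

/-- (c2): the rank one setup in `N(Y)` -/
theorem r1 (hY : Y ≤ 𝓥) (Y1 : Y ≠ ⊥) (h : KY 𝓓 t Y ≠ ⊥) :
    ∃ (tM : t ∈ N[Y]) (Q : Subgroup N[Y]) (R : R1 N[Y] (orbit N[Y] a) (pt (Orb.refl N[Y] a)) ⟨t, tM⟩ Q)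
      (h2 : Four N[Y]), (R.K h2).map N[Y].subtype = KY 𝓓 t Y ∧
      ∀ v : N[Y], v ∈ V1 N[Y] (pt (Orb.refl N[Y] a)) ⟨t, tM⟩ ↔ (v : G) ∈ 𝓥 := by
  obtain ⟨k, hk, kY, k1⟩ := S.exists_ne h
  have hn := S.nice hY Y1 hk kY k1
  obtain ⟨c, hc, ca, cb, h⟩ := S.exists_fix
  have tM : t ∈ N[Y] := C_le_N Y (le_C1_iff.1 (hY.trans inf_le_right))
  have R := S.F.r1_sub (M := N[Y]) (Q := O[{2}](𝓗 ⊓ C[Y]))
    ((O_le _ _).trans (le_inf (inf_le_right.trans (C_le_N Y)) inf_le_left))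
    (inf_comm N[Y] 𝓗 ▸ norm_SX a Y) (O_pig _ _) (fun e => by
      obtain ⟨u, hu, e'⟩ := hn c ca ((hY.trans inf_le_right).trans h)
      rw [e, mem_bot] at hu
      exact cb (by rw [← e', hu, one_smul])) S.ord tM S.ne (by
      rintro _ ⟨m, hm, rfl⟩ n
      exact hn _ n (fix_smul hm (hY.trans (inf_le_left.trans inf_le_left))))
  obtain ⟨x, hx, y, hy, h1, h2, h3, h4⟩ := S.four_of hY (C_le_N Y) hk kY k1
  have h2 : Four N[Y] := four_sub hx.1 hy.1 (ord2_iff.1 h1).2 (ord2_iff.1 h2).2 h3 (ord2_iff.1 h1).1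
    (ord2_iff.1 h2).1 h4
  have e : ∀ g : N[Y], g ∈ St2 N[Y] (pt (Orb.refl N[Y] a)) ((⟨t, tM⟩ : N[Y]) • pt (Orb.refl N[Y] a)) ↔
      (g : G) ∈ 𝓓 := fun g => and_congr Subtype.ext_iff Subtype.ext_iff
  have e' : ∀ g : G, g ∈ (R.K h2).map N[Y].subtype ↔ g ∈ invertedBy (𝓓 ⊓ C[Y]) t := fun g =>
    ⟨fun ⟨z, hz, e1⟩ => by
      have h5 : (z : G) ∈ invertedBy 𝓓 t := ⟨(e z).1 hz.1, congrArg Subtype.val hz.2⟩
      exact e1 ▸ ⟨⟨h5.1, S.mem_C_of_inv hY h5 z.2⟩, h5.2⟩,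
    fun hg => ⟨⟨g, C_le_N Y hg.1.2⟩, ⟨(e _).2 hg.1.1, Subtype.ext hg.2⟩, rfl⟩⟩
  refine ⟨tM, _, R, h2, le_antisymm (fun g hg => mem_tc ((e' g).1 hg)) (tc_le_of fun g hg => (e' g).2 hg),
    fun v => and_congr (e v) ?_⟩
  change v ∈ C1[_] ↔ (v : G) ∈ C1[t]
  rw [mem_C1, mem_C1, Subtype.ext_iff]; rfl

theorem cyc (hY : Y ≤ 𝓥) (Y1 : Y ≠ ⊥) : Cyc (KY 𝓓 t Y) := by
  by_cases h : KY 𝓓 t Y = ⊥
  · exact h ▸ cyc_bot
  obtain ⟨tM, Q, R, h2, e, -⟩ := S.r1 hY Y1 h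
  exact e ▸ Cyc.map (R.isCyclic_K h2) _

theorem ld (hp : p.Prime) (xp : orderOf x = p) (hx : x ∈ 𝓥)
    (hb : ∀ k ∈ invertedBy 𝓓 t, k ∈ C1[x] → k = 1) : LD 𝓓 t x p := by
  have key : ∀ Y ≤ 𝓥, Y ≠ ⊥ → x ∈ N[Y] → KY 𝓓 t Y ≠ ⊥ → #(KY 𝓓 t Y) + 1 = 2 ^ p ∧
      ∀ w ∈ 𝓥 ⊓ N[Y], ∃ y ∈ zpowers x, w * y ∈ C[KY 𝓓 t Y] := fun Y hY Y1 xY h => by
    obtain ⟨tM, Q, R, h2, e, e'⟩ := S.r1 hY Y1 h
    obtain ⟨g1, g2⟩ := R.loc h2 (x := ⟨x, xY⟩) ((e' _).2 hx) hp (by rw [← xp]; exact (orderOf_coe _).symm)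
      ((eq_bot_iff_forall _).2 fun k hk => Subtype.ext (hb k ⟨(R.K_le h2 hk.1).imp (congrArg Subtype.val)
        (congrArg Subtype.val), congrArg Subtype.val hk.1.2⟩ (mem_C1.2 (congrArg Subtype.val (mem_C1.1 hk.2)))))
    refine ⟨by rw [← e, card_map_inj N[Y].subtype_injective, g1], fun w hw => ?_⟩
    obtain ⟨_, ⟨m, rfl⟩, h⟩ := g2 ⟨w, hw.2⟩ ((e' _).2 hw.1)
    refine ⟨_, ⟨m, rfl⟩, e ▸ mem_C.2 ?_⟩
    rintro _ ⟨k, hk, rfl⟩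
    exact congrArg Subtype.val (mem_C1.1 (h hk))
  exact ⟨S.ord, S.odd, S.tD, hp, xp, hx, hb, fun Y => S.cyc, fun Y h1 h2 h3 h4 => (key Y h1 h2 h3 h4).1,
    fun Y h1 h2 h3 h4 => (key Y h1 h2 h3 h4).2⟩

end CS

end Cfsg.Agent.SE
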