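import Cfsg.Agent.SE.C0

/-!
# C1: control of fusion and transfer in `H`

A `p`-subgroup of `D` that is not nice is cyclic.  For `L ≤ H` containing the groups `O₂(C_H(X))`, a nice Sylow
`p`-subgroup `P` of `L ⊓ D` is Sylow in `L`, and `L ⊓ D` controls fusion in `P`.
-/

set_option autoImplicit false
set_option linter.unusedVariables false
set_option linter.unusedSectionVars false

namespace Cfsg.Agent.SE
open Cfsg Cfsg.Agent.BG Cfsg.Agent.Inv MulAction Subgroup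

variable {G Ω : Type*} [Group G] [Finite G] [MulAction G Ω]
variable {D E M Q X Y P L : Subgroup G} {a b c d : Ω} {t s u k g x y : G} {p : ℕ}

theorem kc_modEq (hp : p.Prime) (xp : orderOf x = p) (h1 : x ∈ N[D]) (h2 : x ∈ C1[t])
    (hb : ∀ k ∈ invertedBy D t, k ∈ C1[x] → k = 1) : kc t D ≡ 1 [MOD p] := by
  have := ncard_modEq (X := invertedBy D t) (Set.toFinite _) (f := fun y => x * y * x⁻¹)
    (fun k hk => ⟨conj_mem h1 hk.1, by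
      calc t * (x * k * x⁻¹) * t⁻¹ = (t * x) * k * (t * x)⁻¹ := by group
        _ = x * (t * k * t⁻¹) * x⁻¹ := by rw [← mem_C1.1 h2]; group
        _ = _ := by rw [hk.2]; group⟩) hp
    (fun y _ => by rw [conj_iterate, ← xp, pow_orderOf_eq_one]; simp)
  rwa [show {y ∈ invertedBy D t | x * y * x⁻¹ = y} = {1} from Set.ext fun k =>
    ⟨fun h => hb k h.1 (mem_C1'.2 (mul_inv_eq_iff_eq_mul.1 h.2)),
      fun h => by rw [h]; exact ⟨⟨one_mem _, by simp⟩, by simp⟩⟩, Set.ncard_singleton] at this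

/-- a bad element of order `p` makes `[D,t]` a `p'`-group -/
theorem tc_pig (ht : orderOf t = 2) (hD : Odd #D) (hn : t ∈ N[D]) (hp : p.Prime) (xp : orderOf x = p)
    (hx : x ∈ D ⊓ C1[t]) (hb : ∀ k ∈ invertedBy D t, k ∈ C1[x] → k = 1) : PiG {p}ᶜ (tc t D) := by
  have h1 : ¬ p ∣ kc t D := fun h => hp.one_lt.ne' (Nat.dvd_one.1
    (((kc_modEq hp xp (normG D hx.1) hx.2 hb).dvd_iff dvd_rfl).1 h))
  obtain ⟨P, hP⟩ := syl_exists hp (D ⊓ C1[t])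
  have h2 : (D ⊓ C1[t]).relIndex D = kc t D := Nat.eq_of_mul_eq_mul_left (card_pos (D ⊓ C1[t]))
    (by rw [card_mul_relIndex inf_le_left, ← kc_mul ht hD hn])
  have h3 : Syl p P D := hP.trans' inf_le_left (h2 ▸ (pin_compl hp).2 h1)
  rw [tc_eq_comm ht hD hn]
  exact (O_pig _ _).of_le (cop_comm_le_O (π := {p}ᶜ) (zp_le hn) (cop_t ht hD) (sol_of_odd hD)
    (by rwa [compl_compl]) (C_zpowers t ▸ hP.le.trans inf_le_right))

/-- a Sylow subgroup outside the derived group gives a normal subgroup of `p`-power index -/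
theorem exists_lt_of_not_le (hp : p.Prime) (hP : Syl p P L) (h : ¬ P ≤ ⁅L, L⁆) :
    ∃ L₁ < L, N[L] ≤ N[L₁] ∧ IsProd L₁ P L := by
  have n := der_norm L
  have l : OM {p}ᶜ ⁅L, L⁆ L ≤ L := OM_le (der_le L) n
  refine ⟨OM {p}ᶜ ⁅L, L⁆ L, l.lt_of_ne fun e => h (hP.pi.le_of_idx n hP.le ?_),
    normOM (normD le_rfl) le_rfl, (hP.prod_idx l ?_).symm⟩
  · have := OM_idx {p}ᶜ ⁅L, L⁆ L
    rwa [e] at this
  · have := (((quo_abel_iff n).2 le_rfl).nil.hall_O {p}ᶜ).idx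
    rwa [← OM_quo, compl_compl, PHom.relIndex_im (φ := quo _) (l.trans n) n
      (by rw [quo_ker]; exact le_OM_self _ _ _)] at this

theorem Nice.prod (h : Nice a b X) (hb : b ≠ a) (hX : X ≤ St2 G a b) (hL : L ≤ St G a)
    (h1 : O[{2}](St G a ⊓ C[X]) ≤ L) (hg : g ∈ L) (h2 : cj g X ≤ St G b) :
    ∃ e ∈ L ⊓ St2 G a b, ∃ u ∈ O[{2}](St G a ⊓ C[X]), g = e * u := by
  obtain ⟨u, hu, e⟩ := h (g⁻¹ • b) (fun e => hb (by rw [inv_smul_eq_iff.1 e, hL hg]))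
    (by rw [← cj_St]; exact cj_le_iff.1 h2)
  have m := mul_mem hg (h1 hu)
  exact ⟨g * u, ⟨m, hL m, mem_St.2 (by rw [mul_smul, e, smul_inv_smul])⟩, u⁻¹, inv_mem hu, by group⟩

theorem Nice.syl (h : Nice a b P) (hb : b ≠ a) (hp : p.Prime) (p2 : p ≠ 2) (hL : L ≤ St G a)
    (hP : Syl p P (L ⊓ St2 G a b)) (h1 : O[{2}](St G a ⊓ C[P]) ≤ L) : Syl p P L := by
  have PD : P ≤ St2 G a b := hP.le.trans inf_le_right
  have l : O[{2}](St G a ⊓ C[P]) ≤ N[P] := (O_le _ _).trans (inf_le_right.trans (C_le_N P))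
  have pr : IsProd (L ⊓ St2 G a b ⊓ N[P]) O[{2}](St G a ⊓ C[P]) (L ⊓ N[P]) :=
    ⟨inf_le_inf_right _ inf_le_left, le_inf h1 l, fun g hg => by
      obtain ⟨e, he, u, hu, rfl⟩ := h.prod hb PD hL h1 hg.1
        (by rw [cj_of_mem_N hg.2]; exact PD.trans inf_le_right)
      exact ⟨e, ⟨he, (mul_mem_cancel_right (l hu)).1 hg.2⟩, u, hu, rfl⟩⟩
  refine Syl.of_norm ((hP.sub (le_inf hP.le (normG P)) inf_le_left).trans' pr.left ?_) hp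
  rw [pr.relIndex]
  exact ((O_pig _ _).relIndex _).ne_compl p2.symm

/-- control of fusion: `L ⊓ D` controls fusion modulo centralizers -/
theorem fusion (hp : p.Prime) (hP : Syl p P L) (hE : P ≤ E) (hEL : E ≤ L) (G0 : Subgroup G → Prop)
    (h0 : G0 P) (h1 : ∀ X ≤ P, ¬ G0 X → Cyc X)
    (h2 : ∀ X ≤ P, G0 X → ∀ g ∈ L, cj g X ≤ P → ∃ e ∈ E, ∃ c ∈ L ⊓ C[X], g = e * c) :
    ∀ X ≤ P, ∀ g ∈ L, cj g X ≤ P → ∃ e ∈ E, ∃ c ∈ L ⊓ C[X], g = e * c := by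
  intro X
  induction hn : #P - #X using Nat.strong_induction_on generalizing X with
  | h n ih =>
  intro hX g hg hgX
  by_cases n : G0 X
  · exact h2 X hX n g hg hgX
  have cy := h1 X hX n
  have lt : X < P := hX.lt_of_ne fun e => n (e ▸ h0)
  replace ih : ∀ Y ≤ P, #X < #Y → ∀ g ∈ L, cj g Y ≤ P → ∃ e ∈ E, ∃ c ∈ L ⊓ C[Y], g = e * c :=
    fun Y hY l => ih _ (by have := card_le hY; omega) Y rfl hY
  obtain ⟨R, hR, h3⟩ := syl_superset (M := L ⊓ N[X]) hp (U := P ⊓ N[X]) (inf_le_inf_right _ hP.le)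
    (hP.pi.of_le inf_le_left)
  obtain ⟨h, hh, h4⟩ := hP.cj_sub hp (hR.le.trans inf_le_left) hR.pi
  have l1 := hP.pi.nil.lt_norm lt
  have XR : X < R := l1.trans_le h3
  have l2 := hP.pi.nil.lt_norm (hgX.lt_of_ne fun e => (card_lt lt).ne (by rw [← e, card_cj]))
  obtain ⟨e₀, he₀, c₀, hc₀, e0⟩ := ih _ inf_le_left (card_lt l1) h hh ((cj_mono h h3).trans h4)
  obtain ⟨m, hm, h5⟩ := hR.cj_sub hp (U := cj g⁻¹ (P ⊓ N[cj g X])) (by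
    rw [cj_le_iff, inv_inv, cj_inf, cj_of_mem hg, cj_N]; exact inf_le_inf_right _ hP.le)
    ((hP.pi.of_le inf_le_left).cj _)
  obtain ⟨e₁, he₁, c₁, hc₁, e1⟩ := ih _ inf_le_left (card_cj g X ▸ card_lt l2) (h * m * g⁻¹)
    (mul_mem (mul_mem hh hm.1) (inv_mem hg)) (by rw [cj_mul, cj_mul]; exact (cj_mono h h5).trans h4)
  have nC : R ≤ N[L ⊓ C[X]] := normI (normsG (hR.le.trans inf_le_left)) (normC (hR.le.trans inf_le_right))
  have l3 : L ⊓ C[X] ⊔ R ≤ L ⊓ N[X] := sup_le (inf_le_inf_left _ (C_le_N X)) hR.le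
  obtain ⟨m₁, hm₁, l, hl, rfl⟩ := (Syl.frattini (hR.sub le_sup_right l3) hp l3 (norm_of_der_le
    ((le_inf ((der_le _).trans inf_le_left) (cy.der_cent inf_le_right)).trans le_sup_left) l3)).symm.ex m hm
  obtain ⟨r, hr, c₂, hc₂, rfl⟩ := (mem_sup_r nC).1 (sup_comm (L ⊓ C[X]) R ▸ hl)
  have m1 : m₁ * r ∈ L ⊓ N[R] := ⟨mul_mem hm₁.1.1 (hR.le hr).1, mul_mem hm₁.2 (normG R hr)⟩
  obtain ⟨e₂, he₂, c₃, hc₃, e2⟩ := ih _ h4 (by rw [card_cj]; exact card_lt XR) (h * (m₁ * r) * h⁻¹)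
    (mul_mem (mul_mem hh m1.1) (inv_mem hh)) (by
      rw [cj_mul, cj_inv_cj, cj_mul, cj_of_mem_N m1.2]; exact h4)
  have k1 : g⁻¹ * c₁ * g ∈ L ⊓ C[X] := mem_inf.2 ⟨mul_mem (mul_mem (inv_mem hg) hc₁.1) hg,
    mem_cj.1 (by rw [cj_C]; exact centS l2.le hc₁.2)⟩
  have k3 : h⁻¹ * c₃ * h ∈ L ⊓ C[X] := mem_inf.2 ⟨mul_mem (mul_mem (inv_mem hh) hc₃.1) hh,
    centS XR.le (mem_cj.1 (by rw [cj_C]; exact hc₃.2))⟩
  refine ⟨e₁⁻¹ * e₂ * e₀, mul_mem (mul_mem (inv_mem he₁) he₂) he₀,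
    c₀ * (h⁻¹ * c₃ * h) * c₂ * (g⁻¹ * c₁ * g)⁻¹, mul_mem (mul_mem (mul_mem
      (mem_inf.2 ⟨hc₀.1, centS l1.le hc₀.2⟩) k3) hc₂) (inv_mem k1), ?_⟩
  rw [eq_mul_inv_of_mul_eq e1.symm, eq_mul_inv_of_mul_eq e2.symm, eq_mul_inv_of_mul_eq e0.symm]
  group

/-- `Q` is minimal among the normal subgroups of `G_a` that are transitive on the other points -/
structure MinQ (a b : Ω) (Q : Subgroup G) : Prop where
  norm : St G a ≤ N[Q]
  prod : IsProd Q (St2 G a b) (St G a)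
  min : ∀ L ≤ Q, St G a ≤ N[L] → IsProd L (St2 G a b) (St G a) → L = Q

theorem exists_minQ (h1 : St G a ≤ N[L]) (h2 : IsProd L (St2 G a b) (St G a)) : ∃ Q ≤ L, MinQ a b Q := by
  obtain ⟨Q, l, h, m⟩ := exists_minimal (P := fun Q => St G a ≤ N[Q] ∧ IsProd Q (St2 G a b) (St G a)) ⟨h1, h2⟩
  exact ⟨Q, l, h.1, h.2, fun L l h1 h2 => m L ⟨h1, h2⟩ l⟩

/-- the subgroup generated by the involutions fixing `a` -/
def JJ (G : Type*) {Ω : Type*} [Group G] [MulAction G Ω] (a : Ω) : Subgroup G :=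
  closure (Iv (⊤ : Subgroup G) a)

theorem mem_JJ (h : s ∈ Iv (⊤ : Subgroup G) a) : s ∈ JJ G a := subset_closure h
theorem mem_C_JJ : g ∈ C[JJ G a] ↔ ∀ s ∈ Iv (⊤ : Subgroup G) a, s * g = g * s := by
  rw [← le_C1_iff, JJ, closure_le]; exact forall₂_congr fun _ _ => mem_C1
theorem Iv_conj (h : s ∈ Iv (⊤ : Subgroup G) a) (hg : g • a = a) : g * s * g⁻¹ ∈ Iv (⊤ : Subgroup G) a :=
  ⟨trivial, ord_conj h.2.1 g, by rw [mul_smul, mul_smul, inv_smul_eq_iff.2 hg.symm, h.2.2, hg]⟩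
theorem JJ_norm (a : Ω) : St G a ≤ N[JJ G a] := fun g hg => mem_N_of_cj_le
  (cj_le_iff.2 ((closure_le _).2 fun s hs => mem_cj_inv.2 (mem_JJ (Iv_conj hs hg))))

namespace CS
variable (S : CS G Ω a t)
include S

local notation "𝓗" => St G a
local notation "𝓓" => St2 G a (t • a)
local notation "𝓥" => St2 G a (t • a) ⊓ centralizer (Singleton.singleton t : Set G)

theorem bad (hX : X ≤ 𝓥) (hn : Nil X) (h : ¬ Nice a (t • a) X) (hy : y ∈ X) (y1 : y ≠ 1) :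
    ∀ k ∈ invertedBy 𝓓 t, k ∈ C1[y] → k = 1 := fun k hk ky => by_contra fun k1 =>
  h ((S.nice ((zp_le hy).trans hX) (ne_bot_of_mem (mem_zpowers y) y1) hk (C_zpowers y ▸ ky) k1).pgroup
    S.F S.ne (hX.trans inf_le_left) hn (zp_le hy))

theorem exists_K : ∃ k ∈ invertedBy 𝓓 t, k ≠ 1 := by
  refine exists_inv_ne S.ord S.odd S.tD fun h => ?_
  have := S.F.one_lt_nI (S.toMC.four' a)
  rw [← S.toMC.kc_D S.ord S.ne, (kc_eq_one S.ord S.odd S.tD).2 h] at this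
  exact this.false

theorem K_ne : tc t 𝓓 ≠ ⊥ := by
  obtain ⟨k, hk, k1⟩ := S.exists_K
  exact ne_bot_of_mem (mem_tc hk) k1

theorem cyc_aux (hp : p.Prime) (hX : X ≤ 𝓥) (hP : PiG {p} X) (h : ¬ Nice a (t • a) X) : Cyc X := by
  have XD : X ≤ 𝓓 := hX.trans inf_le_left
  refine odd_pgroup_rank1_cyc hP (odd_of_le S.odd XD) (pRank_le_of hp fun A hA => ?_)
  obtain ⟨x, hx, xp⟩ := cauchy hp hA.self.dvd
  have x1 : x ≠ 1 := fun e => hp.one_lt.ne' (by rw [← xp, e, orderOf_one])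
  have hT := tc_pig S.ord S.odd S.tD hp xp (hX (hA.le hx)) (S.bad hX hP.nil h (hA.le hx) x1)
  have oT := odd_of_le S.odd (tc_le t 𝓓)
  have := cop_gen_cent1 (H := C1[t]) hA.abel (hA.not_cyc hp) ((hA.le.trans XD).trans (tc_norm S.ord S.odd S.tD))
    (PiN.coprime' hT (hA.pig hp)).symm fun y hy y1 => by_contra fun n => by
      obtain ⟨k, hk, k1⟩ := exists_inv_ne S.ord (odd_of_le oT inf_le_left) (normI (zp_le (t_norm_tc t _))
        (normC1 (zp_le (C1_symm (hX (hA.le hy)).2))) (mem_zpowers t)) n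
      exact k1 (S.bad hX hP.nil h (hA.le hy) y1 k ⟨tc_le t _ hk.1.1, hk.2⟩ hk.1.2)
  exact S.K_ne ((tc_eq_bot S.ord S.odd S.tD).2 ((tc_eq_bot S.ord S.odd S.tD).1
    (by rw [← tc_tc, tc_eq_bot S.ord oT (t_norm_tc t _)]; exact this)))

theorem cyc_of_not_nice (hp : p.Prime) (hX : X ≤ 𝓓) (hP : PiG {p} X) (h : ¬ Nice a (t • a) X) : Cyc X := by
  obtain ⟨u, hu, u2, e⟩ := S.exists_cent h hX
  exact (S.swap u2 e).cyc_aux hp (le_inf (e ▸ hX) (le_C1_iff.2 hu)) hP (e ▸ h)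

theorem not_nice (hQ : MinQ a (t • a) Q) (hp : p.Prime) (hP : Syl p P (Q ⊓ 𝓓))
    (h : ¬ P ≤ ⁅Q ⊓ 𝓓, Q ⊓ 𝓓⁆) : ¬ Nice a (t • a) P := fun hn => by
  have PD : P ≤ 𝓓 := hP.le.trans inf_le_right
  have p2 : p ≠ 2 := hP.pi.ne_two (odd_of_le S.odd PD) fun e => h (e ▸ bot_le)
  have l : ∀ X, O[{2}](𝓗 ⊓ C[X]) ≤ Q := fun X => (O_pig _ _).le_of_idx hQ.norm ((O_le _ _).trans inf_le_left)
    (by rw [hQ.prod.relIndex, pin_compl Nat.prime_two, ← even_iff_two_dvd, Nat.not_even_iff_odd]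
        exact S.odd.of_dvd_nat (relIndex_dvd _ _))
  have hP' := hn.syl S.ne hp p2 hQ.prod.left hP (l P)
  have fu := fusion hp hP' hP.le inf_le_left (Nice a (t • a)) hn
    (fun X hX => S.cyc_of_not_nice hp (hX.trans PD) (hP.pi.of_le hX)) fun X hX n g hg h => by
      obtain ⟨e, he, u, hu, rfl⟩ := n.prod S.ne (hX.trans PD) hQ.prod.left (l X) hg (h.trans (PD.trans inf_le_right))
      exact ⟨e, he, u, ⟨l X hu, (O_le _ _ hu).2⟩, rfl⟩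
  have fo := focal_le (K := ⁅Q ⊓ 𝓓, Q ⊓ 𝓓⁆) hp hP' fun x hx g hg h => by
    obtain ⟨e, he, c, hc, rfl⟩ := fu _ (zp_le hx) g hg (by rw [cj_zpowers]; exact zp_le h)
    have := comm_mem (inv_mem (hP.le hx)) he
    rwa [show x⁻¹ * e * x⁻¹⁻¹ * e⁻¹ = x⁻¹ * (e * c * x * (e * c)⁻¹) by
      rw [mul_assoc e c x, ← mem_C.1 hc.2 x (mem_zpowers x)]; group] at this
  obtain ⟨L, l1, l2, l3⟩ := exists_lt_of_not_le hp hP' fun e => h ((le_inf le_rfl e).trans fo)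
  refine l1.ne (hQ.min L l1.le (hQ.norm.trans l2) ⟨l1.le.trans hQ.prod.left, inf_le_left, fun g hg => ?_⟩)
  obtain ⟨q, hq, d, hd, rfl⟩ := hQ.prod.ex g hg
  obtain ⟨l, hl, y, hy, rfl⟩ := l3.ex q hq
  exact ⟨l, hl, y * d, mul_mem (PD hy) hd, mul_assoc _ _ _⟩

/-- inverted elements fix only two points -/
theorem fix_K (hk : k ∈ invertedBy 𝓓 t) (k1 : k ≠ 1) (hc : k • c = c) (ca : c ≠ a) : c = t • a := by
  by_contra cb
  obtain ⟨u, hu, u2, e⟩ := S.good (zpowers k) a _ c S.ne.symm ca.symm (Ne.symm cb) (zp_le hk.1.1)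
    (zp_le hk.1.2) (zp_le hc)
  rw [C_zpowers, mem_C1] at hu
  have m : t * u ∈ 𝓓 := mem_St2.2 ⟨by rw [mul_smul, e, smul_smul_of_ord S.ord],
    by rw [mul_smul, ← e, smul_smul_of_ord u2, e]⟩
  have e1 : t * u * k * (t * u)⁻¹ = k⁻¹ := by rw [← hk.2, mul_assoc t u k, hu]; group
  have e2 : t * u ∈ C1[k] := mem_of_sq_mem (odd_ord_of_mem S.odd m) (mem_C1.2 (mul_inv_eq_iff_eq_mul.1 (by
    calc t * u * (t * u) * k * (t * u * (t * u))⁻¹ = t * u * (t * u * k * (t * u)⁻¹) * (t * u)⁻¹ := by group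
      _ = t * u * k⁻¹ * (t * u)⁻¹ := by rw [e1]
      _ = (t * u * k * (t * u)⁻¹)⁻¹ := by group
      _ = k := by rw [e1, inv_inv])))
  rw [mem_C1.1 e2, mul_inv_cancel_right] at e1
  exact k1 (eq_one_of_sq (odd_ord_of_mem S.odd hk.1) (by nth_rw 1 [e1]; exact inv_mul_cancel k))

theorem N_le (hk : k ∈ invertedBy 𝓓 t) (k1 : k ≠ 1) (h : k ∈ X) (hX : X ≤ 𝓓) : 𝓗 ⊓ N[X] ≤ 𝓓 := fun g hg =>
  ⟨hg.1, S.fix_K hk k1 (fix_smul hg.2 (hX.trans inf_le_right) h)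
    fun e => S.ne (smul_left_cancel g (e.trans hg.1.symm))⟩

/-- (NS) -/
theorem eq_of_mem (hQ : MinQ a (t • a) Q) (h1 : L ≤ Q) (h2 : 𝓗 ≤ N[L]) (hk : k ∈ invertedBy 𝓓 t) (k1 : k ≠ 1)
    (h : k ∈ L) : L = Q := by
  obtain ⟨_, ⟨m, rfl⟩, hp⟩ := exists_prime_pow_mem k1
  have hk' : k ^ m ∈ invertedBy 𝓓 t := ⟨zpow_mem hk.1 m, by rw [← conj_zpow, hk.2, inv_zpow]⟩
  have k1' : k ^ m ≠ 1 := fun e => hp.one_lt.ne' (by simp [e])
  obtain ⟨R, hR, l⟩ := syl_superset (M := L ⊓ 𝓓) hp (zp_le (mem_inf.2 ⟨zpow_mem h m, hk'.1⟩))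
    (pig_of_card' hp (card_zpowers' _))
  have n := S.N_le hk' k1' (l (mem_zpowers _)) (hR.le.trans inf_le_right)
  have LH := h1.trans hQ.prod.left
  have hR' : Syl _ R L := Syl.of_norm (hR.sub (le_inf (hR.le.trans inf_le_left) (normG R))
    (le_inf inf_le_left ((inf_le_inf_right _ LH).trans n))) hp
  exact hQ.min L h1 h2 ((hR'.frattini hp LH h2).mono le_rfl n LH inf_le_left)

theorem W_le : 𝓓 ⊓ C[JJ G a] ≤ 𝓥 ⊓ C[tc t 𝓓] := by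
  obtain ⟨s, hs⟩ := S.toMC.iv a
  have n : 𝓓 ≤ N[𝓓 ⊓ C[JJ G a]] := normI (normG _) (normC (inf_le_left.trans (JJ_norm a)))
  obtain ⟨u, hu, u2, e⟩ := S.good (𝓓 ⊓ C[JJ G a]) a (t • a) (s • t • a) S.ne.symm
    (S.F.smul_ne hs.2.1 hs.2.2 S.ne).symm (S.F.ne_smul hs.2.1 hs.2.2 S.ne).symm
    (inf_le_left.trans inf_le_left) (inf_le_left.trans inf_le_right) fun w hw => mem_St.2 (by
      rw [← mul_smul, ← mem_C_JJ.1 hw.2 s hs, mul_smul, hw.1.2])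
  obtain ⟨k, hk, rfl⟩ := S.F.swap_conj (M := ⊤) S.ord trivial S.ne u2 trivial e
  have tC : t ∈ C[𝓓 ⊓ C[JJ G a]] := by simpa [mul_assoc] using conj_mem' (normC n hk.1.2) hu
  exact le_inf (le_inf inf_le_left (le_C1_iff.2 tC)) (cent_symm (tc_le_of_norm S.ord S.odd tC (normC n)))

theorem exists_s : ∃ s ∈ Iv (⊤ : Subgroup G) a, 𝓥 ≤ C1[s] := by
  obtain ⟨s, hs⟩ := S.exists_iv le_rfl le_rfl
  exact ⟨s, ⟨trivial, hs.2⟩, le_C1_iff.2 hs.1⟩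

theorem K_trans (hs : s ∈ Iv (⊤ : Subgroup G) a) (hu : u ∈ Iv (⊤ : Subgroup G) a) :
    ∃ k ∈ invertedBy 𝓓 t, k * s * k⁻¹ = u := by
  obtain ⟨k, hk, e⟩ := S.F.K_trans S.ord (mem_top t) S.ne hs hu
  exact ⟨k, ⟨hk.1.2, hk.2⟩, e⟩

theorem le_W : 𝓥 ⊓ C[tc t 𝓓] ≤ 𝓓 ⊓ C[JJ G a] := fun w hw => ⟨hw.1.1, mem_C_JJ.2 fun u hu => by
  obtain ⟨s, hs, h⟩ := S.exists_s
  obtain ⟨k, hk, rfl⟩ := S.K_trans hs hu
  have h1 := C_le_C1 (mem_tc hk) hw.2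
  exact mem_C1.1 (mul_mem (mul_mem (C1_symm h1) (C1_symm (h hw.1))) (inv_mem (C1_symm h1)))⟩

/-- (C1) -/
theorem prod_W (h : 𝓓 ⊓ C[JJ G a] ≠ ⊥) : IsProd (𝓗 ⊓ C[JJ G a]) 𝓓 𝓗 := by
  obtain ⟨p, hp, hd⟩ := exists_prime_dvd h
  obtain ⟨P, hP⟩ := syl_exists hp (𝓓 ⊓ C[JJ G a])
  have l := hP.le.trans S.W_le
  obtain ⟨k, hk, k1⟩ := S.exists_K
  have KP : tc t 𝓓 ≤ C[P] := cent_symm (l.trans inf_le_right)
  have hn := S.nice (l.trans inf_le_left) (hP.ne_bot' hp hd) hk (KP (mem_tc hk)) k1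
  obtain ⟨c, hc, ca, cb, h⟩ := S.exists_fix
  have n0 : O[{2}](𝓗 ⊓ C[P]) ≠ ⊥ := fun e => by
    obtain ⟨u, hu, e'⟩ := hn c ca ((l.trans (inf_le_left.trans inf_le_right)).trans h)
    rw [e, mem_bot] at hu
    exact cb (by rw [← e', hu, one_smul])
  obtain ⟨z, hz, z2⟩ := cauchy Nat.prime_two (((O_pig _ _).of_le inf_le_left).dvd ((O_pig _ _).nil.Z_ne_bot n0))
  have l1 : O[{2}](𝓗 ⊓ C[P]) ≤ 𝓗 ⊓ C[JJ G a] := le_inf ((O_le _ _).trans inf_le_left) (cent_symm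
    ((closure_le _).2 fun u hu => by
      obtain ⟨k, hk, rfl⟩ := S.K_trans ⟨trivial, z2, (O_le _ _ hz.1).1⟩ hu
      exact conj_mem (normC (norm_SX a P) ⟨hk.1.1, C_le_N P (KP (mem_tc hk))⟩) hz.2))
  have PD := hP.le.trans inf_le_left
  have n : 𝓗 ≤ N[𝓗 ⊓ C[JJ G a]] := normI (normG _) (normC (JJ_norm a))
  have hP' := hn.syl S.ne hp (ne_two_of_odd hp (odd_of_le S.odd inf_le_left) hd) inf_le_left
    (L := 𝓗 ⊓ C[JJ G a]) (by rwa [inf_right_comm, inf_eq_right.2 (inf_le_left : 𝓓 ≤ 𝓗)]) l1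
  refine ⟨inf_le_left, inf_le_left, fun g hg => ?_⟩
  obtain ⟨w, hw, m, hm, rfl⟩ := (hP'.frattini hp inf_le_left n).ex g hg
  obtain ⟨e, he, u, hu, rfl⟩ := hn.prod S.ne PD le_rfl (l1.trans inf_le_left) hm.1
    (by rw [cj_of_mem_N hm.2]; exact PD.trans inf_le_right)
  exact ⟨w * (e * u * e⁻¹), mul_mem hw (conj_mem (n he.1) (l1 hu)), e, he.2, by group⟩

end CS

end Cfsg.Agent.SE
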