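import Cfsg.Agent.SE.CD

/-!
# C2a: invariant `q`-groups `U = [U,t]` are abelian (see `C2.lean` for the argument)
-/

set_option autoImplicit false
set_option linter.unusedVariables false
set_option linter.unusedSectionVars false

namespace Cfsg.Agent.SE
open Cfsg Cfsg.Agent.BG Cfsg.Agent.Inv MulAction Subgroup PHom

variable {G : Type*} [Group G] [Finite G] {A B D M U X Y : Subgroup G} {t x k w a : G} {p q : ℕ}

/-- `t` inverts the abelian quotients of `[X,t]` -/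
theorem inv_mod (h1 : ⁅tc t X, tc t X⁆ ≤ Y) (h2 : tc t X ≤ N[Y]) (hk : k ∈ tc t X) :
    t * k * t⁻¹ * k ∈ Y := by
  induction hk using closure_induction with
  | mem k hk => rw [hk.2, inv_mul_cancel]; exact one_mem _
  | one => simp
  | mul a b ha hb ia ib =>
    have := mul_mem (mul_mem ia (conj_mem' (h2 ha) ib)) (h1 (comm_mem (inv_mem ha) (inv_mem hb)))
    convert this using 1; group
  | inv a ha ia =>
    have := conj_mem (h2 ha) (inv_mem ia)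
    convert this using 1; group

theorem inv_of_abel (h : Abel (tc t X)) (hk : k ∈ tc t X) : t * k * t⁻¹ = k⁻¹ :=
  eq_inv_of_mul_eq_one_left (mem_bot.1 (inv_mod (abel_iff_der.1 h).le (norm_bot _) hk))

theorem inv_of_fpf (ht : orderOf t = 2) (hX : Odd #X) (hn : t ∈ N[X]) (h : X ⊓ C1[t] = ⊥) (hk : k ∈ X) :
    t * k * t⁻¹ = k⁻¹ := by
  obtain ⟨v, hv, k', hk', rfl⟩ := decomp ht hX hn hk
  rw [h, mem_bot] at hv
  rw [hv, one_mul]; exact hk'.2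

theorem abel_of_inv (h : ∀ k ∈ X, t * k * t⁻¹ = k⁻¹) : Abel X := le_C_iff.2 fun a ha b hb => by
  have e := h _ (mul_mem ha hb)
  rw [show t * (a * b) * t⁻¹ = t * a * t⁻¹ * (t * b * t⁻¹) by group, h a ha, h b hb, ← mul_inv_rev] at e
  exact (inv_injective e).symm

theorem eq_one_of_inv (hk : Odd (orderOf k)) (h : t * k * t⁻¹ = k⁻¹) (h2 : k ∈ C1[t]) : k = 1 := by
  by_contra e; exact ne_of_inv hk h e h2

theorem Cyc.exists_pow (h : Cyc A) (hx : x ∈ N[A]) : ∃ n : ℕ, ∀ a ∈ A, x * a * x⁻¹ = a ^ n := by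
  obtain ⟨y, rfl⟩ := cyc_iff.1 h
  obtain ⟨n, hn⟩ := (Submonoid.mem_powers_iff _ _).1 (mem_powers_iff_mem_zpowers.2 (conj_mem hx (mem_zpowers y)))
  refine ⟨n, ?_⟩
  rintro _ ⟨m, rfl⟩
  change x * y ^ m * x⁻¹ = (y ^ m) ^ n
  rw [← conj_zpow, ← hn, ← zpow_natCast, ← zpow_natCast, ← zpow_mul, ← zpow_mul, mul_comm]

theorem exists_eig (hq : q.Prime) (hA : Abelem q A) (h1 : A ≠ ⊥) (hx : x ∈ N[A]) (h : x ^ q = x) :
    ∃ a ∈ A, a ≠ 1 ∧ ∃ n : ℕ, x * a * x⁻¹ = a ^ n := by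
  haveI := Fact.mk hq
  haveI := hA.abel.comm
  haveI : Nontrivial A := (nontrivial_iff_ne_bot A).2 h1
  letI : CommGroup A := IsMulCommutative.instCommGroup
  obtain ⟨v, hv, n, e⟩ := Core.exists_eigenvector (V := A) (p := q) (fun v => Subtype.ext (hA.pow v v.2))
    ((aut A).app x).toMonoidHom (fun v => by
      have e : (aut A).app x ^ q = (aut A).app x := by rw [← app_pow (φ := aut A) hx, h]
      have i : ∀ n : ℕ, (((aut A).app x).toMonoidHom)^[n] v = ((aut A).app x ^ n) v := fun n => by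
        induction n with
        | zero => rfl
        | succ n ih => rw [Function.iterate_succ_apply', ih, pow_succ']; rfl
      rw [i, e]; rfl)
  exact ⟨v, v.2, fun e => hv (Subtype.ext e), n, by rw [← aut_app hx]; exact congrArg Subtype.val e⟩

namespace LD
variable (L : LD D t x p)
include L

theorem xD : x ∈ D := (mem_inf.1 L.xV).1
theorem xt : x ∈ C1[t] := (mem_inf.1 L.xV).2
theorem x_pow : x ^ p = 1 := by rw [← L.xp, pow_orderOf_eq_one]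
theorem x_ne : x ≠ 1 := fun e => L.prime.ne_one (by rw [← L.xp, e, orderOf_one])
theorem p_odd : Odd p := L.xp ▸ odd_ord_of_mem L.odd L.xD
theorem card_x : #(zpowers x) = p := by rw [card_zpowers', L.xp]
theorem pig_x : PiG {p} (zpowers x) := pig_of_card' L.prime L.card_x

theorem cx : D ⊓ C1[x] ≤ C1[t] := by
  by_contra h
  obtain ⟨k, hk, k1⟩ := exists_inv_ne L.ord (odd_of_le L.odd inf_le_left)
    (normI (zp_le L.tD) (normC1 (zp_le (C1_symm L.xt))) (mem_zpowers t)) h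
  exact k1 (L.bad k ⟨(mem_inf.1 hk.1).1, hk.2⟩ (mem_inf.1 hk.1).2)

theorem inv_KY (hY : Y ≤ D ⊓ C1[t]) (h1 : Y ≠ ⊥) (hk : k ∈ KY D t Y) : t * k * t⁻¹ = k⁻¹ :=
  inv_of_abel (L.cyc Y hY h1).abel hk

theorem norm_KY (hw : w ∈ D ⊓ C1[t] ⊓ N[Y]) : w ∈ N[KY D t Y] :=
  cent_norm_tc (normI (zp_le (normG D (mem_inf.1 (mem_inf.1 hw).1).1)) (normC (zp_le (mem_inf.1 hw).2))
    (mem_zpowers w)) (mem_inf.1 (mem_inf.1 hw).1).2

theorem cent_KY (hY : Y ≤ D ⊓ C1[t]) (h1 : Y ≠ ⊥) (hx : x ∈ N[Y]) (hw : w ∈ D ⊓ C1[t] ⊓ N[Y])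
    (ho : PiE {p}ᶜ w) : w ∈ C[KY D t Y] := by
  by_cases e : KY D t Y = ⊥
  · rw [e, C_bot]; trivial
  obtain ⟨y, hy, h⟩ := L.gal Y hY h1 hx e w hw
  have nw := L.norm_KY hw
  have ny := zp_le (L.norm_KY (mem_inf.2 ⟨L.xV, hx⟩)) hy
  rw [← aut_ker] at h ⊢
  have e := (mem_ker.1 h).2
  rw [app_mul (φ := aut _) nw ny, mul_eq_one_iff_eq_inv] at e
  refine mem_ker.2 ⟨nw, PiE.eq_one (π := {p}) ?_ (ho.app nw)⟩
  rw [e]; exact ((L.pig_x.elt hy).app ny).inv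

end LD

theorem exists_nat_pow (h : a ∈ zpowers x) : ∃ n : ℕ, a = x ^ n := by
  obtain ⟨n, hn⟩ := (Submonoid.mem_powers_iff _ _).1 (mem_powers_iff_mem_zpowers.2 h)
  exact ⟨n, hn.symm⟩

omit [Finite G] in
theorem conj_pow_cent {u m : G} (h1 : u * a * u⁻¹ = m * a) (h2 : Commute u m) (n : ℕ) :
    u ^ n * a * (u ^ n)⁻¹ = m ^ n * a := by
  induction n with
  | zero => simp
  | succ n ih =>
    rw [pow_succ', show u * u ^ n * a * (u * u ^ n)⁻¹ = u * (u ^ n * a * (u ^ n)⁻¹) * u⁻¹ by group, ih,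
      ← mul_assoc, (h2.pow_right n).eq, mul_assoc, mul_assoc, ← mul_assoc u, h1, pow_succ, mul_assoc]

/-- the subgroup `{[u,b] | b ∈ B}` -/
def cS (u : G) (B : Subgroup G) (hB : Abel B) (hu : u ∈ N[B]) : Subgroup G where
  carrier := {s | ∃ b ∈ B, s = u * b * u⁻¹ * b⁻¹}
  one_mem' := ⟨1, one_mem _, by simp⟩
  mul_mem' := by
    rintro _ _ ⟨b, hb, rfl⟩ ⟨c, hc, rfl⟩
    refine ⟨b * c, mul_mem hb hc, ?_⟩
    have := mem_C_comm hB (inv_mem hb) (mul_mem (conj_mem hu hc) (inv_mem hc))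
    rw [mul_assoc, this]; group
  inv_mem' := by
    rintro _ ⟨b, hb, rfl⟩
    refine ⟨b⁻¹, inv_mem hb, ?_⟩
    have := mem_C_comm hB hb (conj_mem hu (inv_mem hb))
    rw [inv_inv, ← this]; group

theorem der_le_cS {u : G} (hB : Abel B) (hu : u ∈ N[B]) (h : U ≤ zpowers u ⊔ B) : ⁅U, U⁆ ≤ cS u B hB hu := by
  have le : cS u B hB hu ≤ B := by
    rintro _ ⟨b, hb, rfl⟩; exact mul_mem (conj_mem hu hb) (inv_mem hb)
  have nu : u ∈ N[cS u B hB hu] := mem_N_of <| by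
    rintro _ ⟨b, hb, rfl⟩; exact ⟨u * b * u⁻¹, conj_mem hu hb, by group⟩
  refine (derS h).trans (der_sup_le ?_ ?_ (comm_zpowers_le nu fun b hb => ⟨b, hb, rfl⟩) (zp_le nu)
    (abel_norm hB le))
  · rw [abel_iff_der.1 (abel_zpowers u)]; exact bot_le
  · rw [abel_iff_der.1 hB]; exact bot_le

/-- steps 3–5 of C2a -/
theorem LD.c2a_core (L : LD D t x p) (hq : q.Prime) (qp : q ≠ p) (hU : U ≤ D) (pU : PiG {q} U)
    (tU : t ∈ N[U]) (xU : x ∈ N[U]) (e : tc t U = U) (hZ : Z[U] ⊓ C1[t] = ⊥) (cZ : Cyc Z[U])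
    (a2 : a ∈ Z2 U) (at' : a ∈ C1[t]) (aC : U ⊓ C1[t] ≤ C1[a]) (a1 : a ≠ 1) (aq : a ^ q = 1) {ν : ℕ}
    (xa : x * a * x⁻¹ = a ^ ν) : False := by
  have ht := L.ord
  have oU : Odd #U := odd_of_le L.odd hU
  have aU : a ∈ U := Z2_le U a2
  have iZ : ∀ z ∈ Z[U], t * z * t⁻¹ = z⁻¹ := fun z hz =>
    inv_of_fpf ht (odd_of_le oU inf_le_left) (normZ (zp_le tU) (mem_zpowers t)) hZ hz
  have one : ∀ z ∈ Z[U], z ∈ C1[t] → z = 1 := fun z h1 h2 => mem_bot.1 (hZ.le (mem_inf.2 ⟨h1, h2⟩))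
  have fZ : ∀ g ∈ U, g * a * g⁻¹ * a⁻¹ ∈ Z[U] := fun g hg => by
    refine mem_inf.2 ⟨mul_mem (conj_mem (normG U hg) aU) (inv_mem aU), ?_⟩
    have := inv_mem ((mem_Z2.1 a2).2 g hg)
    convert this using 1; group
  have cm : ∀ z ∈ Z[U], ∀ g ∈ U, Commute g z := fun z hz g hg => mem_C.1 (mem_inf.1 hz).2 g hg
  have fq : ∀ g ∈ U, (g * a * g⁻¹ * a⁻¹) ^ q = 1 := fun g hg => by
    have h1 : (g * a * g⁻¹ * a⁻¹ * a) ^ q = 1 := by
      rw [inv_mul_cancel_right, conj_pow, aq, mul_one, mul_inv_cancel]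
    rwa [(cm _ (fZ g hg) a aU).symm.mul_pow, aq, mul_one] at h1
  set B := U ⊓ C1[a] with hB
  have Y1 : zpowers a ≠ ⊥ := zpowers_ne_bot.2 a1
  have YV : zpowers a ≤ D ⊓ C1[t] := zp_le (mem_inf.2 ⟨hU aU, at'⟩)
  have xY : x ∈ N[zpowers a] := mem_N_of fun b hb => by
    obtain ⟨n, rfl⟩ := exists_nat_pow hb
    rw [← conj_pow, xa]; exact pow_mem (pow_mem (mem_zpowers a) _) _
  set K := KY D t (zpowers a) with hK
  have cK : Cyc K := L.cyc _ YV Y1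
  have iK : ∀ k ∈ K, t * k * t⁻¹ = k⁻¹ := fun k hk => L.inv_KY YV Y1 hk
  have CK : U ⊓ C1[t] ≤ C[K] := fun c hc => L.cent_KY YV Y1 xY
    (mem_inf.2 ⟨mem_inf.2 ⟨hU (mem_inf.1 hc).1, (mem_inf.1 hc).2⟩, C_le_N _ (by rw [C_zpowers]; exact aC hc)⟩)
    (PiN.ne_compl (pU.elt (mem_inf.1 hc).1) qp)
  have Ka : K ≤ C1[a] := (tc_le _ _).trans (inf_le_right.trans (C_zpowers a).le)
  have memK : ∀ k ∈ B, t * k * t⁻¹ = k⁻¹ → k ∈ K := fun k hk h =>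
    mem_tc ⟨mem_inf.2 ⟨hU (mem_inf.1 hk).1, by rw [C_zpowers]; exact (mem_inf.1 hk).2⟩, h⟩
  have tB : t ∈ N[B] := normI (zp_le tU) (normC1 (zp_le (C1_symm at'))) (mem_zpowers t)
  have dB : ∀ b ∈ B, ∃ c ∈ U ⊓ C1[t], ∃ z ∈ U ⊓ K, b = c * z := fun b hb => by
    obtain ⟨c, hc, z, hz, rfl⟩ := decomp ht (odd_of_le oU inf_le_left) tB hb
    exact ⟨c, mem_inf.2 ⟨(mem_inf.1 (mem_inf.1 hc).1).1, (mem_inf.1 hc).2⟩, z,
      mem_inf.2 ⟨(mem_inf.1 hz.1).1, memK z hz.1 hz.2⟩, rfl⟩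
  have CB : U ⊓ C1[t] ≤ B := le_inf inf_le_left aC
  have KB : U ⊓ K ≤ B := inf_le_inf_left _ Ka
  have ZB : Z[U] ≤ B := le_inf inf_le_left (inf_le_right.trans (C_le_C1 aU))
  have ZK : Z[U] ≤ U ⊓ K := le_inf inf_le_left fun z hz => memK z (ZB hz) (iZ z hz)
  have aB : a ∈ B := CB (mem_inf.2 ⟨aU, at'⟩)
  have nB : U ≤ N[B] := le_N_iff.2 fun g hg b hb => by
    refine mem_inf.2 ⟨conj_mem (normG U hg) (mem_inf.1 hb).1, mem_C1.2 ?_⟩
    have h1 := (cm _ (fZ g⁻¹ (inv_mem hg)) b (mem_inf.1 hb).1).mul_right (mem_C1.1 (mem_inf.1 hb).2)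
    rw [inv_mul_cancel_right, inv_inv] at h1
    calc g * b * g⁻¹ * a = g * (b * (g⁻¹ * a * g)) * g⁻¹ := by group
      _ = a * (g * b * g⁻¹) := by rw [h1.eq]; group
  have BK : B ≤ C[K] := fun b hb => by
    obtain ⟨c, hc, z, hz, rfl⟩ := dB b hb
    exact mul_mem (CK hc) (cK.abel (mem_inf.1 hz).2)
  have abB : Abel B := by
    have h1 : ⁅B, B⁆ ≤ U ⊓ C1[t] := comm_le_iff.2 fun b hb b' hb' => by
      obtain ⟨c, hc, z, hz, rfl⟩ := dB b hb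
      obtain ⟨c', hc', z', hz', e'⟩ := dB b' hb'
      have h1 : z * b' = b' * z := mem_C.1 (BK hb') z (mem_inf.1 hz).2
      have h2 : z' * c⁻¹ = c⁻¹ * z' := mem_C.1 (CK (inv_mem hc)) z' (mem_inf.1 hz').2
      have : c * z * b' * (c * z)⁻¹ * b'⁻¹ = c * c' * c⁻¹ * c'⁻¹ := by
        calc _ = c * (z * b') * z⁻¹ * c⁻¹ * b'⁻¹ := by group
          _ = c * c' * (z' * c⁻¹) * z'⁻¹ * c'⁻¹ := by rw [h1, e']; group
          _ = _ := by rw [h2]; group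
      rw [this]; exact mul_mem (mul_mem (mul_mem hc hc') (inv_mem hc)) (inv_mem hc')
    by_contra h
    refine pU.nil.meet_C (h1.trans inf_le_left) (normD nB) (mt abel_iff_der.2 h) (eq_bot_iff.2 ?_)
    exact (le_inf (inf_le_inf_right _ (h1.trans inf_le_left)) (inf_le_left.trans (h1.trans inf_le_right))).trans hZ.le
  have UB : ¬ U ≤ B := fun h => a1 (one a (mem_inf.2 ⟨aU, le_C1_iff.1 (h.trans inf_le_right)⟩) at')
  obtain ⟨w, hw, wB⟩ : ∃ w ∈ invertedBy U t, w ∉ B := by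
    by_contra h; push Not at h; exact UB (e.ge.trans (tc_le_of h))
  have wU : w ∈ U := hw.1
  set u := w * w with hu
  have uU : u ∈ U := mul_mem wU wU
  have uB : u ∉ B := fun h => wB (mem_of_sq_mem (odd_ord_of_mem oU wU) h)
  set z₁ := u * a * u⁻¹ * a⁻¹ with hz₁
  have z1Z : z₁ ∈ Z[U] := fZ u uU
  have z11 : z₁ ≠ 1 := fun h => uB (mem_inf.2 ⟨uU, mem_C1.2 (by
    rw [hz₁, mul_inv_eq_one, mul_inv_eq_iff_eq_mul] at h; exact h)⟩)
  have oz : orderOf z₁ = q := orderOf_of_pow hq (fq u uU) z11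
  have oa : orderOf a = q := orderOf_of_pow hq aq a1
  have ua : u * a * u⁻¹ = z₁ * a := by rw [hz₁, inv_mul_cancel_right]
  have una := conj_pow_cent ua (cm _ z1Z u uU)
  have gen : ∀ g ∈ U, ∃ m : ℕ, ∃ b ∈ B, g = u ^ m * b := fun g hg => by
    obtain ⟨m, hm⟩ := exists_nat_pow (cZ.le_of_dvd (zp_le (fZ g hg)) (zp_le z1Z) (by
      rw [card_zpowers', card_zpowers', oz]; exact orderOf_dvd_of_pow_eq_one (fq g hg)) (mem_zpowers _))
    refine ⟨m, (u ^ m)⁻¹ * g, mem_inf.2 ⟨mul_mem (inv_mem (pow_mem uU m)) hg, mem_C1.2 ?_⟩, by group⟩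
    rw [mul_inv_eq_iff_eq_mul, ← una] at hm
    calc (u ^ m)⁻¹ * g * a = (u ^ m)⁻¹ * (g * a * g⁻¹) * g := by group
      _ = _ := by rw [hm]; group
  have gen' : U ≤ zpowers u ⊔ B := fun g hg => by
    obtain ⟨m, b, hb, rfl⟩ := gen g hg
    exact mul_mem_sup' (pow_mem (mem_zpowers u) m) hb
  -- step 4
  have aD : a ∈ ⁅U, U⁆ := mem_of_sq_mem (odd_ord_of_mem oU aU) (by
    have := inv_mod (t := t) (X := U) (Y := ⁅U, U⁆) (k := a) (by rw [e]) (by rw [e]; exact der_norm U) (e.ge aU)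
    rwa [← mem_C1.1 at', mul_inv_cancel_right] at this)
  obtain ⟨b, hb, eb⟩ := der_le_cS abB (nB uU) gen' (conj_mem (der_norm U wU) aD)
  obtain ⟨c, hc, z, hz, rfl⟩ := dB b hb
  have cB := CB hc
  have zB := KB hz
  have nw := nB wU
  have tw : t * w * t⁻¹ = w⁻¹ := hw.2
  have tw' : t * w⁻¹ * t⁻¹ = w := by rw [← conj_inv, tw, inv_inv]
  have cj4 : ∀ g₁ g₂ : G, t * (w * g₁ * w⁻¹ * (w⁻¹ * g₂ * w)) * t⁻¹ =
      w⁻¹ * (t * g₁ * t⁻¹) * w * (w * (t * g₂ * t⁻¹) * w⁻¹) := fun g₁ g₂ => by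
    calc _ = (t * w * t⁻¹) * (t * g₁ * t⁻¹) * (t * w⁻¹ * t⁻¹) * ((t * w⁻¹ * t⁻¹) * (t * g₂ * t⁻¹) *
        (t * w * t⁻¹)) := by group
      _ = _ := by rw [tw, tw']
  have tc' : ∀ g ∈ C1[t], t * g * t⁻¹ = g := fun g hg => by rw [← mem_C1.1 hg, mul_inv_cancel_right]
  have ea : a = w * c * w⁻¹ * (w⁻¹ * c⁻¹ * w) * (w * z * w⁻¹ * (w⁻¹ * z⁻¹ * w)) := by
    have h1 := mem_C_comm abB (conj_mem' nw (inv_mem cB))
      (mul_mem (conj_mem nw zB) (conj_mem' nw (inv_mem zB)))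
    calc a = w⁻¹ * (w * a * w⁻¹) * w := by group
      _ = w * c * w⁻¹ * ((w * z * w⁻¹ * (w⁻¹ * z⁻¹ * w)) * (w⁻¹ * c⁻¹ * w)) := by rw [eb, hu]; group
      _ = _ := by rw [← h1, ← mul_assoc]
  have ez : w * z * w⁻¹ * (w⁻¹ * z⁻¹ * w) ∈ C1[t] := mem_C1'.2 <| by
    rw [← mul_inv_eq_iff_eq_mul, cj4, iK z (mem_inf.1 hz).2, iK _ (inv_mem (mem_inf.1 hz).2), inv_inv]
    exact mem_C_comm abB (conj_mem' nw (inv_mem zB)) (conj_mem nw zB)
  have ec : w * c * w⁻¹ * (w⁻¹ * c⁻¹ * w) = 1 := by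
    refine eq_one_of_inv (t := t) (odd_ord_of_mem oU (mem_inf.1 (mul_mem (conj_mem nw cB)
      (conj_mem' nw (inv_mem cB)))).1) ?_ ?_
    · rw [cj4, tc' c (mem_inf.1 hc).2, tc' _ (inv_mem (mem_inf.1 hc).2)]
      simp only [mul_inv_rev, inv_inv, mul_assoc]
    · rw [← mul_inv_eq_iff_eq_mul] at ea; rw [← ea]; exact mul_mem at' (inv_mem ez)
  rw [ec, one_mul] at ea
  have uz : u * z * u⁻¹ = (w * a * w⁻¹ * a⁻¹) * a * z := by
    rw [inv_mul_cancel_right, ea, hu]; group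
  have unz : ∀ n : ℕ, ∃ m ∈ Z[U], u ^ n * z * (u ^ n)⁻¹ = m * a ^ n * z := fun n => by
    induction n with
    | zero => exact ⟨1, one_mem _, by simp⟩
    | succ n ih =>
      obtain ⟨m, hm, ih⟩ := ih
      refine ⟨m * z₁ ^ n * (w * a * w⁻¹ * a⁻¹), mul_mem (mul_mem hm (pow_mem z1Z n)) (fZ w wU), ?_⟩
      calc _ = u * (u ^ n * z * (u ^ n)⁻¹) * u⁻¹ := by rw [pow_succ']; group
        _ = (u * m) * u⁻¹ * (u * a * u⁻¹) ^ n * (u * z * u⁻¹) := by rw [ih, conj_pow]; group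
        _ = m * z₁ ^ n * (a ^ n * (w * a * w⁻¹ * a⁻¹)) * a * z := by
          rw [(cm m hm u uU).eq, ua, (cm _ z1Z a aU).symm.mul_pow, uz]; group
        _ = _ := by rw [(cm _ (fZ w wU) _ (pow_mem aU n)).eq, pow_succ]; group
  -- step 5
  obtain ⟨μ, b₀, hb₀, xu⟩ := gen _ (conj_mem xU uU)
  obtain ⟨l, xl⟩ := Cyc.exists_pow (cK.of_le (inf_le_right : U ⊓ K ≤ K)) (normI (zp_le xU)
    (zp_le (L.norm_KY (mem_inf.2 ⟨L.xV, xY⟩))) (mem_zpowers x))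
  have cb : ∀ g ∈ B, x * u * x⁻¹ * g * (x * u * x⁻¹)⁻¹ = u ^ μ * g * (u ^ μ)⁻¹ := fun g hg => by
    rw [xu, mul_assoc (u ^ μ), mem_C_comm abB hb₀ hg]; group
  have r1 : l ≡ μ * ν [MOD q] := by
    rw [← oz, ← pow_eq_pow_iff_modEq, ← xl _ (ZK z1Z)]
    calc _ = x * u * x⁻¹ * (x * a * x⁻¹) * (x * u * x⁻¹)⁻¹ * (x * a * x⁻¹)⁻¹ := by rw [hz₁]; group
      _ = _ := by
        rw [xa, cb _ (pow_mem aB ν), ← conj_pow, una, ((cm _ z1Z a aU).symm.pow_left μ).mul_pow,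
          mul_inv_cancel_right, pow_mul]
  have r2 : μ * l ≡ ν [MOD q] := by
    obtain ⟨m, hm, h⟩ := unz μ
    have h1 : m ^ l * a ^ (μ * l) * z ^ l = (w * a * w⁻¹ * a⁻¹) ^ l * a ^ ν * z ^ l := by
      calc _ = (m * a ^ μ * z) ^ l := by
            rw [Commute.mul_pow (mem_C_comm abB (mul_mem (ZB hm) (pow_mem aB μ)) zB),
              (cm m hm _ (pow_mem aU μ)).symm.mul_pow, pow_mul]
        _ = x * (u * z * u⁻¹) * x⁻¹ := by
            rw [← h, conj_pow, ← cb _ (pow_mem zB l), ← xl z hz]; group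
        _ = _ := by rw [uz, ← xl z hz, ← xl _ (ZK (fZ w wU)), ← xa]; group
    rw [mul_left_inj] at h1
    rw [← oa, ← pow_eq_pow_iff_modEq, ← mul_inv_eq_one]
    refine one _ ?_ (mul_mem (pow_mem at' _) (inv_mem (pow_mem at' _)))
    rw [show a ^ (μ * l) * (a ^ ν)⁻¹ = (m ^ l)⁻¹ * (w * a * w⁻¹ * a⁻¹) ^ l by
      rw [mul_inv_eq_iff_eq_mul, mul_assoc, ← h1, inv_mul_cancel_left]]
    exact mul_mem (inv_mem (pow_mem hm l)) (pow_mem (fZ w wU) l)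
  have r3 : μ * μ ≡ 1 [MOD q] := by
    refine Nat.ModEq.cancel_right_of_coprime (c := ν) ((Nat.Prime.coprime_iff_not_dvd hq).2 fun h => a1 ?_) ?_
    · rw [← oa, orderOf_dvd_iff_pow_eq_one, ← xa] at h
      simpa using h
    · rw [one_mul, mul_assoc]; exact ((r1.mul_left μ).symm.trans r2)
  have xB : x ∈ N[B] := normI (zp_le xU) (by rw [← C_zpowers]; exact normC (zp_le xY)) (mem_zpowers x)
  have kB : ∀ b ∈ B, (quo B).app b = 1 := fun b hb => (mem_ker.1 ((quo_ker B).ge hb)).2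
  have q1 : (quo B).app x * (quo B).app u * ((quo B).app x)⁻¹ = (quo B).app u ^ μ := by
    rw [← app_conj (φ := quo B) xB (nB uU), xu, app_mul (φ := quo B) (nB (pow_mem uU μ)) (normG B hb₀), kB _ hb₀,
      mul_one, app_pow (φ := quo B) (nB uU)]
  have q2 : (quo B).app u ^ q = 1 := by
    rw [← app_pow (φ := quo B) (nB uU)]
    refine kB _ (mem_inf.2 ⟨pow_mem uU q, mem_C1.2 ?_⟩)
    rw [← mul_inv_eq_iff_eq_mul, una, fq u uU, one_mul]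
  have q3 : (quo B).app x ∈ C1[(quo B).app u] := by
    refine mem_of_sq_mem ((odd_ord_of_mem L.odd L.xD).of_dvd_nat (orderOf_app_dvd (φ := quo B) xB)) (mem_C1.2 ?_)
    rw [← mul_inv_eq_iff_eq_mul]
    calc _ = (quo B).app x * ((quo B).app x * (quo B).app u * ((quo B).app x)⁻¹) * ((quo B).app x)⁻¹ := by group
      _ = _ := by
        rw [q1, ← conj_pow, q1, ← pow_mul]
        nth_rewrite 2 [← pow_one ((quo B).app u)]
        exact pow_eq_pow_iff_modEq.2 (r3.of_dvd (orderOf_dvd_of_pow_eq_one q2))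
  have q4 : ⁅U, zpowers x⁆ ≤ B := by
    rw [← quo_cent_iff nB (zp_le xB), im_zpowers (φ := quo B) xB, C_zpowers]
    refine (im_mono gen').trans ?_
    rw [quo_sup_r (zp_le (nB uU)), im_zpowers (φ := quo B) (nB uU)]
    exact zp_le (C1_symm q3)
  have := cop_prod_of_comm_le (zp_le xB) (L.pig_x.coprime (PiN.ne_compl (pU.of_le inf_le_left) qp))
    (Or.inl (cyc_zpowers x).sol) inf_le_left q4
  refine UB (this.sup.ge.trans (sup_le (le_trans ?_ CB) le_rfl))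
  rw [C_zpowers]
  exact le_inf inf_le_left ((inf_le_inf_right _ hU).trans L.cx)

/-- C2a -/
theorem LD.c2a (L : LD D t x p) (hq : q.Prime) (qp : q ≠ p) (hU : U ≤ D) (pU : PiG {q} U)
    (tU : t ∈ N[U]) (xU : x ∈ N[U]) (e : tc t U = U) : U ⊓ C1[t] = ⊥ := by
  by_contra C0
  have ht := L.ord
  have oU : Odd #U := odd_of_le L.odd hU
  have CV : U ⊓ C1[t] ≤ D ⊓ C1[t] := inf_le_inf_right _ hU
  have hZ : Z[U] ⊓ C1[t] = ⊥ := by
    by_contra h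
    obtain ⟨c, hc, c1⟩ := exists_mem_ne_one C0
    refine c1 (eq_one_of_inv (odd_ord_of_mem oU (mem_inf.1 hc).1) (L.inv_KY
      ((inf_le_inf_right _ inf_le_left).trans CV) h ?_) (mem_inf.1 hc).2)
    exact tc_mono t (le_inf hU (cent_symm (inf_le_left.trans inf_le_right))) (e.ge (mem_inf.1 hc).1)
  have iZ : ∀ z ∈ Z[U], t * z * t⁻¹ = z⁻¹ := fun z hz =>
    inv_of_fpf ht (odd_of_le oU inf_le_left) (normZ (zp_le tU) (mem_zpowers t)) hZ hz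
  have one : ∀ z ∈ Z[U], z ∈ C1[t] → z = 1 := fun z h1 h2 => mem_bot.1 (hZ.le (mem_inf.2 ⟨h1, h2⟩))
  have cZ : Cyc Z[U] := (L.cyc _ CV C0).of_le fun z hz => mem_tc
    ⟨mem_inf.2 ⟨hU (mem_inf.1 hz).1, centS inf_le_left (mem_inf.1 hz).2⟩, iZ z hz⟩
  have U1 : U ≠ ⊥ := fun h => C0 (by rw [h, bot_inf_eq])
  have xq : x ^ q = x := by
    obtain ⟨X, XZ, cX⟩ := (pU.of_le inf_le_left).exists_prime_sub (pU.nil.Z_ne_bot U1)
    have nX := cZ.norm_sub XZ (normZ (zp_le xU))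
    have h1 := idx_cent_prime hq cX nX
    have h2 := relIndex_dvd C[X] (zpowers x)
    rw [L.card_x, Nat.dvd_prime L.prime] at h2
    rcases h2 with h2 | h2
    · obtain ⟨z, hz, z1⟩ := exists_mem_ne_one (ne_bot_of_prime (cX ▸ hq))
      exact (z1 (L.bad z ⟨hU (mem_inf.1 (XZ hz)).1, iZ z (XZ hz)⟩
        (C1_symm (C_le_C1 hz (relIndex_eq_one.1 h2 (mem_zpowers x)))))).elim
    · rw [h2] at h1
      obtain ⟨j, hj⟩ := h1
      rw [show q = p * j + 1 by have := hq.pos; omega, pow_succ, pow_mul, L.x_pow, one_pow, one_mul]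
  have A0 : Z2 U ⊓ C1[t] ≠ ⊥ := fun h => by
    obtain ⟨z, zU, zZ, hz⟩ := pU.nil.exists_Z_mod (K := Z[U]) (L := U) inf_le_left (normZ (normG U)) (normG U) le_rfl
      (fun h => C0 (eq_bot_iff.2 ((inf_le_inf_right _ h).trans hZ.le)))
    have z2 : z ∈ Z2 U := zpowers_le.1 (le_Z2_iff.2 ⟨zp_le zU, hz.trans inf_le_right⟩)
    have tz := inv_of_fpf ht (odd_of_le oU (Z2_le U)) (normZ2 (zp_le tU) (mem_zpowers t)) h z2
    refine zZ (mem_inf.2 ⟨zU, le_C1_iff.1 (e.ge.trans (tc_le_of fun k hk => mem_C1'.2 ?_))⟩)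
    have mZ : z * k * z⁻¹ * k⁻¹ ∈ Z[U] :=
      mem_inf.2 ⟨mul_mem (conj_mem (normG U zU) hk.1) (inv_mem hk.1), (mem_Z2.1 z2).2 k hk.1⟩
    rw [← mul_inv_eq_iff_eq_mul, ← mul_inv_eq_one]
    refine one _ mZ (mem_C1'.2 ?_)
    have h1 := mem_C.1 (mem_inf.1 mZ).2 _ (inv_mem (mul_mem hk.1 zU))
    rw [← mul_inv_eq_iff_eq_mul]
    calc _ = (t * z * t⁻¹) * (t * k * t⁻¹) * (t * z * t⁻¹)⁻¹ * (t * k * t⁻¹)⁻¹ := by group
      _ = (k * z)⁻¹ * (z * k * z⁻¹ * k⁻¹) * (k * z) := by rw [tz, hk.2]; group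
      _ = _ := by rw [h1]; group
  have AC : ∀ a ∈ Z2 U ⊓ C1[t], U ⊓ C1[t] ≤ C1[a] := fun a ha c hc => mem_C1'.2 <| by
    have h1 := Z2_le U (mem_inf.1 ha).1
    rw [← mul_inv_eq_iff_eq_mul, ← mul_inv_eq_one]
    exact one _ (mem_inf.2 ⟨mul_mem (conj_mem (normG U h1) (mem_inf.1 hc).1) (inv_mem (mem_inf.1 hc).1),
      (mem_Z2.1 (mem_inf.1 ha).1).2 c (mem_inf.1 hc).1⟩) (mul_mem (mul_mem (mul_mem (mem_inf.1 ha).2
      (mem_inf.1 hc).2) (inv_mem (mem_inf.1 ha).2)) (inv_mem (mem_inf.1 hc).2))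
  have ab : Abel (Z2 U ⊓ C1[t]) := le_C_iff.2 fun a ha b hb =>
    mem_C1.1 (AC b hb (inf_le_inf_right _ (Z2_le U) ha))
  obtain ⟨a, ha, a1, ν, xa⟩ := exists_eig hq (ab.Om_abelem q)
    ((pU.of_le (inf_le_left.trans (Z2_le U))).Om_ne_bot A0)
    (normOm q (normI (normZ2 (zp_le xU)) (normC1 (zp_le L.xt))) (mem_zpowers x)) xq
  obtain ⟨ha, aq⟩ := ab.mem_Om.1 ha
  exact L.c2a_core hq qp hU pU tU xU e hZ cZ (mem_inf.1 ha).1 (mem_inf.1 ha).2 (AC a ha) a1 aq xa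

end Cfsg.Agent.SE
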