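import Cfsg.Agent.Char.Coh3
import Cfsg.Agent.BG.Base3

/-!
# C7a: exceptional characters for an abelian TI subgroup, and the final arithmetic of C7
-/

set_option autoImplicit false

namespace Cfsg.Agent.SE
open Cfsg Cfsg.Agent.BG Cfsg.Agent.Char Subgroup
open scoped ComplexConjugate

theorem ti_abel {G : Type*} [Group G] [Fintype G] {K N : Subgroup G} (hKN : K ≤ N) (hn : N ≤ N[K])
    (hTI : ∀ g, g ∉ N → ∀ k ∈ K, g * k * g⁻¹ ∈ K → k = 1)
    (hC : ∀ k ∈ K, k ≠ 1 → N ⊓ C1[k] ≤ K) (hab : Abel K) (h1 : K ≠ ⊥) :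
    ∃ (m : ℕ) (E : Finset (IrrCharacter G)) (θ : G → ℂ), m * K.relIndex N + 1 = #K ∧ E.card ≤ m ∧
      (m = 1 → E = ∅) ∧ IsGeneralizedCharacter G θ ∧ classInner θ θ = K.relIndex N + 1 ∧
      (∀ ζ : IrrCharacter G, ζ ∉ E → ∃ c, ∀ k ∈ K, k ≠ 1 → (ζ : G → ℂ) k = c) ∧
      ∀ f, IsClassFunction G f → ∀ c, (∀ k ∈ K, k ≠ 1 → f k = c) → classInner f θ = c := by
  classical
  haveI := BG.normal_subgroupOf hn
  have := Fintype.ofFinite N
  have := Fintype.ofFinite (K.subgroupOf N)
  have hC' := centralizer_le_subgroupOf hC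
  have cK : Nat.card (K.subgroupOf N) = #K := Nat.card_congr (subgroupOfEquivOfLe hKN).toEquiv
  have h2 : ⁅K.subgroupOf N, K.subgroupOf N⁆ ≤ ⊥ := Subgroup.commutator_le.2 fun a ha b hb => by
    rw [Subgroup.mem_bot, commutatorElement_eq_one_iff_mul_comm]
    exact Subtype.ext (mem_C_comm hab ha hb)
  set S := seqInd (K.subgroupOf N) ⊥ with hS
  have irr : ∀ φ ∈ S, IsIrrCharacter N φ := fun φ h => isIrr_of_mem_inducedIrrAbove hC' (mem_seqInd.1 h)
  have deg : ∀ φ ∈ S, φ 1 = K.relIndex N := fun φ h => degree_eq_of_commutator_le h2 (mem_seqInd.1 h)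
  have van : ∀ φ ∈ S, ∀ x : N, (x : G) ∉ K → φ x = 0 := fun φ h x hx =>
    apply_eq_zero_of_mem_inducedIrrAbove (mem_seqInd.1 h) hx
  have e0 : 0 < K.relIndex N := relIndex_pos K N
  have cnt : S.card * K.relIndex N + 1 = #K := by
    have := sum_seqInd_sq_of_irr (K := K.subgroupOf N) (A := ⊥) fun φ h => irr φ (mem_seqInd.2 h)
    rw [← hS, Finset.sum_congr rfl fun φ h => by rw [deg φ h, Complex.natCast_re], Finset.sum_const, nsmul_eq_mul,
      relIndex_bot_left, cK, sq, ← mul_assoc, mul_comm] at this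
    have := mul_left_cancel₀ (by exact_mod_cast e0.ne') this
    exact_mod_cast eq_sub_iff_add_eq.1 this
  obtain ⟨φ₀, h0⟩ : S.Nonempty := Finset.card_pos.1 (Nat.pos_of_ne_zero fun e => by
    have := one_lt_card h1; rw [e] at cnt; omega)
  obtain ⟨ε, -, μ, h4, -, h6⟩ := exists_exceptional_TI (T := K) hTI (fun φ : S => (φ : N → ℂ))
    (fun φ => irr _ φ.2) Subtype.val_injective (fun a b x hx => by rw [van _ a.2 x hx, van _ b.2 x hx])
    fun a b => by rw [deg _ a.2, deg _ b.2]
  set α : N → ℂ := indFun (K.subgroupOf N) (fun _ => 1) - φ₀ with hα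
  have α1 : α 1 = 0 := by rw [hα, Pi.sub_apply, indFun_one, deg _ h0, mul_one]; exact sub_self _
  have α0 : ∀ x : N, (x : G) ∉ K → α x = 0 := fun x hx => by
    rw [hα, Pi.sub_apply, van _ h0 x hx, indFun_eq_zero_of_normal (K.subgroupOf N) _ hx, sub_self]
  have gα : IsGeneralizedCharacter N α := isGen_one.indFun.sub (irr _ h0).isGen
  have one : classInner (fun _ => 1) α = 1 := by
    rw [hα, classInner_sub_right, classInner_indFun_right _ _ (isClassFunction_const 1),
      isIrrCharacter_one.classInner_self,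
      classInner_eq_zero_comm.1 (classInner_one_of_mem_inducedIrrAbove (mem_seqInd.1 h0)), sub_zero]
  refine ⟨S.card, if S.card = 1 then ∅ else Finset.univ.image fun φ : S => ⟨μ φ, h4 φ⟩, indFun N α, cnt, ?_,
    fun e => if_pos e, gα.indFun, ?_, fun ζ hζ => ?_, fun f hf c hc => ?_⟩
  · split_ifs
    · simp
    · exact Finset.card_image_le.trans (by simp)
  · rw [classInner_indFun_TI hTI gα.isClassFunction α0 α0 α1]
    nth_rewrite 1 [hα]
    rw [classInner_sub_left, classInner_eq_of_const (K := K.subgroupOf N) (c := K.relIndex N) (fun k hk _ => ?_)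
      α0 α1, one, hα, classInner_sub_right, (irr _ h0).classInner_self]
    · obtain ⟨θ, t1, t2, -, rfl⟩ := mem_seqInd.1 h0
      rw [indFun_eq_or_orth t1 isIrrCharacter_one fun e => ?_]
      · ring
      · exact t2 (by
          obtain ⟨g, hg⟩ := (indFun_eq_iff t1 isIrrCharacter_one).1 e
          by_contra h; exact conjBy_ne_one h g hg)
    · rw [indFun_of_normal _ _ ⟨k, hk⟩, Finset.sum_const, Finset.card_univ, nsmul_eq_mul, mul_one,
        ← Nat.card_eq_fintype_card, ← (K.subgroupOf N).card_mul_index, Nat.cast_mul,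
        inv_mul_cancel_left₀ (Char.card_ne_zero _)]
      rfl
  · obtain ⟨k₀, hk₀, k1⟩ := exists_mem_ne_one h1
    have eq : ∀ φ ∈ S, classInner (fun x : N => (ζ : G → ℂ) x) φ = classInner (fun x : N => (ζ : G → ℂ) x) φ₀ :=
      fun φ h => by
        by_cases e : φ = φ₀
        · rw [e]
        have n : ∀ ψ : S, classInner (ζ : G → ℂ) (μ ψ) = 0 := fun ψ => ζ.2.classInner_of_ne (h4 ψ) fun e' => hζ (by
          rw [if_neg fun c => e (Finset.card_le_one.1 c.le _ h _ h0)]
          exact Finset.mem_image.2 ⟨ψ, Finset.mem_univ _, Subtype.ext e'.symm⟩)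
        rw [← sub_eq_zero, ← classInner_sub_right, ← classInner_indFun_right _ _ ζ.2.isClassFunction,
          h6 ⟨φ, h⟩ ⟨φ₀, h0⟩, classInner_smul_right, classInner_sub_right, n, n]
        simp
    refine ⟨_, fun k hk h => apply_eq_of_orth_span1 (K := K.subgroupOf N) (ζ.2.isClassFunction.restrict N)
      (fun β hβ => ?_) (a := ⟨k, hKN hk⟩) (b := ⟨k₀, hKN hk₀⟩) hk (fun e => h (congrArg Subtype.val e)) hk₀
      fun e => k1 (congrArg Subtype.val e)⟩
    rw [← inducedIrrAbove_bot_eq hC', ← coe_seqInd] at hβ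
    have : (K.relIndex N : ℂ) * classInner (fun x : N => (ζ : G → ℂ) x) β =
        classInner (fun x : N => (ζ : G → ℂ) x) φ₀ * conj (β 1) := by
      have := hβ.1
      clear hβ
      induction this using Submodule.span_induction with
      | mem φ h => rw [eq φ h, deg φ h, map_natCast, mul_comm]
      | zero => simp [classInner_zero_right]
      | add _ _ _ _ a b => rw [classInner_add_right, mul_add, a, b, Pi.add_apply, map_add, mul_add]
      | smul n _ _ a => rw [classInner_zsmul_right, mul_left_comm, a]; simp [mul_left_comm]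
    rw [hβ.2, map_zero, mul_zero, mul_eq_zero] at this
    exact this.resolve_left (by exact_mod_cast e0.ne')
  · rw [classInner_indFun_right _ _ hf, classInner_eq_of_const (K := K.subgroupOf N) (c := c)
      (fun k hk h => hc k hk fun e => h (Subtype.ext e)) α0 α1, one, mul_one]

theorem sq_lt_two_pow {v : ℕ} (h : 5 ≤ v) : v ^ 2 < 2 ^ v := by
  induction v, h using Nat.le_induction with
  | base => norm_num
  | succ v h ih => rw [pow_succ 2]; nlinarith

theorem c7_arith {ι : Type*} [DecidableEq ι] (A E : Finset ι) (a c : ι → ℤ) {n v m : ℕ} (h2 : 2 ≤ v)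
    (hn : n + 1 = 2 ^ v) (hm : m * (2 * v) + 1 = n) (hE : E.card ≤ m) (hE1 : m = 1 → E = ∅)
    (ha : ∀ i ∈ A, 0 < a i) (hs : ∑ i ∈ A, a i + 1 = n) (hc : ∀ i ∈ A, i ∉ E → (n : ℤ) ∣ c i - 2 * a i)
    (hq : ∑ i ∈ A, c i ^ 2 + 1 ≤ 2 * v) (hA : n ≤ v * A.card) : False := by
  have m1 : 1 ≤ m := Nat.pos_of_ne_zero fun e => by
    have : 2 ^ 2 ≤ 2 ^ v := Nat.pow_le_pow_right (by norm_num) h2
    rw [e] at hm; omega
  have A1 : 2 * m + 1 ≤ A.card := by
    by_contra e
    have : v * A.card ≤ v * (2 * m) := Nat.mul_le_mul_left _ (by omega)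
    nlinarith
  have n5 : 5 ≤ n := by nlinarith
  set B := (A \ E).filter fun i => c i ^ 2 < 4 with hB
  have key : ∀ i ∈ B, 1 ≤ c i ^ 2 ∧ (n : ℤ) ≤ 2 * a i + 1 := fun i hi => by
    obtain ⟨hi, h4⟩ := Finset.mem_filter.1 hi
    obtain ⟨hi, h5⟩ := Finset.mem_sdiff.1 hi
    obtain ⟨j, hj⟩ := hc i hi h5
    have a1 := ha i hi
    have a2 := Finset.single_le_sum (fun i hi => (ha i hi).le) hi
    have c1 : -2 < c i ∧ c i < 2 := ⟨by nlinarith, by nlinarith⟩
    have j1 : j ≤ -1 := by
      by_contra e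
      have : 0 ≤ (n : ℤ) * j := mul_nonneg (by omega) (by omega)
      omega
    have j2 : (n : ℤ) * j ≤ n * (-1) := mul_le_mul_of_nonneg_left j1 (by omega)
    refine ⟨?_, by omega⟩
    by_contra e
    have c0 : c i = 0 := by nlinarith
    by_cases j3 : j = -1
    · have : (n : ℤ) = 2 * (m * v) + 1 := by rw [← hm]; push_cast; ring
      rw [j3, c0] at hj; omega
    · have : (n : ℤ) * j ≤ n * (-2) := mul_le_mul_of_nonneg_left (by omega) (by omega)
      omega
  have BA : B ⊆ A := (Finset.filter_subset _ _).trans Finset.sdiff_subset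
  have B1 : B.card ≤ 1 := by
    have h1 : ∑ i ∈ A, (2 + if i ∈ B then (n : ℤ) - 3 else 0) ≤ ∑ i ∈ A, 2 * a i := Finset.sum_le_sum fun i hi => by
      split_ifs with h
      · have := (key i h).2; omega
      · have := ha i hi; omega
    rw [Finset.sum_add_distrib, Finset.sum_ite_mem, Finset.inter_eq_right.2 BA, ← Finset.mul_sum] at h1
    simp only [Finset.sum_const, nsmul_eq_mul] at h1
    by_contra e
    have : (2 : ℤ) * (n - 3) ≤ B.card * (n - 3) := mul_le_mul_of_nonneg_right (by omega) (by omega)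
    omega
  have h1 : ∑ i ∈ A \ E, (4 - if i ∈ B then (3 : ℤ) else 0) ≤ ∑ i ∈ A, c i ^ 2 :=
    (Finset.sum_le_sum fun i hi => by
      split_ifs with h
      · have := (key i h).1; omega
      · rw [hB, Finset.mem_filter] at h; push Not at h; have := h hi; omega).trans
    (Finset.sum_le_sum_of_subset_of_nonneg Finset.sdiff_subset fun i _ _ => sq_nonneg _)
  rw [Finset.sum_sub_distrib, Finset.sum_ite_mem,
    Finset.inter_eq_right.2 (show B ⊆ A \ E from Finset.filter_subset _ _)] at h1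
  simp only [Finset.sum_const, nsmul_eq_mul] at h1
  have h3 := Finset.le_card_sdiff E A
  by_cases e : m = 1
  · have : E.card = 0 := by rw [hE1 e]; rfl
    have h5 : 5 ≤ v := by omega
    have := sq_lt_two_pow h5
    rw [← hn, ← hm, e] at this; nlinarith
  · have h4 : 2 * m + 1 ≤ v := by omega
    have := sq_lt_two_pow (v := v) (by omega)
    rw [← hn, ← hm] at this; nlinarith

end Cfsg.Agent.SE
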