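import Cfsg.Agent.SE.C1
import Cfsg.Agent.SE.C2a
import Cfsg.Agent.SE.C7a
import Cfsg.Agent.Perm.Hecke
import Cfsg.Agent.Char.Galois
import Cfsg.Agent.S0157

/-!
# C7b: the permutation character on the involutions, when involutions with the same fixed point commute
-/

set_option autoImplicit false
set_option linter.unusedVariables false
set_option linter.unusedSectionVars false

namespace Cfsg.Agent.SE
open Cfsg Cfsg.Agent.BG Cfsg.Agent.Inv Cfsg.Agent.Char Cfsg.Agent.Perm MulAction Subgroup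

/-- the involutions of `G` -/
abbrev Ivs (G : Type*) [Group G] := {u : G // orderOf u = 2}

variable {G Ω : Type*} [Group G] [MulAction G Ω] {a c d : Ω} {g : G} {u w w' : Ivs G}

instance Ivs.act : MulAction G (Ivs G) where
  smul g u := ⟨g * u.1 * g⁻¹, ord_conj u.2 g⟩
  one_smul u := Subtype.ext (by change 1 * u.1 * 1⁻¹ = u.1; simp)
  mul_smul g h u := Subtype.ext (by change g * h * u.1 * (g * h)⁻¹ = g * (h * u.1 * h⁻¹) * g⁻¹; group)

theorem Ivs.smul_val (g : G) (u : Ivs G) : (g • u).1 = g * u.1 * g⁻¹ := rfl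
theorem Ivs.smul_eq : g • u = w ↔ g * u.1 * g⁻¹ = w.1 := Subtype.ext_iff
theorem Ivs.smul_self : g • u = u ↔ g ∈ C1[u.1] := by rw [Ivs.smul_eq, mul_inv_eq_iff_eq_mul, mem_C1]


theorem pch_eq {X : Type*} [Fintype X] [DecidableEq X] [MulAction G X] (g : G) :
    pch G X g = ∑ x : X, if g • x = x then 1 else 0 := by
  rw [Finset.sum_boole, pch, Nat.card_coe_set_eq, ← Set.ncard_coe_finset]
  congr 2; ext x; simp

/-- the fixed point of an involution -/
noncomputable def Fix1.fx (S : Fix1 G Ω) (u : Ivs G) : Ω := (S.ex u.1 u.2).choose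

namespace Fix1
variable (S : Fix1 G Ω)

theorem fx_fix (u : Ivs G) : u.1 • S.fx u = S.fx u := (S.ex u.1 u.2).choose_spec
theorem fx_eq : S.fx u = c ↔ u.1 • c = c := ⟨fun h => h ▸ S.fx_fix u, fun h => S.uniq u.2 (S.fx_fix u) h⟩
theorem fx_smul (g : G) (u : Ivs G) : S.fx (g • u) = g • S.fx u := S.fx_eq.2 (by
  rw [Ivs.smul_val, mul_smul, mul_smul, inv_smul_smul, S.fx_fix])
theorem fx_iv : S.fx u = c ↔ u.1 ∈ Iv (⊤ : Subgroup G) c := S.fx_eq.trans ⟨fun h => ⟨trivial, u.2, h⟩, fun h => h.2.2⟩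

variable [Finite G]

theorem uniq_swap (h : S.fx w' ≠ S.fx w) : ∃! u : Ivs G, u.1 • w' = w := by
  obtain ⟨u, -, ou, e, -⟩ := S.exists_swap w'.2 (S.fx_fix w') w.2 (S.fx_fix w) h
  have k : ∀ u : Ivs G, u.1 • w' = w → u.1 • S.fx w = S.fx w' := fun u e => by
    rw [← e, S.fx_smul, smul_smul_of_ord u.2]
  have e' : (⟨u, ou⟩ : Ivs G).1 • w' = w := Ivs.smul_eq.2 e
  refine ⟨⟨u, ou⟩, e', fun u' e2 => Subtype.ext ?_⟩
  have n : u • S.fx w ≠ S.fx w := (k _ e').trans_ne h
  obtain ⟨y, hy, e3⟩ := S.swap_conj ou (mem_top u) n u'.2 (mem_top _) ((k _ e2).trans (k _ e').symm)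
  have e4 : u'.1 = y * y * u := by
    calc _ = y * (u * y * u⁻¹)⁻¹ * u := by rw [← e3]; group
      _ = _ := by rw [hy.2, inv_inv]
  have e5 := S.K_free ou n w.2 (S.fx_fix w) (k := y * y) ⟨mul_mem (mem_inf.1 hy.1).2 (mem_inf.1 hy.1).2, by
    rw [← conj_mul, hy.2, mul_inv_rev]⟩ (by
      have := Ivs.smul_eq.1 e2
      rw [e4] at this
      nth_rewrite 2 [← this]
      rw [← e]; group)
  rw [e4, e5, one_mul]

end Fix1

/-- `MC` with commuting involutions in point stabilizers -/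
structure CI (G Ω : Type*) [Group G] [MulAction G Ω] : Prop extends MC G Ω where
  comm : ∀ (c : Ω), ∀ s ∈ Iv (⊤ : Subgroup G) c, ∀ u ∈ Iv (⊤ : Subgroup G) c, s * u = u * s

namespace CI
variable [Fintype G] [Fintype Ω] [DecidableEq G] [DecidableEq Ω] (S : CI G Ω)

theorem smul_self : u.1 • w = w ↔ S.fx u = S.fx w := by
  rw [Ivs.smul_self, mem_C1]
  exact ⟨fun h => S.fx_eq.2 (S.fix_of_comm w.2 (S.fx_fix w) h), fun h => S.comm _ _ (S.fx_iv.1 h) _ (S.fx_iv.1 rfl)⟩

theorem card_fib (a c : Ω) : (Finset.univ.filter fun u => S.fx u = c).card = nI (⊤ : Subgroup G) a := by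
  rw [S.nI_eq a c, nI, ← Set.ncard_coe_finset, ← Set.ncard_image_of_injective _ Subtype.val_injective]
  congr 1; ext s
  exact ⟨by rintro ⟨u, hu, rfl⟩; exact S.fx_iv.1 (by simpa using hu),
    fun h => ⟨⟨s, h.2.1⟩, by simpa using S.fx_iv.2 h, rfl⟩⟩

theorem sum_fx (a : Ω) (φ : Ω → ℂ) : ∑ w, φ (S.fx w) = nI (⊤ : Subgroup G) a * ∑ c, φ c := by
  rw [← Finset.sum_fiberwise' _ S.fx, Finset.mul_sum]
  exact Finset.sum_congr rfl fun c _ => by rw [Finset.sum_const, S.card_fib a, nsmul_eq_mul]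

theorem sum_fib (a c : Ω) : ∑ w, (if S.fx w = c then 1 else 0 : ℂ) = nI (⊤ : Subgroup G) a := by
  rw [S.sum_fx a fun d => if d = c then 1 else 0]; simp

include S in
theorem card_Ivs (a : Ω) : (Fintype.card (Ivs G) : ℂ) = nI (⊤ : Subgroup G) a * Fintype.card Ω := by
  simpa using S.sum_fx a fun _ => 1

theorem sum_conj (a : Ω) (w' w : Ivs G) : ∑ u : Ivs G, (if u.1 • w' = w then 1 else 0 : ℂ) =
    nI (⊤ : Subgroup G) a * (if w' = w then 1 else 0) + (1 - if S.fx w' = S.fx w then 1 else 0) := by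
  by_cases h : S.fx w' = S.fx w
  · rw [if_pos h, sub_self, add_zero]
    split_ifs with e
    · subst e; simp only [S.smul_self]; rw [S.sum_fib a, mul_one]
    · rw [mul_zero]
      refine Finset.sum_eq_zero fun u _ => if_neg fun e' => e ?_
      rw [← e', S.smul_self.2 (S.fx_eq.2 (by rw [← S.fx_smul, e', h]))]
  · obtain ⟨u, h1, h2⟩ := S.uniq_swap h
    rw [if_neg h, if_neg fun e => h (congrArg _ e), Finset.sum_eq_single u fun u' _ n => if_neg fun e => n (h2 u' e),
      if_pos h1] <;> simp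

include S in
theorem sum_move (a c d : Ω) : ∑ u : Ivs G, (if u.1 • c = d then 1 else 0 : ℂ) = nI (⊤ : Subgroup G) a := by
  by_cases e : c = d
  · subst e; simp only [← S.fx_eq]; exact S.sum_fib a c
  obtain ⟨s, hs⟩ := S.iv c
  have h := S.fx_iv.2 (show (⟨s, hs.2.1⟩ : Ivs G).1 ∈ _ from hs)
  set w' : Ivs G := ⟨s, hs.2.1⟩
  calc _ = ∑ u : Ivs G, ∑ w, (if S.fx w = d then 1 else 0 : ℂ) * if u.1 • w' = w then 1 else 0 :=
        Finset.sum_congr rfl fun u _ => by simp [S.fx_smul, h]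
    _ = ∑ w, (if S.fx w = d then 1 else 0 : ℂ) := by
        rw [Finset.sum_comm]
        refine Finset.sum_congr rfl fun w _ => ?_
        rw [← Finset.mul_sum, S.sum_conj a]
        split_ifs with h1 h2 h3 h3 <;> simp_all
    _ = _ := S.sum_fib a d

include S in
theorem eigen (a : Ω) (g : G) : ∑ u : Ivs G, (pch G (Ivs G) - pch G Ω) (u.1 * g) =
    nI (⊤ : Subgroup G) a * (pch G (Ivs G) - pch G Ω) g := by
  simp only [Pi.sub_apply, pch_eq, Finset.sum_sub_distrib, mul_smul]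
  rw [Finset.sum_comm, Finset.sum_comm (t := (Finset.univ : Finset Ω))]
  simp only [S.sum_conj a, S.sum_move a, S.fx_smul, Finset.sum_add_distrib, ← Finset.mul_sum]
  rw [S.sum_fx a fun c => 1 - if g • c = c then 1 else 0]
  simp only [Finset.sum_sub_distrib, Finset.sum_const, nsmul_eq_mul]
  ring

include S in
theorem eigen_irr (a : Ω) (s : Ivs G) {ζ : G → ℂ} (h : IsIrrCharacter G ζ) (g : G) :
    ∑ u : Ivs G, ζ (u.1 * g) = nI (⊤ : Subgroup G) a * Fintype.card Ω * ζ s.1 / ζ 1 * ζ g := by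
  have k : ∀ F : G → ℂ, ∑ g, (if orderOf g = 2 then 1 else 0) * F g = ∑ u : Ivs G, F u.1 := fun F => by
    simp only [ite_mul, one_mul, zero_mul]
    rw [← Finset.sum_filter]
    exact Finset.sum_subtype _ (by simp) F
  have := h.sum_mul_apply_mul (f := fun g => if orderOf g = 2 then 1 else 0)
    (fun g x => by simp only [show orderOf (x * g * x⁻¹) = orderOf g from (MulAut.conj x).orderOf_eq g]) g
  have e : ∑ u : Ivs G, ζ u.1 = ∑ u : Ivs G, ζ s.1 := Finset.sum_congr rfl fun u _ => by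
    obtain ⟨x, e⟩ := S.conj s.2 u.2
    rw [← e, h.isClassFunction]
  rw [k fun u => ζ (u * g), k, e, Finset.sum_const, nsmul_eq_mul, Finset.card_univ, S.card_Ivs a] at this
  rw [this]; ring

/-- the constituents of the permutation character on the involutions -/
theorem consts (tr : Tr2 G Ω) (s : Ivs G) (gen : ∀ w w' : Ivs G, ∃ g : G, g • w = w' ∧ g • w' = w) :
    IsIrrCharacter G (fun g => pch G Ω g - 1) ∧ (fun g => pch G Ω g - 1) ≠ (fun _ => 1) ∧
    ∃ (A : Finset (IrrCharacter G)) (α : IrrCharacter G → ℤ),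
      (∀ ζ ∈ A, ζ.1 ≠ (fun _ => 1) ∧ ζ.1 ≠ (fun g => pch G Ω g - 1) ∧ 0 < α ζ ∧ ζ.1 1 = Fintype.card Ω * α ζ) ∧
      ∑ ζ ∈ A, α ζ + 1 = nI (⊤ : Subgroup G) (S.fx s) ∧
      A.card + 2 = Nat.card (orbitRel.Quotient (stabilizer G s) (Ivs G)) := by
  classical
  set n := nI (⊤ : Subgroup G) (S.fx s) with hn
  haveI := S.nt
  haveI : IsPretransitive G Ω := ⟨S.tr⟩
  haveI : IsPretransitive G (Ivs G) := ⟨fun w w' => (gen w w').imp fun _ h => h.1⟩
  have c2 : 1 < Fintype.card Ω := Fintype.one_lt_card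
  have n0 : (n : ℂ) ≠ 0 := by
    rw [hn, ← S.card_fib _ (S.fx s)]
    exact Nat.cast_ne_zero.2 (Finset.card_ne_zero.2 ⟨s, by simp⟩)
  have i0 := (S0157.result (G := G) Ω (by rwa [Nat.card_eq_fintype_card])).2
    (is_two_pretransitive_iff.2 fun h1 h2 => tr _ _ _ _ h1 h2)
  have πs : pch G Ω s.1 = 1 := by
    simp only [pch_eq, ← S.fx_eq]; simp
  have Ps : pch G (Ivs G) s.1 = n := by
    simp only [pch_eq, S.smul_self, eq_comm (a := S.fx s)]; exact S.sum_fib _ _
  have ne : (fun g => pch G Ω g - 1) ≠ (fun _ => 1) := fun e => by simpa [πs] using congrFun e s.1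
  refine ⟨i0, ne, ?_⟩
  set χ : G → ℂ := fun g => pch G Ω g - 1 with hχ
  have π_eq : pch G Ω = χ + fun _ => 1 := by ext g; simp [hχ]
  set Φ := pch G (Ivs G) - pch G Ω with hΦ
  have cΦ : IsClassFunction G Φ := (isCharacter_perm _).isClassFunction.sub (isCharacter_perm _).isClassFunction
  have eig : ∀ ζ : IrrCharacter G, classInner Φ ζ ≠ 0 → ζ.1 1 = Fintype.card Ω * ζ.1 s.1 := fun ζ h => by
    have e : ∑ ψ : IrrCharacter G, (classInner Φ ψ * (n * Fintype.card Ω * ψ.1 s.1 / ψ.1 1)) • ψ.1 = (n : ℂ) • Φ := by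
      ext g
      rw [Pi.smul_apply, smul_eq_mul, hΦ, ← S.eigen, ← hΦ, Finset.sum_apply]
      simp only [cΦ.apply_eq_sum_irr (_ * g)]
      rw [Finset.sum_comm]
      exact Finset.sum_congr rfl fun ψ _ => by
        rw [← Finset.mul_sum, S.eigen_irr (S.fx s) s ψ.2, Pi.smul_apply, smul_eq_mul, mul_assoc]
    have := congrArg (classInner · ζ) e
    simp only [classInner_sum_irr, classInner_smul_left] at this
    rw [mul_comm, mul_left_inj' h, div_eq_iff ζ.2.one_ne_zero, mul_assoc, mul_right_inj' n0] at this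
    exact this.symm
  have m1 : classInner Φ (fun _ => 1) = 0 := by
    by_contra h
    have := eig (irrOne G) h
    rw [irrOne_coe, mul_one] at this
    exact c2.ne (by exact_mod_cast (show (1 : ℂ) = _ from this))
  have m2 : classInner Φ χ = 0 := by
    by_contra h
    have := eig ⟨χ, i0⟩ h
    simp only [hχ, πs, sub_self, mul_zero] at this
    exact i0.one_ne_zero this
  set A := Finset.univ.filter fun ζ : IrrCharacter G => classInner Φ ζ ≠ 0 with hA
  have k : ∀ ζ ∈ A, ζ.1 ≠ (fun _ => 1) ∧ ζ.1 ≠ χ ∧ classInner Φ ζ = 1 := fun ζ h => by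
    have h := (Finset.mem_filter.1 h).2
    have h1 : ζ.1 ≠ fun _ => 1 := fun e => h (e ▸ m1)
    have h2 : ζ.1 ≠ χ := fun e => h (e ▸ m2)
    have e : classInner Φ ζ = classInner (pch G (Ivs G)) ζ := by
      rw [hΦ, classInner_sub_left, π_eq, classInner_add_left, i0.classInner_of_ne ζ.2 h2.symm,
        isIrrCharacter_one.classInner_of_ne ζ.2 h1.symm, add_zero, sub_zero]
    exact ⟨h1, h2, e ▸ (real_of_generous gen ζ.2 (e ▸ h)).1⟩
  have k' : ∀ ζ : IrrCharacter G, classInner Φ ζ = if ζ ∈ A then 1 else 0 := fun ζ => by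
    split_ifs with h
    · exact (k ζ h).2.2
    · simpa [hA] using h
  choose α hα using fun ζ : IrrCharacter G => ζ.2.isGen.exists_int_of_pow s.1 fun m hm => by
    rw [s.2, Nat.coprime_two_right] at hm
    obtain ⟨j, rfl⟩ := hm
    rw [pow_succ, pow_mul, sq, mul_self_of_ord s.2, one_pow, one_mul]
  refine ⟨A, α, fun ζ h => ?_, ?_, ?_⟩
  · have e := eig ζ (Finset.mem_filter.1 h).2
    rw [hα] at e
    refine ⟨(k ζ h).1, (k ζ h).2.1, ?_, e⟩
    obtain ⟨d, d0, hd⟩ := ζ.2.exists_nat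
    rw [hd] at e
    have : (d : ℤ) = Fintype.card Ω * α ζ := by exact_mod_cast e
    exact (mul_pos_iff_of_pos_left (by exact_mod_cast c2.le : (0 : ℤ) < Fintype.card Ω)).1
      (by rw [← this]; exact_mod_cast d0)
  · have := cΦ.apply_eq_sum_irr s.1
    simp only [k', hα, ite_mul, one_mul, zero_mul, Finset.sum_ite_mem, Finset.univ_inter] at this
    rw [hΦ, Pi.sub_apply, πs, Ps] at this
    exact_mod_cast (sub_eq_iff_eq_add.1 this).symm
  · have h1 := pch_pch (G := G) s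
    have h2 := cΦ.classInner_eq_sum_irr Φ
    simp only [k', ite_mul, one_mul, zero_mul, Finset.sum_ite_mem, Finset.univ_inter] at h2
    rw [Finset.sum_congr rfl fun ζ h => by rw [if_pos h, map_one], Finset.sum_const, nsmul_eq_mul, mul_one] at h2
    rw [show pch G (Ivs G) = Φ + (χ + fun _ => 1) by rw [← π_eq, hΦ, sub_add_cancel]] at h1
    simp only [classInner_add_left, classInner_add_right, h2, m1, m2, classInner_eq_zero_comm.1 m1,
      classInner_eq_zero_comm.1 m2, i0.classInner_self, isIrrCharacter_one.classInner_self,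
      i0.classInner_of_ne isIrrCharacter_one ne, isIrrCharacter_one.classInner_of_ne i0 ne.symm] at h1
    exact Nat.cast_injective (R := ℂ) (by rw [← h1]; push_cast; ring)

end CI

end Cfsg.Agent.SE
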