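import Cfsg.Agent.SE.A1
import Cfsg.Agent.SE.B
import Cfsg.Agent.SE.Bt

/-!
# Part C: definitions

`CS G Ω a t`: the setting of part C (`H = G_a`, `D = G_{a,ta}`, `V = C_D(t)`).
`LD D t x p`: the information on `D⟨t⟩` used in C2 and C3: `x ∈ V` of prime order `p` centralizes no
inverted element, and `KY D t Y = ⟨C_K(Y)⟩` is a cyclic group for `1 ≠ Y ≤ V`, on which `N_V(Y)` acts as `⟨x⟩`.
-/

set_option autoImplicit false

namespace Cfsg.Agent.SE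
open Cfsg Cfsg.Agent.BG Cfsg.Agent.Inv MulAction Subgroup

/-- the setting of part C -/
structure CS (G Ω : Type*) [Group G] [MulAction G Ω] (a : Ω) (t : G) : Prop extends MC G Ω where
  g1 : G1 G Ω
  tr2 : Tr2 G Ω
  good : Good G Ω
  ord : orderOf t = 2
  ne : t • a ≠ a

variable {G : Type*} [Group G]

/-- the subgroup generated by the elements of `C_D(Y)` inverted by `t` -/
abbrev KY (D : Subgroup G) (t : G) (Y : Subgroup G) : Subgroup G := tc t (D ⊓ C[Y])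

/-- local information on `D⟨t⟩` -/
structure LD (D : Subgroup G) (t x : G) (p : ℕ) : Prop where
  ord : orderOf t = 2
  odd : Odd #D
  tD : t ∈ N[D]
  prime : p.Prime
  xp : orderOf x = p
  xV : x ∈ D ⊓ C1[t]
  bad : ∀ k ∈ invertedBy D t, k ∈ C1[x] → k = 1
  cyc : ∀ Y ≤ D ⊓ C1[t], Y ≠ ⊥ → Cyc (KY D t Y)
  card : ∀ Y ≤ D ⊓ C1[t], Y ≠ ⊥ → x ∈ N[Y] → KY D t Y ≠ ⊥ → #(KY D t Y) + 1 = 2 ^ p
  gal : ∀ Y ≤ D ⊓ C1[t], Y ≠ ⊥ → x ∈ N[Y] → KY D t Y ≠ ⊥ →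
    ∀ w ∈ D ⊓ C1[t] ⊓ N[Y], ∃ y ∈ zpowers x, w * y ∈ C[KY D t Y]

end Cfsg.Agent.SE
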