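import Cfsg.Agent.Inv.R1k
import Cfsg.Agent.PF.FT
import Cfsg.Agent.Blk.ZStar

/-!
# Bender reduction: definitions

`Fix1 G Ω`: every involution of `G` fixes exactly one point of `Ω` (no transitivity, so it passes to
subgroups for free; all local statements are written for an ambient subgroup `M`).
Goal (`SE.Main`): `Fix1`, a four-group in `M ⊓ St a`, `¬ M ≤ St a` give `∃ Q, Concl M a Q`.
Minimal counterexample: `MC G Ω`.  Chain: `MC.g1` (part A), `good_of_g1`, `tr2_of_g1` (part B),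
`MC.concl` (part C).
-/

set_option autoImplicit false

namespace Cfsg.Agent.SE
open Cfsg Cfsg.Agent.BG Cfsg.Agent.Inv MulAction Subgroup

variable {G Ω : Type*} [Group G] [MulAction G Ω]

/-- every involution fixes exactly one point -/
structure Fix1 (G Ω : Type*) [Group G] [MulAction G Ω] : Prop where
  ex : ∀ s : G, orderOf s = 2 → ∃ a : Ω, s • a = a
  uniq : ∀ {s : G} {a b : Ω}, orderOf s = 2 → s • a = a → s • b = b → a = b

/-- point stabilizer -/
abbrev St (G : Type*) {Ω : Type*} [Group G] [MulAction G Ω] (a : Ω) : Subgroup G := stabilizer G a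

/-- `M` contains a four-group -/
def FourIn (M : Subgroup G) : Prop :=
  ∃ x ∈ M, ∃ y ∈ M, orderOf x = 2 ∧ orderOf y = 2 ∧ x ≠ y ∧ x * y = y * x

/-- `b` lies in the `M`-orbit of `a` -/
def Orb (M : Subgroup G) (a b : Ω) : Prop := ∃ m ∈ M, m • a = b

/-- kernel of `M` on the orbit of `a` -/
def Ker (M : Subgroup G) (a : Ω) : Subgroup G where
  carrier := {k | k ∈ M ∧ ∀ b, Orb M a b → k • b = b}
  one_mem' := ⟨one_mem _, fun _ _ => one_smul _ _⟩
  mul_mem' := fun {x y} hx hy => ⟨mul_mem hx.1 hy.1, fun b hb => by rw [mul_smul, hy.2 b hb, hx.2 b hb]⟩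
  inv_mem' := fun {x} hx => ⟨inv_mem hx.1, fun b hb => by rw [inv_smul_eq_iff, hx.2 b hb]⟩

/-- involutions of `M` fixing `a` -/
def Iv (M : Subgroup G) (a : Ω) : Set G := {s | s ∈ M ∧ orderOf s = 2 ∧ s • a = a}

/-- number of involutions of `M` fixing `a` -/
noncomputable def nI (M : Subgroup G) (a : Ω) : ℕ := (Iv M a).ncard

/-- number of elements of `X` inverted by `t`; for `X` odd and `t`-invariant this is `|X : C_X(t)|` -/
noncomputable def kc (t : G) (X : Subgroup G) : ℕ := (invertedBy X t).ncard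

/-- `[X, t]`, as the subgroup generated by the elements of `X` inverted by `t` -/
def tc (t : G) (X : Subgroup G) : Subgroup G := closure (invertedBy X t)

/-- the `p`-part of `n` -/
abbrev pp (p n : ℕ) : ℕ := p ^ n.factorization p

/-- The conclusion for `M` acting on the orbit of `a`: `Q ⊴ M_a` is regular on the other points of
the orbit, modulo the kernel. -/
structure Concl (M : Subgroup G) (a : Ω) (Q : Subgroup G) : Prop where
  le : Q ≤ M ⊓ St G a
  norm : M ⊓ St G a ≤ N[Q]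
  trans : ∀ b c, Orb M a b → Orb M a c → b ≠ a → c ≠ a → ∃ q ∈ Q, q • b = c
  reg : ∀ q ∈ Q, ∀ b, Orb M a b → b ≠ a → q • b = b → q ∈ Ker M a

/-- minimal counterexample -/
structure MC (G Ω : Type*) [Group G] [MulAction G Ω] : Prop extends Fix1 G Ω where
  simple : IsSimpleGroup G
  tr : ∀ a b : Ω, ∃ g : G, g • a = b
  nt : Nontrivial Ω
  four : FourIn (⊤ : Subgroup G)
  ih : ∀ M : Subgroup G, M ≠ ⊤ → ∀ a : Ω, FourIn (M ⊓ St G a) → ¬ M ≤ St G a → ∃ Q, Concl M a Q

/-- (G1): an element inverted by `t` that fixes the fixed point of `t` and a second point is `1` -/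
def G1 (G Ω : Type*) [Group G] [MulAction G Ω] : Prop :=
  ∀ (t k : G) (a c : Ω), orderOf t = 2 → t • c = c → t * k * t⁻¹ = k⁻¹ → k • c = c → k • a = a →
    a ≠ c → k = 1

/-- double transitivity -/
def Tr2 (G Ω : Type*) [Group G] [MulAction G Ω] : Prop :=
  ∀ a b c d : Ω, a ≠ b → c ≠ d → ∃ g : G, g • a = c ∧ g • b = d

/-- a subgroup with three fixed points is centralized by involutions swapping any two of them -/
def Good (G Ω : Type*) [Group G] [MulAction G Ω] : Prop :=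
  ∀ (Y : Subgroup G) (a b c : Ω), a ≠ b → a ≠ c → b ≠ c → Y ≤ St G a → Y ≤ St G b → Y ≤ St G c →
    ∃ u ∈ C[Y], orderOf u = 2 ∧ u • a = b

/-- (P1) for the prime `p`: a Sylow `p`-subgroup of some two point stabilizer fixes only the two points -/
def P1 (G Ω : Type*) [Group G] [MulAction G Ω] (p : ℕ) : Prop :=
  ∃ a b : Ω, a ≠ b ∧ ∃ P, Syl p P (St2 G a b) ∧ ∀ c, P ≤ St G c → c = a ∨ c = b

variable {M X Y : Subgroup G} {a b c : Ω} {t k g : G}

theorem mem_St : g ∈ St G a ↔ g • a = a := Iff.rfl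
theorem mem_St2 : g ∈ St2 G a b ↔ g • a = a ∧ g • b = b := Iff.rfl
theorem mem_Ker : k ∈ Ker M a ↔ k ∈ M ∧ ∀ b, Orb M a b → k • b = b := Iff.rfl
theorem mem_Iv : t ∈ Iv M a ↔ t ∈ M ∧ orderOf t = 2 ∧ t • a = a := Iff.rfl
theorem mem_inv : k ∈ invertedBy X t ↔ k ∈ X ∧ t * k * t⁻¹ = k⁻¹ := Iff.rfl

theorem Orb.refl (M : Subgroup G) (a : Ω) : Orb M a a := ⟨1, one_mem _, one_smul _ _⟩
theorem Orb.symm (h : Orb M a b) : Orb M b a := by
  obtain ⟨m, hm, rfl⟩ := h; exact ⟨m⁻¹, inv_mem hm, inv_smul_smul _ _⟩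
theorem Orb.trans (h : Orb M a b) (h' : Orb M b c) : Orb M a c := by
  obtain ⟨m, hm, rfl⟩ := h; obtain ⟨m', hm', rfl⟩ := h'
  exact ⟨m' * m, mul_mem hm' hm, mul_smul _ _ _⟩
theorem Orb.smul (h : Orb M a b) (hg : g ∈ M) : Orb M a (g • b) := h.trans ⟨g, hg, rfl⟩
theorem Orb.mono (h : Orb X a b) (hX : X ≤ M) : Orb M a b := by
  obtain ⟨m, hm, rfl⟩ := h; exact ⟨m, hX hm, rfl⟩
theorem orb_smul (hg : g ∈ M) (a : Ω) : Orb M a (g • a) := ⟨g, hg, rfl⟩

theorem Ker_le (M : Subgroup G) (a : Ω) : Ker M a ≤ M := fun _ h => h.1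
theorem Ker_le_St (h : Orb M a b) : Ker M a ≤ St G b := fun _ hk => hk.2 b h
theorem Ker_congr (h : Orb M a b) : Ker M a = Ker M b := by
  ext k; exact ⟨fun hk => ⟨hk.1, fun c hc => hk.2 c (h.trans hc)⟩,
    fun hk => ⟨hk.1, fun c hc => hk.2 c (h.symm.trans hc)⟩⟩
theorem Ker_norm (M : Subgroup G) (a : Ω) : M ≤ N[Ker M a] :=
  le_N_iff.2 fun g hg k hk => ⟨mul_mem (mul_mem hg hk.1) (inv_mem hg), fun b hb => by
    rw [mul_smul, mul_smul, hk.2 _ (hb.smul (inv_mem hg)), smul_inv_smul]⟩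
/-- a normal subgroup of `M` fixing `a` lies in the kernel -/
theorem le_Ker (h1 : X ≤ M) (h2 : M ≤ N[X]) (h3 : X ≤ St G a) : X ≤ Ker M a := by
  rintro x hx; refine ⟨h1 hx, ?_⟩
  rintro b ⟨m, hm, rfl⟩
  have := h3 (conj_mem' (h2 hm) hx)
  rw [mem_St, mul_smul, mul_smul, inv_smul_eq_iff] at this; exact this

theorem cj_St (g : G) (a : Ω) : cj g (St G a) = St G (g • a) := by
  ext x; rw [mem_cj, mem_St, mem_St, mul_smul, mul_smul, inv_smul_eq_iff]
theorem cj_St2 (g : G) (a b : Ω) : cj g (St2 G a b) = St2 G (g • a) (g • b) := by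
  rw [St2, cj_inf, cj_St, cj_St]
theorem St2_comm (a b : Ω) : St2 G a b = St2 G b a := inf_comm _ _
/-- the normalizer of `Y` permutes the fixed points of `Y` -/
theorem fix_smul (hg : g ∈ N[Y]) (h : Y ≤ St G a) : Y ≤ St G (g • a) := by
  intro y hy
  have := h (conj_mem' hg hy)
  rw [mem_St, mul_smul, mul_smul, inv_smul_eq_iff] at this; exact this

theorem FourIn.mono (h : FourIn X) (hX : X ≤ M) : FourIn M := by
  obtain ⟨x, hx, y, hy, h⟩ := h; exact ⟨x, hX hx, y, hX hy, h⟩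

theorem mul_self_of_ord (ht : orderOf t = 2) : t * t = 1 := by
  rw [← pow_two, ← ht, pow_orderOf_eq_one]
theorem inv_of_ord (ht : orderOf t = 2) : t⁻¹ = t := inv_eq_of_mul_eq_one_left (mul_self_of_ord ht)
theorem smul_smul_of_ord (ht : orderOf t = 2) (a : Ω) : t • t • a = a := by
  rw [← mul_smul, mul_self_of_ord ht, one_smul]
theorem ord_conj (ht : orderOf t = 2) (g : G) : orderOf (g * t * g⁻¹) = 2 := by
  rw [← ht]; exact (MulAut.conj g).orderOf_eq t
theorem norm_St2 (ht : orderOf t = 2) (a : Ω) : t ∈ N[St2 G a (t • a)] := by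
  rw [mem_N_iff_cj, cj_St2, smul_smul_of_ord ht, St2_comm]

end Cfsg.Agent.SE
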