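import Cfsg.Agent.SE.A
import Cfsg.Agent.SE.C

/-!
# The Bender reduction

`bender`: strong induction on `#M` over all `G : Type u`, `Ω : Type v`.  Replace `(G, Ω)` by `M / Ker M a` acting on the orbit of `a`
(the kernel is odd; involutions and four-groups lift / descend).  So `G` is faithful and transitive.  If `G` is simple, `MC G Ω` holds
(`ih` from the induction hypothesis).  Otherwise let `1 < N < G` be normal.  `N` odd: `le_St_of_four` makes `N` fix `a`, so `N = 1`.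
`N` even: `N` contains all involutions, is transitive, induction gives `Q ⊴ N_a` regular on `Ω - a`; `Q` is a 2-group
(`R1.isTT`, `.two`) of odd index in `N_a`, so characteristic, so normal in `G_a`.
-/

set_option autoImplicit false
set_option linter.unusedVariables false
set_option linter.unusedSectionVars false

namespace Cfsg.Agent.SE
open Cfsg Cfsg.Agent.BG Cfsg.Agent.Inv MulAction Subgroup

universe v

variable {G Ω : Type*} [Group G] [Finite G] [MulAction G Ω]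

theorem MC.concl (S : MC G Ω) (a : Ω) : ∃ Q, Concl (⊤ : Subgroup G) a Q := by
  have := S.nt
  obtain ⟨t, -, -, -, ht, -⟩ := S.four
  exact S.concl_of_good S.g1 (S.toFix1.tr2_of_g1 S.tr S.four S.g1) (S.toFix1.good_of_g1 S.tr ht S.g1) a

theorem Concl.lift {M : Subgroup G} {a : Ω} {Q : Subgroup (Pm M a)} (h : Concl ⊤ (pt (Orb.refl M a)) Q) :
    Concl M a ((pm M a).pre Q) := by
  have o : ∀ c : orbit M a, Orb (⊤ : Subgroup (Pm M a)) (pt (Orb.refl M a)) c := fun c =>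
    (Fix1.pm_tr _ c).imp fun _ e => ⟨trivial, e⟩
  refine ⟨fun q hq => ⟨(PHom.mem_pre.1 hq).1, (pm_smul_eq (PHom.mem_pre.1 hq).1).1 (h.le (PHom.mem_pre.1 hq).2).2⟩,
    PHom.norm_pre (φ := pm M a) inf_le_left ((pm_St (pt (Orb.refl M a))).le.trans ((le_inf le_top le_rfl).trans h.norm)),
    fun b c hb hc n1 n2 => ?_, fun q hq b hb n e => ?_⟩
  · obtain ⟨q, hq, e⟩ := h.trans (pt hb) (pt hc) (o _) (o _) (fun e => n1 (congrArg Subtype.val e))
      fun e => n2 (congrArg Subtype.val e)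
    obtain ⟨g, hg, rfl⟩ := pm_surj q
    exact ⟨g, PHom.mem_pre.2 ⟨hg, hq⟩, (pm_smul_eq hg).1 e⟩
  · obtain ⟨h1, h2⟩ := PHom.mem_pre.1 hq
    exact ⟨h1, fun c hc => (pm_smul_eq h1).1 ((h.reg _ h2 (pt hb) (o _) (fun e => n (congrArg Subtype.val e))
      ((pm_smul_eq h1).2 e)).2 (pt hc) (o _))⟩

theorem Fix1.concl_of_normal (S : Fix1 G Ω) [FaithfulSMul G Ω] (tr : ∀ a b : Ω, ∃ g : G, g • a = b)
    (h4 : FourIn (⊤ : Subgroup G)) {a : Ω} (hM : ¬ (⊤ : Subgroup G) ≤ St G a) {N : Subgroup G} [N.Normal]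
    (h1 : N ≠ ⊥) (ih : FourIn (N ⊓ St G a) → ¬ N ≤ St G a → ∃ Q, Concl N a Q) :
    ∃ Q, Concl (⊤ : Subgroup G) a Q := by
  have o : ∀ b c : Ω, Orb (⊤ : Subgroup G) b c := fun b c => (tr b c).imp fun _ e => ⟨trivial, e⟩
  obtain ⟨z, -, -, -, hz, -⟩ := id h4
  obtain ⟨c, hc⟩ := S.ex z hz
  have nc := not_le_St_orb hM (o a c)
  have f := fun b => S.four_St hz (mem_top z) hc nc h4 (o c b)
  by_cases odd : Odd #N
  · refine absurd (eq_bot_iff.2 fun g hg => eq_of_smul_eq_smul (α := Ω) fun b => ?_) h1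
    rw [one_smul]
    exact S.le_St_of_four odd ((f b).mono (inf_le_inf_right _ (norm_of_normal ⊤))) hg
  obtain ⟨s, hs, s2⟩ := exists_ord_two odd
  have iv : ∀ u : G, orderOf u = 2 → u ∈ N := fun u hu => by
    obtain ⟨m, -, rfl⟩ := S.conj_in hz (mem_top z) hc nc hu (mem_top u)
    obtain ⟨m', -, rfl⟩ := S.conj_in hz (mem_top z) hc nc s2 (mem_top s)
    simpa [mul_assoc] using conj_mem (norm_of_normal ⊤ (mem_top (m * m'⁻¹))) hs
  obtain ⟨s₀, hs₀⟩ := S.exists_iv hz (mem_top z) hc (o c a)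
  have oN : ∀ b, Orb N a b := fun b => by
    obtain ⟨u, hu⟩ := S.exists_iv hz (mem_top z) hc (o c b)
    exact S.orb_of_inv hs₀.2.1 (iv _ hs₀.2.1) hs₀.2.2 hu.2.1 (iv _ hu.2.1) hu.2.2
  obtain ⟨t, -, ht, ha⟩ := S.exists_move hM hs₀
  have nN : ¬ N ≤ St G a := fun e => ha (e (iv t ht))
  have f4 : FourIn (N ⊓ St G a) := by
    obtain ⟨x, hx, y, hy, x2, y2, h⟩ := f a
    exact ⟨x, ⟨iv x x2, hx.2⟩, y, ⟨iv y y2, hy.2⟩, x2, y2, h⟩
  obtain ⟨Q, hQ⟩ := ih f4 nN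
  have k : Ker N a = ⊥ := eq_bot_iff.2 fun g hg => eq_of_smul_eq_smul (α := Ω) fun b => by
    rw [one_smul]; exact hg.2 b (oN b)
  have p2 : PiG {2} Q := pig_of_im (φ := pm N a) (hQ.le.trans inf_le_left)
    (by rw [pm_ker, k, inf_bot_eq]; exact pig_bot _) (pig_of_pg Nat.prime_two
      ((hQ.r1 S ⟨iv _ hs₀.2.1, hs₀.2⟩ ht (iv t ht) ha).isTT (S.pm_four nN (f4.mono inf_le_left))).two)
  have e := (IsProd.hall (K := N ⊓ St2 G a (t • a)) ⟨hQ.le, inf_le_inf_left _ inf_le_left, fun g hg => by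
    obtain ⟨q, hq, e⟩ := hQ.trans _ _ (oN _) (oN (g • t • a)) ha fun e => ha (smul_left_cancel g (e.trans hg.2.symm))
    have m := mul_mem (inv_mem (hQ.le hq)) hg
    exact ⟨q, hq, q⁻¹ * g, ⟨m.1, m.2, mem_St.2 (by rw [mul_smul, ← e, inv_smul_smul])⟩, by group⟩⟩ p2
    (pig2_of_odd (odd_of_le (S.odd_St2 ha.symm) inf_le_right))).eq_O hQ.norm
  exact ⟨Q, le_inf le_top (hQ.le.trans inf_le_right), e ▸ normO _ (normI (norm_of_normal _) (normsG inf_le_right)),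
    fun b c _ _ => hQ.trans b c (oN b) (oN c), fun q hq b _ n e => by
      rw [show q = 1 from k.le (hQ.reg q hq b (oN b) n e)]; exact one_mem _⟩

theorem bender_of {G : Type*} {Ω : Type v} [Group G] [Finite G] [MulAction G Ω] (S : Fix1 G Ω) (M : Subgroup G) (a : Ω)
    (h4 : FourIn (M ⊓ St G a)) (hM : ¬ M ≤ St G a)
    (ih : ∀ {G Ω : Type v} [Group G] [Finite G] [MulAction G Ω] [FaithfulSMul G Ω], Nat.card G ≤ #M → Fix1 G Ω →
      (∀ a b : Ω, ∃ g : G, g • a = b) → FourIn (⊤ : Subgroup G) → ∀ a : Ω, ¬ (⊤ : Subgroup G) ≤ St G a →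
      ∃ Q, Concl (⊤ : Subgroup G) a Q) : ∃ Q, Concl M a Q := by
  obtain ⟨s, hs, -, -, s2, -⟩ := id h4
  obtain ⟨x, y, x1, y1, n, x2, y2, c⟩ := S.pm_four hM (h4.mono inf_le_left)
  obtain ⟨b, hb, nb⟩ := exists_orb_ne hM
  obtain ⟨g, hg⟩ := Fix1.pm_tr (pt (Orb.refl M a)) (pt hb)
  obtain ⟨Q, hQ⟩ := ih (Nat.card_le_card_of_surjective _ (toPermHom M (orbit M a)).rangeRestrict_surjective)
    (S.pm_fix1 hM ⟨hs.1, s2, hs.2⟩) Fix1.pm_tr ⟨x, trivial, y, trivial, ord2_iff.2 ⟨x2, x1⟩, ord2_iff.2 ⟨y2, y1⟩, n, c⟩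
    (pt (Orb.refl M a)) fun e => nb (congrArg Subtype.val (hg.symm.trans (e (mem_top g))))
  exact ⟨_, hQ.lift⟩

theorem bender_core (n : ℕ) : ∀ {G Ω : Type v} [Group G] [Finite G] [MulAction G Ω] [FaithfulSMul G Ω],
    Nat.card G ≤ n → Fix1 G Ω → (∀ a b : Ω, ∃ g : G, g • a = b) → FourIn (⊤ : Subgroup G) → ∀ a : Ω,
    ¬ (⊤ : Subgroup G) ≤ St G a → ∃ Q, Concl (⊤ : Subgroup G) a Q := by
  induction n with
  | zero => exact fun h => absurd h (not_le.2 Nat.card_pos)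
  | succ n ih =>
    intro G Ω _ _ _ _ hn S tr h4 a hM
    have ih' : ∀ M : Subgroup G, M ≠ ⊤ → ∀ a : Ω, FourIn (M ⊓ St G a) → ¬ M ≤ St G a → ∃ Q, Concl M a Q :=
      fun M h a h1 h2 => bender_of S M a h1 h2 fun l => ih (by
        have := card_lt h.lt_top
        rw [card_top] at this; omega)
    by_cases hs : IsSimpleGroup G
    · obtain ⟨b, -, nb⟩ := exists_orb_ne hM
      exact MC.concl ⟨S, hs, tr, ⟨b, a, nb⟩, h4, ih'⟩ a
    obtain ⟨x, -, y, -, -, -, xy, -⟩ := id h4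
    have : Nontrivial G := ⟨x, y, xy⟩
    obtain ⟨N, hN, h1, h2⟩ : ∃ N : Subgroup G, N.Normal ∧ N ≠ ⊥ ∧ N ≠ ⊤ := by
      by_contra! h
      exact hs ⟨fun N hN => or_iff_not_imp_left.2 (h N hN)⟩
    exact S.concl_of_normal tr h4 hM h1 (ih' N h2 a)

theorem bender (S : Fix1 G Ω) (M : Subgroup G) (a : Ω) (h4 : FourIn (M ⊓ St G a))
    (hM : ¬ M ≤ St G a) : ∃ Q, Concl M a Q :=
  bender_of S M a h4 hM (bender_core _)

end Cfsg.Agent.SE
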