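import Cfsg.Agent.SE.Gen

/-!
# (P1) gives double transitivity (no induction hypothesis)

`n = nI ⊤ a` does not depend on `a`, `n = kc t G_{a,ta}` is odd.  Let `𝒴` be the family of pairs
`(Y, r)`: `Y` a `p`-group with at least three fixed points, `r` an involution normalizing `Y` with
`kc r Y ≥ n_p` (then `= n_p`, `kc_le_pp`).  A `t`-invariant Sylow `p`-subgroup of `G_{a,ta}` with a third fixed point
is in `𝒴`.  Take `Y` of maximal order.

`not_P1`: every pair `a,b` of `Ω_Y` has a swapping involution `w` and a `w`-invariant Sylow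
subgroup in `𝒴`, so `Y` is Sylow in `G_ab`, the pair is swapped in `N(Y)` (`swap_norm`), and `EV`
gives `fix r ∈ Ω_Y`.

`tr2_of_P1`: `P₀` is Sylow in `G` (its normalizer permutes `{a₀,b₀}`), so every `p`-subgroup fixes two points.
If all pairs have Sylow subgroups with two fixed points, they are conjugate, and swapped: done.
Otherwise `𝒴 ≠ ∅`; conjugate `Y < P₀`.
* `c = fix r ∈ Ω_Y`: for `a ∈ Ω_Y - c` an `r`-invariant Sylow `P ≥ Y` of `G_{a,ra}` is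
  `C_P(r)(K ∩ Y) ≤ G_c`, so `P = Y`; by `card_St2` `Y` is Sylow in `G_{ac}`, so `N(Y)` moves `c` to every point of
  `Ω_Y` (`swap_norm`), in particular to `a₀`: `Y` is Sylow in `G_{a₀b₀}`, false.
* `c ∉ Ω_Y`: `N = N(Y)` has no four-group (`four_St`, `le_St_of_four`).  For a pair `a,b` in `Ω_Y` let
  `R ∈ Syl_p(N_ab)`.  If `R = Y` then `Y` is Sylow in `G_ab` and the pair is swapped in `N`.  Else
  put `R` into a Sylow `S` of `N`, invariant under a conjugate `r'` of `r` (`rk1_syl`);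
  `S = C_S(r') Y` (count `kc`; `S` fixes two points), so `R` is `r'`-invariant, `Ω_R = {a,b}` by
  maximality and `r'` (no fixed point in `Ω_Y`) swaps `a,b`.  `EV` gives `c ∈ Ω_Y`.
-/

set_option autoImplicit false
set_option linter.unusedVariables false
set_option linter.unusedSectionVars false

namespace Cfsg.Agent.SE
open Cfsg Cfsg.Agent.BG Cfsg.Agent.Inv MulAction Subgroup

variable {G Ω : Type*} [Group G] [Finite G] [MulAction G Ω] {p : ℕ}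
variable {P R X Y : Subgroup G} {a b c d : Ω} {t r u w : G}

/-- `Y` has three fixed points -/
def Three (Ω : Type*) [MulAction G Ω] (Y : Subgroup G) : Prop :=
  ∃ a b c : Ω, a ≠ b ∧ a ≠ c ∧ b ≠ c ∧ Y ≤ St G a ∧ Y ≤ St G b ∧ Y ≤ St G c

theorem Three.mono (h : Three Ω Y) (h1 : X ≤ Y) : Three Ω X := by
  obtain ⟨a, b, c, h2, h3, h4, h5, h6, h7⟩ := h
  exact ⟨a, b, c, h2, h3, h4, h1.trans h5, h1.trans h6, h1.trans h7⟩

theorem not_three (ab : a ≠ b) (h1 : Y ≤ St G a) (h2 : Y ≤ St G b) :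
    ¬ Three Ω Y ↔ ∀ c, Y ≤ St G c → c = a ∨ c = b := by
  refine ⟨fun h c hc => ?_, fun h ⟨x, y, z, xy, xz, yz, hx, hy, hz⟩ => ?_⟩
  · by_contra hn; push Not at hn
    exact h ⟨a, b, c, ab, hn.1.symm, hn.2.symm, h1, h2, hc⟩
  · rcases h x hx with e1 | e1 <;> rcases h y hy with e2 | e2 <;> rcases h z hz with e3 | e3 <;> simp_all

theorem Three.exists_ne (h : Three Ω Y) (c : Ω) : ∃ a, a ≠ c ∧ Y ≤ St G a := by
  obtain ⟨a, b, -, h2, -, -, h5, h6, -⟩ := h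
  by_cases e : a = c
  · exact ⟨b, e ▸ h2.symm, h6⟩
  · exact ⟨a, e, h5⟩

namespace Fix1
variable (S : Fix1 G Ω) (tr : ∀ a b : Ω, ∃ g : G, g • a = b)
include S

theorem odd_of_three (h : Three Ω Y) : Odd #Y := by
  obtain ⟨a, b, -, h2, -, -, h5, h6, -⟩ := h; exact S.odd_of_fix h2 h5 h6

/-- a Sylow subgroup of `M_ab` with exactly two fixed points is Sylow in `M` -/
theorem syl_of_two {M : Subgroup G} (hp : p.Prime) (p2 : p ≠ 2) (ab : a ≠ b) (hP : Syl p P (M ⊓ St2 G a b))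
    (h : ∀ c, P ≤ St G c → c = a ∨ c = b) : Syl p P M :=
  Syl.of_norm (syl_of_max hp (le_inf (hP.le.trans inf_le_left) (normG _)) hP.pi fun Q h1 h2 h3 =>
    hP.max h1 (le_inf (h2.trans inf_le_left) (S.le_St2_of_odd ab (odd_of_pig2 (h1.ne_compl p2)) fun g hg =>
      ⟨h _ (fix_smul (h2 hg).2 (hP.le.trans (inf_le_right.trans inf_le_left))),
        h _ (fix_smul (h2 hg).2 (hP.le.trans (inf_le_right.trans inf_le_right)))⟩)) h3) hp

include tr

theorem orb' (a b : Ω) : Orb (⊤ : Subgroup G) a b := by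
  obtain ⟨g, hg⟩ := tr a b; exact ⟨g, trivial, hg⟩

theorem swap' (ht : orderOf t = 2) (h : a ≠ b) : ∃ w : G, orderOf w = 2 ∧ w • a = b := by
  obtain ⟨c, hc⟩ := S.ex t ht
  obtain ⟨w, -, hw⟩ := S.swap_in ht (mem_top _) hc (S.orb' tr c a) (S.orb' tr c b) h
  exact ⟨w, hw⟩

theorem kc_D' (ht : orderOf t = 2) (ha : t • a ≠ a) (b : Ω) :
    kc t (St2 G a (t • a)) = nI (⊤ : Subgroup G) b := by
  obtain ⟨c, hc⟩ := S.ex t ht
  obtain ⟨s, hs⟩ := S.exists_iv ht (mem_top _) hc (S.orb' tr c a)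
  have := S.kc_eq_nI ht (mem_top _) ha hs
  rwa [top_inf_eq, S.nI_orb (S.orb' tr a b)] at this

theorem card_D' (ht : orderOf t = 2) (hc : t • c = c) (h : a ≠ c) :
    #(St2 G a c) = #(St2 G a (t • a)) := by
  have := S.card_St2 ht (mem_top _) hc (S.orb' tr c a) h
  rwa [top_inf_eq, top_inf_eq] at this

theorem exists_syl_D (hw : orderOf w = 2) (ha : w • a ≠ a) (hp : p.Prime) (b : Ω) (hY : PiG {p} Y)
    (h1 : w ∈ N[Y]) (h2 : Y ≤ St G a) : ∃ P, Syl p P (St2 G a (w • a)) ∧ w ∈ N[P] ∧ Y ≤ P ∧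
      kc w P = pp p (nI (⊤ : Subgroup G) b) := by
  obtain ⟨P, hP, wP, YP⟩ := exists_syl_inv hw (S.odd_St2 ha.symm) (norm_St2 hw a) hp
    (le_inf h2 (fix_smul h1 h2)) hY h1
  exact ⟨P, hP, wP, YP, by rw [kc_syl hw (S.odd_St2 ha.symm) (norm_St2 hw a) hp hP wP, S.kc_D' tr hw ha b]⟩

theorem swap_of_syl (ht : orderOf t = 2) (hp : p.Prime) (ab : a ≠ b) (h : Syl p Y (St2 G a b)) :
    ∃ u ∈ N[Y], orderOf u = 2 ∧ u • a = b := by
  obtain ⟨w, ow, e⟩ := S.swap' tr ht ab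
  obtain ⟨u, hu, h⟩ := S.swap_norm hp ab (mem_top w) e (by rw [← e, smul_smul_of_ord ow]) (by rwa [top_inf_eq])
  exact ⟨u, hu.2, h⟩

theorem ne_two' (ht : orderOf t = 2) (ab : a ≠ b) (hp : p.Prime) (hd : p ∣ nI (⊤ : Subgroup G) c) : p ≠ 2 := by
  obtain ⟨w, ow, rfl⟩ := S.swap' tr ht ab
  rw [← S.kc_D' tr ow ab.symm c] at hd
  exact ne_two_of_odd hp (S.odd_St2 ab) (hd.trans (kc_dvd ow (S.odd_St2 ab) (norm_St2 ow a)))

theorem exists_maxY (ht : orderOf t = 2) (hp : p.Prime) (a₀ : Ω) (ab : a ≠ b)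
    (h : ∀ P, Syl p P (St2 G a b) → Three Ω P) :
    ∃ (Y : Subgroup G) (r : G), (PiG {p} Y ∧ orderOf r = 2 ∧ r ∈ N[Y] ∧ pp p (nI (⊤ : Subgroup G) a₀) ≤ kc r Y ∧
      Three Ω Y) ∧ ∀ (R : Subgroup G) (u : G), PiG {p} R → orderOf u = 2 → u ∈ N[R] →
        pp p (nI (⊤ : Subgroup G) a₀) ≤ kc u R → Three Ω R → #R ≤ #Y := by
  obtain ⟨w, ow, rfl⟩ := S.swap' tr ht ab
  obtain ⟨P, hP, wP, -, e⟩ := S.exists_syl_D tr ow ab.symm hp a₀ (pig_bot _) (norm_bot ⊤ (mem_top _)) bot_le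
  obtain ⟨⟨Y, r⟩, h1, h2⟩ := exists_max_of (fun x : Subgroup G × G => PiG {p} x.1 ∧ orderOf x.2 = 2 ∧
    x.2 ∈ N[x.1] ∧ pp p (nI (⊤ : Subgroup G) a₀) ≤ kc x.2 x.1 ∧ Three Ω x.1) (fun x => #x.1) (A := (P, w))
    ⟨hP.pi, ow, wP, e.ge, h P hP⟩
  exact ⟨Y, r, h1, fun R u a b c d e => h2 (R, u) ⟨a, b, c, d, e⟩⟩

theorem not_P1 [Nontrivial Ω] {t : G} (ht : orderOf t = 2) (hp : p.Prime) {a₀ : Ω}
    (hd : p ∣ nI (⊤ : Subgroup G) a₀) (h : ¬ P1 G Ω p) :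
    ∃ (Y : Subgroup G) (r : G) (a c : Ω), PiG {p} Y ∧ orderOf r = 2 ∧ r ∈ N[Y] ∧ r • c = c ∧
      a ≠ c ∧ Y ≤ St G a ∧ Y ≤ St G c ∧ kc r Y = pp p (nI (⊤ : Subgroup G) a₀) := by
  have h3 : ∀ a b : Ω, a ≠ b → ∀ P, Syl p P (St2 G a b) → Three Ω P := fun a b ab P hP => by
    by_contra hn
    exact h ⟨a, b, ab, P, hP, (not_three ab (hP.le.trans inf_le_left) (hP.le.trans inf_le_right)).1 hn⟩
  obtain ⟨a, b, ab⟩ := exists_pair_ne Ω
  obtain ⟨Y, r, ⟨hY, hr, rY, kY, tY⟩, hm⟩ := S.exists_maxY tr ht hp a₀ ab (h3 a b ab)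
  have sw : ∀ x y : Ω, x ≠ y → Y ≤ St G x → Y ≤ St G y → ∃ u ∈ N[Y], orderOf u = 2 ∧ u • x = y :=
    fun x y xy hx hy => by
      obtain ⟨w, ow, rfl⟩ := S.swap' tr ht xy
      obtain ⟨P, hP, wP, -, e⟩ := S.exists_syl_D tr ow xy.symm hp a₀ (pig_bot _) (norm_bot ⊤ (mem_top _)) bot_le
      exact S.swap_of_syl tr ht hp xy (hP.of_card_le (le_inf hx hy) hY (hm P w hP.pi ow wP e.ge (h3 _ _ xy P hP)))
  obtain ⟨c, hc⟩ := S.ex r hr
  obtain ⟨d, dc, Yd⟩ := tY.exists_ne c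
  obtain ⟨x, y, z, xy, xz, yz, hx, hy, hz⟩ := tY
  obtain ⟨P, -, -, YP, e⟩ := S.exists_syl_D tr hr (S.ne_smul hr hc dc) hp a₀ hY rY Yd
  exact ⟨Y, r, d, c, hY, hr, rY, hc, dc, Yd, S.EV le_rfl xy xz yz hx hy hz (sw _ _ xy hx hy) (sw _ _ yz hy hz)
    (sw _ _ xz.symm hz hx) hr rY hc, le_antisymm (e ▸ kc_mono r YP) kY⟩

theorem tr2_of_P1 {t : G} (ht : orderOf t = 2) (hp : p.Prime) {a₀ : Ω}
    (hd : p ∣ nI (⊤ : Subgroup G) a₀) (h : P1 G Ω p) : Tr2 G Ω := by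
  obtain ⟨a₁, b₁, ab₁, P₀, hP₀, fx₀⟩ := h
  have p2 := S.ne_two' tr ht ab₁ hp hd
  have top : ∀ {a b : Ω} {P : Subgroup G}, a ≠ b → Syl p P (St2 G a b) → (∀ c, P ≤ St G c → c = a ∨ c = b) →
      Syl p P ⊤ := fun ab hP fx => S.syl_of_two hp p2 ab (by rwa [top_inf_eq]) fx
  have hP := top ab₁ hP₀ fx₀
  have cjle : ∀ g : G, cj g P₀ ≤ St G (g • a₁) ∧ cj g P₀ ≤ St G (g • b₁) := fun g => by
    rw [← cj_St, ← cj_St]; exact ⟨cj_mono g (hP₀.le.trans inf_le_left), cj_mono g (hP₀.le.trans inf_le_right)⟩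
  by_cases h3 : ∀ a b : Ω, a ≠ b → ∃ P, Syl p P (St2 G a b) ∧ ¬ Three Ω P
  · have key : ∀ a b : Ω, a ≠ b → ∃ g : G, g • a₁ = a ∧ g • b₁ = b := fun a b ab => by
      obtain ⟨P, h1, h2⟩ := h3 a b ab
      have fx := (not_three ab (h1.le.trans inf_le_left) (h1.le.trans inf_le_right)).1 h2
      obtain ⟨g, -, rfl⟩ := Syl.conj hP hp (top ab h1 fx)
      obtain ⟨w, ow, e⟩ := S.swap' tr ht ab
      have e' : w • b = a := by rw [← e, smul_smul_of_ord ow]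
      rcases fx _ (cjle g).1 with e1 | e1 <;> rcases fx _ (cjle g).2 with e2 | e2
      · exact absurd (smul_left_cancel g (e1.trans e2.symm)) ab₁
      · exact ⟨g, e1, e2⟩
      · exact ⟨w * g, by rw [mul_smul, e1, e'], by rw [mul_smul, e2, e]⟩
      · exact absurd (smul_left_cancel g (e1.trans e2.symm)) ab₁
    intro a b c d ab cd
    obtain ⟨g, g1, g2⟩ := key a b ab
    obtain ⟨h, h1, h2⟩ := key c d cd
    exact ⟨h * g⁻¹, by rw [← g1, mul_smul, inv_smul_smul, h1], by rw [← g2, mul_smul, inv_smul_smul, h2]⟩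
  exfalso
  push Not at h3
  obtain ⟨a, b, ab, h3⟩ := h3
  obtain ⟨Y, r, ⟨hY, hr, rY, kY, tY⟩, hm⟩ := S.exists_maxY tr ht hp a₀ ab h3
  have two : ∀ R : Subgroup G, PiG {p} R → ∃ e f : Ω, e ≠ f ∧ R ≤ St G e ∧ R ≤ St G f ∧
      (Three Ω R → ¬ Syl p R (St2 G f e)) := fun R hR => by
    obtain ⟨g, -, le⟩ := Syl.sub_cj hP hp le_top hR
    refine ⟨g • a₁, g • b₁, fun e => ab₁ (smul_left_cancel g e), le.trans (cjle g).1, le.trans (cjle g).2,
      fun h3 hs => ?_⟩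
    have e := hs.max (hP₀.pi.cj g) (le_inf (cjle g).2 (cjle g).1) le
    refine (not_three ab₁ (hP₀.le.trans inf_le_left) (hP₀.le.trans inf_le_right)).2 fx₀ ?_
    obtain ⟨x, y, z, xy, xz, yz, hx, hy, hz⟩ := h3
    have f : ∀ x : Ω, R ≤ St G x → P₀ ≤ St G (g⁻¹ • x) := fun x hx => by rw [← cj_St, ← cj_le_iff, e]; exact hx
    exact ⟨_, _, _, fun e => xy (smul_left_cancel _ e), fun e => xz (smul_left_cancel _ e),
      fun e => yz (smul_left_cancel _ e), f x hx, f y hy, f z hz⟩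
  obtain ⟨c, hc⟩ := S.ex r hr
  have oY := S.odd_of_three tY
  by_cases Yc : Y ≤ St G c
  · have sy : ∀ (u : G) (e d : Ω), orderOf u = 2 → u ∈ N[Y] → u • e = e → kc u Y = kc r Y → Y ≤ St G e →
        d ≠ e → Y ≤ St G d → Syl p Y (St2 G d e) := fun u e d ou uY ue k Ye de Yd => by
      have ud := S.ne_smul ou ue de
      obtain ⟨P, hP, uP, YP, e1⟩ := S.exists_syl_D tr ou ud hp a₀ hY uY Yd
      have e2 := inv_eq_of_kc_le (t := u) YP (by rw [e1, k]; exact kY)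
      have Pe := S.le_St_of_inv ou ue (odd_of_le (S.odd_St2 ud.symm) hP.le) uP fun k hk => Ye (e2 ▸ hk).1
      have := hm P u hP.pi ou uP e1.ge ⟨d, u • d, e, ud.symm, de, S.smul_ne ou ue de,
        hP.le.trans inf_le_left, hP.le.trans inf_le_right, Pe⟩
      exact syl_of_card hp (le_inf Yd Ye) hY (by rw [S.card_D' tr ou ue de, ← Syl.card_pp hP hp]; exact this)
    obtain ⟨e, f, ef, Ye, Yf, hn⟩ := two Y hY
    refine hn tY ?_
    by_cases ec : e = c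
    · subst ec; exact sy r e f hr rY hc rfl Ye ef.symm Yf
    · obtain ⟨u, uY, ou, ue⟩ := S.swap_of_syl tr ht hp ec (sy r c e hr rY hc rfl Yc ec Ye)
      have uc : u • c = e := by rw [← ue, smul_smul_of_ord ou]
      exact sy (u * r * u⁻¹) e f (ord_conj hr u) (conj_mem (normG _ uY) rY) (uc ▸ conj_smul_fix hc u)
        (kc_conj uY r) Ye ef.symm Yf
  · have Nc : ¬ N[Y] ≤ St G c := fun e => Yc ((normG _).trans e)
    have h4 : ¬ FourIn N[Y] := fun h => Yc (S.le_St_of_four oY (S.four_St hr rY hc Nc h (Orb.refl _ _)))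
    have sw : ∀ x y : Ω, x ≠ y → Y ≤ St G x → Y ≤ St G y → ∃ u ∈ N[Y], orderOf u = 2 ∧ u • x = y :=
      fun x y xy hx hy => by
        obtain ⟨R, hR, YR⟩ := syl_superset hp (le_inf (le_inf hx hy) (normG Y)) hY
        by_cases e : R = Y
        · subst e; exact S.swap_of_syl tr ht hp xy (Syl.of_norm hR hp)
        obtain ⟨S₀, hS, rS, -⟩ := rk1_syl h4 hr rY hp p2 (normG _) hY rY
        obtain ⟨m, hm', RS⟩ := Syl.sub_cj hS hp (hR.le.trans inf_le_right) hR.pi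
        have or' := ord_conj hr m
        have r'Y : m * r * m⁻¹ ∈ N[Y] := conj_mem (normG _ hm') rY
        have r'S : m * r * m⁻¹ ∈ N[cj m S₀] := by rw [← cj_N]; exact mem_cj_conj.2 rS
        have nf : ∀ d : Ω, Y ≤ St G d → (m * r * m⁻¹) • d ≠ d := fun d Yd e => Yc (by
          have := fix_smul (inv_mem hm') Yd
          rwa [S.uniq or' e (conj_smul_fix hc m), inv_smul_smul] at this)
        obtain ⟨e1, -, -, Se, -⟩ := two _ (hS.pi.cj m)
        obtain ⟨P, -, -, SP, k⟩ := S.exists_syl_D tr or' (nf e1 ((YR.trans RS).trans Se)) hp a₀ (hS.pi.cj m) r'S Se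
        have k1 : pp p (nI (⊤ : Subgroup G) a₀) ≤ kc (m * r * m⁻¹) Y := by rw [kc_conj hm']; exact kY
        have e2 := inv_eq_of_kc_le (t := m * r * m⁻¹) (YR.trans RS) ((kc_mono _ SP).trans (k.le.trans k1))
        have r'R : m * r * m⁻¹ ∈ N[R] := mem_N_of fun g hg => by
          have := mul_mem hg (YR (e2 ▸ comm_mem_inv or' r'S (RS hg)).1)
          rwa [mul_inv_cancel_left] at this
        have Rx : R ≤ St G x := hR.le.trans (inf_le_left.trans inf_le_left)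
        have n3 : ¬ Three Ω R := fun h3 => e (eq_of_card_le YR (hm R _ hR.pi or' r'R (k1.trans (kc_mono _ YR)) h3)).symm
        exact ⟨_, r'Y, or', ((not_three xy Rx (hR.le.trans (inf_le_left.trans inf_le_right))).1 n3 _
          (fix_smul r'R Rx)).resolve_left (nf x hx)⟩
    obtain ⟨x, y, z, xy, xz, yz, hx, hy, hz⟩ := tY
    exact Yc (S.EV le_rfl xy xz yz hx hy hz (sw _ _ xy hx hy) (sw _ _ yz hy hz) (sw _ _ xz.symm hz hx) hr rY hc)

end Fix1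

end Cfsg.Agent.SE
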